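import Groth.Agent.H12AlgSp.BCMod.QCoh
import Groth.Agent.H12AlgSp.EtOpens
import Groth.Agent.H12AlgSp.EtNbhd
import Mathlib.AlgebraicGeometry.Morphisms.Flat
import Mathlib.AlgebraicGeometry.Morphisms.Affine

/-!
Quasi-coherent modules on the small etale site of an algebraic space.
-/

set_option backward.isDefEq.respectTransparency false

universe u

open CategoryTheory CategoryTheory.Limits AlgebraicGeometry Opposite
open AlgSp Groth.Agent.H12AlgSp

namespace Groth.Agent.H12AlgSp.BCMod

/-- Lifting a pushout of commutative rings one universe up. -/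
theorem isPushout_ulift {R S R' S' : CommRingCat.{u}} {f : R ⟶ S} {g : R ⟶ R'} {i : S ⟶ S'} {j : R' ⟶ S'}
    (h : IsPushout f g i j)
    {F : CommRingCat.of (ULift.{u + 1} R) ⟶ CommRingCat.of (ULift.{u + 1} S)}
    {G : CommRingCat.of (ULift.{u + 1} R) ⟶ CommRingCat.of (ULift.{u + 1} R')}
    {I : CommRingCat.of (ULift.{u + 1} S) ⟶ CommRingCat.of (ULift.{u + 1} S')}
    {K : CommRingCat.of (ULift.{u + 1} R') ⟶ CommRingCat.of (ULift.{u + 1} S')}
    (hF : ∀ x, (F x).down = f x.down) (hG : ∀ x, (G x).down = g x.down) (hI : ∀ x, (I x).down = i x.down)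
    (hK : ∀ x, (K x).down = j x.down) : IsPushout F G I K := by
  let _ : Algebra R S := f.hom.toAlgebra
  let _ : Algebra R R' := g.hom.toAlgebra
  let _ : Algebra S S' := i.hom.toAlgebra
  let _ : Algebra R' S' := j.hom.toAlgebra
  let _ : Algebra R S' := (i.hom.comp f.hom).toAlgebra
  have : IsScalarTower R S S' := IsScalarTower.of_algebraMap_eq fun _ => rfl
  have : IsScalarTower R R' S' := IsScalarTower.of_algebraMap_eq fun r => congrArg (fun m => m.hom r) h.w
  have hA : Algebra.IsPushout R S R' S' := CommRingCat.isPushout_iff_isPushout.1 h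
  let up : ∀ T : CommRingCat.{u}, T →+* ULift.{u + 1} T := fun T => ULift.ringEquiv.symm.toRingHom
  have key : ∀ s : PushoutCocone F G, ∃! m : CommRingCat.of (ULift.{u + 1} S') ⟶ s.pt,
      I ≫ m = s.inl ∧ K ≫ m = s.inr := by
    intro s
    let _ : Algebra R s.pt := (s.inl.hom.comp (F.hom.comp (up R))).toAlgebra
    let φ : S →ₐ[R] s.pt :=
      { toRingHom := s.inl.hom.comp (up S)
        commutes' := fun r => congrArg s.inl.hom (ULift.ext _ _ (hF _).symm) }
    let ψ : R' →ₐ[R] s.pt :=
      { toRingHom := s.inr.hom.comp (up R')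
        commutes' := fun r => by
          refine Eq.trans ?_ (congrArg (fun m => m.hom (up R r)) s.condition).symm
          exact congrArg s.inr.hom (ULift.ext _ _ (hG _).symm) }
    have hc : ∀ x y, φ x * ψ y = ψ y * φ x := fun _ _ => mul_comm _ _
    let d := Algebra.pushoutDesc S' φ ψ hc
    refine ⟨CommRingCat.ofHom (d.toRingHom.comp ULift.ringEquiv.toRingHom), ⟨?_, ?_⟩, fun m hm => ?_⟩
    · refine CommRingCat.hom_ext (RingHom.ext fun x => ?_)
      exact (congrArg d (hI x)).trans (Algebra.pushoutDesc_left S' φ ψ hc x.down)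
    · refine CommRingCat.hom_ext (RingHom.ext fun x => ?_)
      exact (congrArg d (hK x)).trans (Algebra.pushoutDesc_right S' φ ψ hc x.down)
    · refine CommRingCat.hom_ext (RingHom.ext fun x => ?_)
      let m' : S' →ₐ[R] s.pt :=
        { toRingHom := m.hom.comp (up S')
          commutes' := fun r => by
            refine Eq.trans ?_ (congrArg (fun g => g.hom (F (up R r))) hm.1)
            refine congrArg m.hom (ULift.ext _ _ ?_)
            exact (congrArg i.hom (hF (up R r))).symm.trans (hI _).symm }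
      have e : m' = d := Algebra.IsPushout.algHom_ext (R := R) (S := S) (R' := R') S'
        (AlgHom.ext fun y => by
          refine Eq.trans ?_ (Algebra.pushoutDesc_right S' φ ψ hc y).symm
          refine Eq.trans ?_ (congrArg (fun g => g.hom (up R' y)) hm.2)
          exact congrArg m.hom (ULift.ext _ _ (hK _).symm))
        (AlgHom.ext fun y => by
          refine Eq.trans ?_ (Algebra.pushoutDesc_left S' φ ψ hc y).symm
          refine Eq.trans ?_ (congrArg (fun g => g.hom (up S y)) hm.1)
          exact congrArg m.hom (ULift.ext _ _ (hI _).symm))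
      exact AlgHom.congr_fun e x.down
  refine ⟨⟨CommRingCat.hom_ext (RingHom.ext fun r => ULift.ext _ _ ?_)⟩, ⟨PushoutCocone.IsColimit.mk _
    (fun s => (key s).exists.choose) (fun s => (key s).exists.choose_spec.1) (fun s => (key s).exists.choose_spec.2)
    (fun s m h1 h2 => (key s).unique ⟨h1, h2⟩ (key s).exists.choose_spec)⟩⟩
  change (I (F r)).down = (K (G r)).down
  rw [hI, hF, hK, hG]
  exact congrArg (fun m => m.hom r.down) h.w

variable {S : Scheme.{u}} {X : Sp S}

/-- The small etale site with its affine objects. -/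
noncomputable def etAff (X : Sp S) : AffSite (etTop X) (OEt X).obj where
  aff E := IsAffine E.obj.left.left
  exists_pullback {E Z₁ Z₂} g₁ g₂ hE h₁ h₂ := by
    let W : Over S := Over.mk (pullback.fst g₁.hom.left.left g₂.hom.left.left ≫ Z₁.obj.left.hom)
    let p₁ : W ⟶ Z₁.obj.left := Over.homMk (pullback.fst _ _) rfl
    let p₂ : W ⟶ Z₂.obj.left := Over.homMk (pullback.snd _ _) (by
      change pullback.snd _ _ ≫ Z₂.obj.left.hom = pullback.fst _ _ ≫ Z₁.obj.left.hom
      rw [← Over.w g₁.hom.left, ← Over.w g₂.hom.left, ← Category.assoc, ← pullback.condition, Category.assoc])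
    have hp₁ : Etale p₁.left := by
      have := EtOver.etale_left g₂
      exact inferInstanceAs (Etale (pullback.fst g₁.hom.left.left g₂.hom.left.left))
    let Wo : EtOver X := EtOver.mk ((yon S).map p₁ ≫ Z₁.obj.hom)
      ((repWith_isMultiplicative (S := S) @Etale).comp_mem _ _ ((repWith_yon_map_iff _ _).2 hp₁) Z₁.property)
    have hw : p₁ ≫ g₁.hom.left = p₂ ≫ g₂.hom.left := Over.OverMorphism.ext pullback.condition
    let q₁ : Wo ⟶ Z₁ := EtOver.homMk p₁ rfl
    let q₂ : Wo ⟶ Z₂ := EtOver.homMk p₂ (by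
      change (yon S).map p₂ ≫ Z₂.obj.hom = (yon S).map p₁ ≫ Z₁.obj.hom
      rw [← EtOver.w g₁, ← EtOver.w g₂, ← Category.assoc, ← Category.assoc, ← Functor.map_comp,
        ← Functor.map_comp, hw])
    refine ⟨Wo, q₁, q₂, IsAffine.of_isPullback (IsPullback.of_hasPullback g₁.hom.left.left g₂.hom.left.left),
      ⟨⟨EtOver.hom_ext _ _ hw⟩, ⟨PullbackCone.IsLimit.mk _ (fun s => EtOver.homMk
        (Over.homMk (pullback.lift s.fst.hom.left.left s.snd.hom.left.left
          (congrArg (fun m => m.hom.left.left) s.condition)) (by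
            change pullback.lift _ _ _ ≫ pullback.fst _ _ ≫ Z₁.obj.left.hom = _
            rw [pullback.lift_fst_assoc]
            exact Over.w s.fst.hom.left)) ?_)
        (fun s => EtOver.hom_ext _ _ (Over.OverMorphism.ext (pullback.lift_fst _ _ _)))
        (fun s => EtOver.hom_ext _ _ (Over.OverMorphism.ext (pullback.lift_snd _ _ _)))
        (fun s m e₁ e₂ => EtOver.hom_ext _ _ (Over.OverMorphism.ext (pullback.hom_ext
          ((congrArg (fun m => m.hom.left.left) e₁).trans (pullback.lift_fst _ _ _).symm)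
          ((congrArg (fun m => m.hom.left.left) e₂).trans (pullback.lift_snd _ _ _).symm))))⟩⟩, ?_⟩
    · change (yon S).map _ ≫ (yon S).map p₁ ≫ Z₁.obj.hom = _
      rw [← Category.assoc, ← Functor.map_comp]
      refine Eq.trans ?_ (EtOver.w s.fst)
      congr 2
      exact Over.OverMorphism.ext (pullback.lift_fst _ _ _)
    · have sq : IsPullback q₁.hom.left.left q₂.hom.left.left g₁.hom.left.left g₂.hom.left.left :=
        IsPullback.of_hasPullback g₁.hom.left.left g₂.hom.left.left
      exact isPushout_ulift (isPushout_appTop_of_isPullback sq) (fun _ => rfl) (fun _ => rfl) (fun _ => rfl)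
        (fun _ => rfl)
  flat {E Z} g hE hZ := by
    have := EtOver.etale_left g
    have h : g.hom.left.left.appTop.hom.Flat := g.hom.left.left.flat_appTop
    exact ((RingHom.Flat.of_bijective ULift.ringEquiv.bijective).comp h).comp
      (RingHom.Flat.of_bijective (f := (ULift.ringEquiv.{u, u + 1}.symm : Γ(Z.obj.left.left, ⊤) ≃+* ULift.{u + 1} Γ(Z.obj.left.left, ⊤)).toRingHom) (RingEquiv.bijective _))
  exists_refine {E} R hE hR := by
    classical
    have key : ∀ x : E.obj.left.left, ∃ (Y : EtOver X) (f : Y ⟶ E), R f ∧ IsAffine Y.obj.left.left ∧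
        x ∈ Set.range f.hom.left.left := fun x => by
      obtain ⟨Y, f, hf, y, hy⟩ := jointly_surjective_of_mem_etTop hR x
      obtain ⟨_, ⟨V, hV, rfl⟩, hyV, -⟩ :=
        Y.obj.left.left.isBasis_affineOpens.exists_subset_of_mem_open (Set.mem_univ y) isOpen_univ
      exact ⟨etOpen Y V, etOpenι Y V ≫ f, R.downward_closed hf _, hV, ⟨⟨y, hyV⟩, hy⟩⟩
    choose Y f hf hY hx using key
    have hopen : ∀ x, IsOpen (Set.range (f x).hom.left.left) := fun x => by
      have := EtOver.etale_left (f x)
      exact (f x).hom.left.left.isOpenMap.isOpen_range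
    obtain ⟨s, hs⟩ := isCompact_univ.elim_finite_subcover (fun x => Set.range (f x).hom.left.left) hopen
      fun x _ => Set.mem_iUnion.2 ⟨x, hx x⟩
    let κ := Fin s.card
    let a : κ → E.obj.left.left := fun i => (s.equivFin.symm i).1
    have hcov : ∀ x : E.obj.left.left, ∃ i, x ∈ Set.range (f (a i)).hom.left.left := fun x => by
      obtain ⟨z, hz, hxz⟩ := Set.mem_iUnion₂.1 (hs (Set.mem_univ x))
      exact ⟨s.equivFin ⟨z, hz⟩, by rw [show a (s.equivFin ⟨z, hz⟩) = z by simp [a]]; exact hxz⟩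
    refine ⟨κ, inferInstance, fun i => Y (a i), fun i => f (a i), fun i => hY _, fun i => hf _,
      ofArrows_mem_etTop _ _ hcov, fun p => ?_⟩
    let p₀ : PrimeSpectrum Γ(E.obj.left.left, ⊤) := PrimeSpectrum.comap ULift.ringEquiv.symm.toRingHom p
    obtain ⟨x, hx'⟩ := E.obj.left.left.toSpecΓ.surjective p₀
    obtain ⟨i, y, hy⟩ := hcov x
    refine ⟨i, PrimeSpectrum.comap ULift.ringEquiv.toRingHom ((Y (a i)).obj.left.left.toSpecΓ y), ?_⟩
    have h := congrArg (fun m => m y) (Scheme.toSpecΓ_naturality (f (a i)).hom.left.left)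
    simp only [Scheme.Hom.comp_apply, hy, hx'] at h
    have hp : p = PrimeSpectrum.comap ULift.ringEquiv.toRingHom p₀ := PrimeSpectrum.ext (Ideal.ext fun _ => Iff.rfl)
    rw [hp, h]
    exact PrimeSpectrum.ext (Ideal.ext fun _ => Iff.rfl)
  exists_affine_cover E := by
    let V := E.obj.left.left.affineOpens
    refine ⟨Sieve.ofArrows (fun V : E.obj.left.left.affineOpens => etOpen E V.1) (fun V => etOpenι E V.1),
      ofArrows_mem_etTop _ _ fun x => ?_, fun Y f hf => ?_⟩
    · obtain ⟨_, ⟨V, hV, rfl⟩, hxV, -⟩ :=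
        E.obj.left.left.isBasis_affineOpens.exists_subset_of_mem_open (Set.mem_univ x) isOpen_univ
      exact ⟨⟨V, hV⟩, ⟨x, hxV⟩, rfl⟩
    · obtain ⟨_, l, _, ⟨V⟩, hl⟩ := hf
      exact ⟨etOpen E V.1, l, etOpenι E V.1, V.2, hl⟩

/-- A module on the small etale site commutes with base change between affine objects. -/
abbrev IsBCEt (M : ModEt X) : Prop := IsBCMod (Rsh := OEt X) (etAff X) M

theorem isQuasicoherent_iff_isBCEt (M : ModEt X) : M.IsQuasicoherent ↔ IsBCEt M :=
  isQuasicoherent_iff (Rsh := OEt X) (etAff X)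

end Groth.Agent.H12AlgSp.BCMod

namespace Groth.Agent.H12AlgSp.BCMod

variable {S : Scheme.{u}} (X : Sp S)

theorem qcoh_closure :
    (∀ (J : Type u) [SmallCategory J] (D : J ⥤ ModEt X) [HasColimit D],
        (∀ j, (D.obj j).IsQuasicoherent) → (colimit D).IsQuasicoherent) ∧
    (∀ (F G : ModEt X) (φ : F ⟶ G), F.IsQuasicoherent → G.IsQuasicoherent →
        (kernel φ).IsQuasicoherent ∧ (cokernel φ).IsQuasicoherent) ∧
    (∀ C : ShortComplex (ModEt X), C.ShortExact →
        (C.X₁.IsQuasicoherent → C.X₂.IsQuasicoherent → C.X₃.IsQuasicoherent) ∧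
        (C.X₁.IsQuasicoherent → C.X₃.IsQuasicoherent → C.X₂.IsQuasicoherent) ∧
        (C.X₂.IsQuasicoherent → C.X₃.IsQuasicoherent → C.X₁.IsQuasicoherent)) := by
  refine ⟨fun J _ D _ hD => ?_, fun F G φ hF hG => ?_, fun C hC => ?_⟩
  · rw [isQuasicoherent_iff_isBCEt]
    have hs : HasColimitsOfSize.{u, u} (PM (OEt X).obj) := hasColimitsOfSizeShrink.{u, u, u + 1, u + 1} _
    have h1 : ∀ {Z E : EtOver X} (g : Z ⟶ E), PreservesColimitsOfShape J (Φ (OEt X).obj g) := fun g => by
      have : PreservesColimitsOfSize.{u + 1, u + 1} (Φ (OEt X).obj g) := ⟨fun {K} _ => inferInstance⟩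
      have := preservesColimitsOfSize_shrink.{u, u + 1, u, u + 1} (Φ (OEt X).obj g)
      infer_instance
    have h2 : ∀ {Z E : EtOver X} (g : Z ⟶ E), PreservesColimitsOfShape J (Ψ (OEt X).obj g) := fun g => by
      have : PreservesColimitsOfSize.{u + 1, u + 1} (Ψ (OEt X).obj g) := ⟨fun {K} _ => inferInstance⟩
      have := preservesColimitsOfSize_shrink.{u, u + 1, u, u + 1} (Ψ (OEt X).obj g)
      infer_instance
    exact IsBCMod.colimit (colimit.cocone D) (colimit.isColimit D) fun j => (isQuasicoherent_iff_isBCEt _).1 (hD j)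
  · rw [isQuasicoherent_iff_isBCEt] at hF hG
    simp only [isQuasicoherent_iff_isBCEt]
    exact ⟨IsBCMod.kernel φ hF hG, IsBCMod.cokernel φ hF hG⟩
  · simp only [isQuasicoherent_iff_isBCEt]
    have := hC.mono_f
    have := hC.epi_g
    refine ⟨fun h₁ h₂ => ?_, fun h₁ h₃ => IsBCMod.extension (Rsh := OEt X) (A := etAff X) hC h₁ h₃, fun h₂ h₃ => ?_⟩
    · exact IsBCMod.of_iso (Rsh := OEt X) (M := cokernel C.f) (N := C.X₃)
        (IsColimit.coconePointUniqueUpToIso (colimit.isColimit (parallelPair C.f 0)) hC.gIsCokernel)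
        (IsBCMod.cokernel C.f h₁ h₂)
    · exact IsBCMod.of_iso (Rsh := OEt X) (M := kernel C.g) (N := C.X₁)
        (IsLimit.conePointUniqueUpToIso (limit.isLimit (parallelPair C.g 0)) hC.fIsKernel)
        (IsBCMod.kernel C.g h₂ h₃)

end Groth.Agent.H12AlgSp.BCMod
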