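import Groth.Agent.H12AlgSp.BCMod.EtSite

/-!
Affine criteria for morphisms of modules on the small etale site; the largest quasi-coherent submodule.
-/

set_option backward.isDefEq.respectTransparency false

universe u

open CategoryTheory CategoryTheory.Limits AlgebraicGeometry Opposite
open AlgSp Groth.Agent.H12AlgSp

namespace Groth.Agent.H12AlgSp.BCMod

variable {S : Scheme.{u}} {X : Sp S}

/-- Morphisms of modules agreeing on affine charts are equal. -/
theorem hom_ext_affine {M N : ModEt X} {a b : M ⟶ N}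
    (h : ∀ (E : EtOver X), IsAffine E.obj.left.left → ∀ z : M.val.obj (op E),
      (a.val.app (op E)).hom z = (b.val.app (op E)).hom z) : a = b := by
  apply SheafOfModules.hom_ext
  refine PresheafOfModules.hom_ext fun Y => ModuleCat.hom_ext (LinearMap.ext fun z => ?_)
  obtain ⟨R, hR, hfac⟩ := (etAff X).exists_affine_cover Y.unop
  refine sheaf_ext (Rc := (OEt X).obj) (P := toPM (Rsh := OEt X) N) N.isSheaf hR _ _ fun V f hf => ?_
  obtain ⟨B, p, q, hB, rfl⟩ := hfac f hf
  refine ((PresheafOfModules.naturality_apply a.val (p ≫ q).op z).symm.trans ?_).trans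
    (PresheafOfModules.naturality_apply b.val (p ≫ q).op z)
  rw [op_comp, M.val.map_comp]
  refine ((PresheafOfModules.naturality_apply a.val p.op ((M.val.map q.op).hom z)).trans ?_).trans
    (PresheafOfModules.naturality_apply b.val p.op ((M.val.map q.op).hom z)).symm
  exact congrArg _ (h B hB _)

/-- Evaluation of a morphism on a composite. -/
theorem comp_apply {M N P : ModEt X} (a : M ⟶ N) (b : N ⟶ P) (E : EtOver X) (z : M.val.obj (op E)) :
    ((a ≫ b).val.app (op E)).hom z = (b.val.app (op E)).hom ((a.val.app (op E)).hom z) := rfl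

theorem exists_largest_qcoh {F G : ModEt X} (hF : F.IsQuasicoherent) (ι : G ⟶ F) [Mono ι] :
    ∃ (G' : ModEt X) (κ : G' ⟶ G), Mono κ ∧ G'.IsQuasicoherent ∧
      ∀ H : ModEt X, H.IsQuasicoherent → Function.Bijective (fun φ : H ⟶ G' => φ ≫ κ) := by
  classical
  let I : Type (u + 1) := Σ E : EtOver X, { x : G.val.obj (op E) //
    ∃ (K : ModEt X) (f : K ⟶ G), IsBCEt K ∧ x ∈ Set.range (f.val.app (op E)).hom }
  choose K f hK hf using fun i : I => i.2.2
  let T : ModEt X := ∐ K
  have hT : IsBCEt T := IsBCMod.colimit (Rsh := OEt X) (A := etAff X) (colimit.cocone (Discrete.functor K))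
    (colimit.isColimit _) fun j => hK j.as
  let d : T ⟶ G := Sigma.desc f
  have hker : IsBCEt (kernel d) := IsBCMod.of_iso (Rsh := OEt X)
    (M := kernel (d ≫ ι)) (N := kernel d) (kernelCompMono d ι)
    (IsBCMod.kernel (d ≫ ι) hT ((isQuasicoherent_iff_isBCEt F).1 hF))
  let G' : ModEt X := Abelian.coimage d
  let κ : G' ⟶ G := Abelian.factorThruCoimage d
  have hG' : IsBCEt G' := IsBCMod.cokernel (kernel.ι d) hker hT
  refine ⟨G', κ, inferInstance, (isQuasicoherent_iff_isBCEt _).2 hG', fun H hH => ⟨fun a b e => ?_, fun h => ?_⟩⟩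
  · exact (cancel_mono κ).1 e
  · have hz : h ≫ cokernel.π κ = 0 := hom_ext_affine fun E hE y => by
      let i : I := ⟨E, (h.val.app (op E)).hom y, H, h, (isQuasicoherent_iff_isBCEt _).1 hH, y, rfl⟩
      obtain ⟨k, hk⟩ := hf i
      have e : Sigma.ι K i ≫ Abelian.coimage.π d ≫ κ = f i := by
        rw [Abelian.coimage.fac, Sigma.ι_desc]
      have e0 : f i ≫ cokernel.π κ = 0 := by
        rw [← e, Category.assoc, Category.assoc, cokernel.condition, comp_zero, comp_zero]
      rw [comp_apply, show (h.val.app (op E)).hom y = ((f i).val.app (op E)).hom k from hk.symm, ← comp_apply,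
        e0]
      rfl
    exact ⟨Abelian.monoLift κ h hz, Abelian.monoLift_comp κ h hz⟩

end Groth.Agent.H12AlgSp.BCMod
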