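import Groth.Agent.H12AlgSp.BCMod.EtSite
import Mathlib.Algebra.Category.ModuleCat.Presheaf.Submodule
import Mathlib.LinearAlgebra.TensorProduct.Pi
import Mathlib.RingTheory.Ideal.Operations

/-!
Quasi-coherent submodules of a quasi-coherent module, from their sections over affine charts.
-/

set_option backward.isDefEq.respectTransparency false

universe u

open CategoryTheory CategoryTheory.Limits AlgebraicGeometry Opposite
open AlgSp Groth.Agent.H12AlgSp
open scoped TensorProduct

namespace Groth.Agent.H12AlgSp.BCMod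

variable {S : Scheme.{u}} {X : Sp S}

/-- The module viewed as a presheaf of modules over the structure presheaf. -/
noncomputable abbrev pm (M : ModEt X) : PM (OEt X).obj := toPM (Rsh := OEt X) M

/-- Submodules of sections over affine charts, compatible with and generated by restriction. -/
structure AffSub (M : ModEt X) where
  obj : ∀ (E : EtOver X), IsAffine E.obj.left.left → Submodule ((OEt X).obj.obj (op E)) ((pm M).obj (op E))
  res_mem : ∀ {Z E : EtOver X} (g : Z ⟶ E) (hZ : IsAffine Z.obj.left.left) (hE : IsAffine E.obj.left.left),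
    ∀ x ∈ obj E hE, ((pm M).map g.op).hom x ∈ obj Z hZ
  gen : ∀ {Z E : EtOver X} (g : Z ⟶ E) (hZ : IsAffine Z.obj.left.left) (hE : IsAffine E.obj.left.left),
    ∀ x ∈ obj Z hZ, x ∈ Submodule.span ((OEt X).obj.obj (op Z)) (((pm M).map g.op).hom '' (obj E hE))

variable {M : ModEt X}

theorem map_comp_sec {V' V V'' : EtOver X} (a : V ⟶ V') (b : V'' ⟶ V) (x : (pm M).obj (op V')) :
    ((pm M).map b.op).hom (((pm M).map a.op).hom x) = ((pm M).map (b ≫ a).op).hom x := by
  rw [op_comp, (pm M).map_comp]; rfl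

theorem map_smul_sec {V V' : EtOver X} (a : V ⟶ V') (r : (OEt X).obj.obj (op V')) (x : (pm M).obj (op V')) :
    ((pm M).map a.op).hom (r • x) = ((OEt X).obj.map a.op).hom r • ((pm M).map a.op).hom x :=
  ((pm M).map a.op).hom.map_smul r x

theorem span_mem_range {Z E : EtOver X} (g : Z ⟶ E) (N : Submodule ((OEt X).obj.obj (op E)) (Sec (pm M) (𝟙 E)))
    (x : (pm M).obj (op Z))
    (hx : x ∈ Submodule.span ((OEt X).obj.obj (op Z)) (((pm M).map g.op).hom '' {y | toSec (pm M) (𝟙 E) y ∈ N})) :
    ∃ t : RingOf (OEt X).obj g ⊗[(OEt X).obj.obj (op E)] N,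
      ext (pm M) g (N.subtype.lTensor _ t) = toSec (pm M) g x := by
  induction hx using Submodule.span_induction with
  | mem x hx =>
    obtain ⟨y, hy, rfl⟩ := hx
    refine ⟨1 ⊗ₜ ⟨toSec (pm M) (𝟙 E) y, hy⟩, ?_⟩
    rw [LinearMap.lTensor_tmul, ext_tmul, one_smul]
    rfl
  | zero => exact ⟨0, by rw [map_zero, map_zero]; rfl⟩
  | add x y _ _ hx hy =>
    obtain ⟨t, ht⟩ := hx
    obtain ⟨t', ht'⟩ := hy
    exact ⟨t + t', by rw [map_add, map_add, ht, ht']; rfl⟩
  | smul r x _ hx =>
    obtain ⟨t, ht⟩ := hx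
    refine ⟨toRing g r • t, ?_⟩
    have key : ∀ (b : RingOf (OEt X).obj g) (s : RingOf (OEt X).obj g ⊗[(OEt X).obj.obj (op E)] N),
        ext (pm M) g (N.subtype.lTensor _ (b • s)) = b • ext (pm M) g (N.subtype.lTensor _ s) := by
      intro b s
      induction s with
      | zero => rw [smul_zero, map_zero, map_zero, smul_zero]
      | add p q hp hq => rw [smul_add, map_add, map_add, hp, hq, map_add, map_add, smul_add]
      | tmul c n =>
        rw [TensorProduct.smul_tmul', LinearMap.lTensor_tmul, LinearMap.lTensor_tmul, ext_tmul, ext_tmul,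
          smul_eq_mul, mul_smul]
    rw [key, ht]
    rfl

namespace AffSub

variable (N : AffSub M)

/-- The submodule of sections over `E` as a submodule of `Sec`. -/
noncomputable def secSub (E : EtOver X) (hE : IsAffine E.obj.left.left) :
    Submodule ((OEt X).obj.obj (op E)) (Sec (pm M) (𝟙 E)) where
  carrier := {x | ofSec (pm M) x ∈ N.obj E hE}
  add_mem' ha hb := (N.obj E hE).add_mem ha hb
  zero_mem' := (N.obj E hE).zero_mem
  smul_mem' r x hx := (N.obj E hE).smul_mem _ hx

theorem mem_of_local (hM : IsBCEt M) {E : EtOver X} (hE : IsAffine E.obj.left.left) (U : AffCov (etAff X) E)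
    (x : (pm M).obj (op E)) (hx : ∀ i, ((pm M).map (U.z i).op).hom x ∈ N.obj (U.Z i) (U.affZ i)) :
    x ∈ N.obj E hE := by
  let N₀ := N.secSub E hE
  let x' : Sec (pm M) (𝟙 E) := toSec (pm M) (𝟙 E) x
  have hflat := U.flat_z
  have h0 : (⟨N₀.mkQ x', Submodule.mem_span_singleton_self _⟩ :
      Submodule.span ((OEt X).obj.obj (op E)) {N₀.mkQ x'}) = 0 := by
    refine subsingleton_of_forall_tensor (fun i => RingOf (OEt X).obj (U.z i)) U.hsurj (fun i z => ?_) _
    refine Module.Flat.lTensor_preserves_injective_linearMap (M := RingOf (OEt X).obj (U.z i))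
      (Submodule.span ((OEt X).obj.obj (op E)) {N₀.mkQ x'}).subtype Subtype.val_injective ?_
    rw [map_zero]
    induction z with
    | zero => exact map_zero _
    | add p q hp hq => rw [map_add, hp, hq, add_zero]
    | tmul b n =>
      obtain ⟨r, hr⟩ := Submodule.mem_span_singleton.1 n.2
      rw [LinearMap.lTensor_tmul, Submodule.subtype_apply, ← hr, ← TensorProduct.smul_tmul]
      have h1 : ((1 : RingOf (OEt X).obj (U.z i)) ⊗ₜ[(OEt X).obj.obj (op E)] N₀.mkQ x') = 0 := by
        obtain ⟨t, ht⟩ := span_mem_range (U.z i) N₀ _ (N.gen (U.z i) (U.affZ i) hE _ (hx i))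
        have h2 : N₀.subtype.lTensor _ t = (1 : RingOf (OEt X).obj (U.z i)) ⊗ₜ x' :=
          (hM (U.z i) (U.affZ i) hE).1 (by rw [ht, ext_tmul, one_smul]; rfl)
        have h3 := congrArg (N₀.mkQ.lTensor (RingOf (OEt X).obj (U.z i))) h2
        rw [← LinearMap.lTensor_comp_apply, show N₀.mkQ.comp N₀.subtype = 0 from
          LinearMap.ext fun y => (Submodule.Quotient.mk_eq_zero _).2 y.2, LinearMap.lTensor_zero,
          LinearMap.zero_apply, LinearMap.lTensor_tmul] at h3
        exact h3.symm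
      rw [← mul_one (r • b), ← smul_eq_mul, ← TensorProduct.smul_tmul', h1, smul_zero]
  exact (Submodule.Quotient.mk_eq_zero N₀).1 (congrArg Subtype.val h0)

/-- The extension to all objects of the site. -/
noncomputable def sub : (pm M).Submodule where
  obj Y :=
    { carrier := {x | ∀ (E : EtOver X) (hE : IsAffine E.obj.left.left) (h : E ⟶ Y.unop),
        ((pm M).map h.op).hom x ∈ N.obj E hE}
      add_mem' := fun ha hb E hE h => by
        rw [map_add]
        exact (N.obj E hE).add_mem (ha E hE h) (hb E hE h)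
      zero_mem' := fun E hE h => by
        rw [map_zero]
        exact (N.obj E hE).zero_mem
      smul_mem' := fun r x hx E hE h => by
        rw [map_smul_sec h r x]
        exact (N.obj E hE).smul_mem _ (hx E hE h) }
  map {Y Y'} f := fun x hx E hE h => by
    have := hx E hE (h ≫ f.unop)
    rw [← map_comp_sec] at this
    exact this

theorem mem_sub {Y : EtOver X} (x : (pm M).obj (op Y)) :
    x ∈ N.sub.obj (op Y) ↔ ∀ (E : EtOver X) (hE : IsAffine E.obj.left.left) (h : E ⟶ Y),
      ((pm M).map h.op).hom x ∈ N.obj E hE := Iff.rfl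

theorem mem_sub_affine {E : EtOver X} (hE : IsAffine E.obj.left.left) (x : (pm M).obj (op E)) :
    x ∈ N.sub.obj (op E) ↔ x ∈ N.obj E hE := by
  refine ⟨fun h => ?_, fun h F hF g => N.res_mem g hF hE x h⟩
  have h1 := h E hE (𝟙 E)
  rw [op_id, (pm M).map_id] at h1
  exact h1

theorem mem_sub_of_cover (hM : IsBCEt M) {Y : EtOver X} {R : Sieve Y} (hR : R ∈ etTop X Y)
    (x : (pm M).obj (op Y))
    (hx : ∀ ⦃V : EtOver X⦄ (f : V ⟶ Y), R f → ((pm M).map f.op).hom x ∈ N.sub.obj (op V)) :
    x ∈ N.sub.obj (op Y) := fun E hE h => by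
  obtain ⟨U, hU⟩ := exists_affCov (A := etAff X) hE ((etTop X).pullback_stable h hR)
  refine N.mem_of_local hM hE U _ fun i => ?_
  rw [map_comp_sec]
  exact (N.mem_sub_affine (U.affZ i) _).1 (hx _ (hU i))

theorem isSheaf (hM : IsBCEt M) : Presheaf.IsSheaf (etTop X) N.sub.toPresheafOfModules.presheaf := by
  rw [Presheaf.isSheaf_iff_isSheaf_forget (etTop X) _ (CategoryTheory.forget AddCommGrpCat.{u + 1}),
    isSheaf_iff_isSheaf_of_type]
  intro Y R hR x hx
  let xM : Presieve.FamilyOfElements ((pm M).presheaf ⋙ CategoryTheory.forget _) R.arrows :=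
    fun V f hf => (x f hf).1
  have hxM : xM.Compatible := fun Y₁ Y₂ Z g₁ g₂ f₁ f₂ h₁ h₂ e => congrArg Subtype.val (hx g₁ g₂ h₁ h₂ e)
  obtain ⟨s, hs, hu⟩ := isSheaf_types (P := pm M) M.isSheaf R hR xM hxM
  have hmem : s ∈ N.sub.obj (op Y) := N.mem_sub_of_cover hM hR s fun V f hf => by
    exact (congrArg (· ∈ N.sub.obj (op V)) (hs f hf)).mpr (x f hf).2
  refine ⟨⟨s, hmem⟩, fun V f hf => Subtype.ext (hs f hf), fun t ht => Subtype.ext ?_⟩
  exact hu t.1 fun V f hf => congrArg Subtype.val (ht f hf)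

/-- The subsheaf. -/
noncomputable def toMod (hM : IsBCEt M) : ModEt X := ⟨N.sub.toPresheafOfModules, N.isSheaf hM⟩

/-- The inclusion of the subsheaf. -/
noncomputable def incl (hM : IsBCEt M) : N.toMod hM ⟶ M := ⟨N.sub.ι⟩

theorem incl_app_apply (hM : IsBCEt M) (E : EtOver X) (y : N.sub.obj (op E)) :
    ((N.incl hM).val.app (op E)).hom y = y.1 := rfl

theorem mono_incl (hM : IsBCEt M) : Mono (N.incl hM) :=
  (SheafOfModules.forget _).mono_of_mono_map (show Mono N.sub.ι from inferInstance)

theorem range_incl (hM : IsBCEt M) {E : EtOver X} (hE : IsAffine E.obj.left.left) :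
    Set.range ((N.incl hM).val.app (op E)).hom = {x | x ∈ N.obj E hE} := by
  ext x
  exact ⟨fun ⟨y, hy⟩ => hy ▸ (N.mem_sub_affine hE _).1 y.2,
    fun hx => ⟨(⟨x, (N.mem_sub_affine hE x).2 hx⟩ : N.sub.obj (op E)), rfl⟩⟩

theorem isBC (hM : IsBCEt M) : IsBCEt (N.toMod hM) := by
  intro Z E g hZ hE
  have hflat : Module.Flat ((OEt X).obj.obj (op E)) (RingOf (OEt X).obj g) := (etAff X).flat g hE hZ
  let φ : pm (N.toMod hM) ⟶ pm M := (N.incl hM).val
  have hn : ∀ t, ext (pm M) g ((secMap φ (𝟙 E)).lTensor _ t) = secMap φ g (ext (pm (N.toMod hM)) g t) :=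
    fun t => congrArg (fun m => m.hom t) ((extNat (OEt X).obj g).naturality φ)
  have hinj : ∀ V : EtOver X, Function.Injective (secMap φ (𝟙 V)) := fun V => Subtype.val_injective
  refine ⟨fun s t h => Module.Flat.lTensor_preserves_injective_linearMap (M := RingOf (OEt X).obj g) _ (hinj E)
    ((hM g hZ hE).1 (by rw [hn, hn, h])), fun y => ?_⟩
  have hy : (ofSec (pm (N.toMod hM)) y).1 ∈ Submodule.span ((OEt X).obj.obj (op Z))
      (((pm M).map g.op).hom '' (N.obj E hE)) :=
    N.gen g hZ hE _ ((N.mem_sub_affine hZ _).1 (ofSec (pm (N.toMod hM)) y).2)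
  obtain ⟨t, ht⟩ := span_mem_range g (N.secSub E hE) _ hy
  let j : N.secSub E hE →ₗ[(OEt X).obj.obj (op E)] Sec (pm (N.toMod hM)) (𝟙 E) :=
    { toFun := fun n => toSec (pm (N.toMod hM)) (𝟙 E)
        (⟨ofSec (pm M) n.1, (N.mem_sub_affine hE _).2 n.2⟩ : N.sub.obj (op E))
      map_add' := fun _ _ => rfl
      map_smul' := fun _ _ => rfl }
  refine ⟨j.lTensor _ t, Subtype.ext (?_ : secMap φ g _ = secMap φ g y)⟩
  rw [← hn, ← LinearMap.lTensor_comp_apply]
  exact ht

theorem isQuasicoherent (hM : IsBCEt M) : (N.toMod hM).IsQuasicoherent :=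
  (isQuasicoherent_iff_isBCEt _).2 (N.isBC hM)

end AffSub

/-- A section killed by finitely many functions from downstairs is a combination of such sections from downstairs. -/
theorem mem_span_killed (hM : IsBCEt M) {Z E : EtOver X} (g : Z ⟶ E) (hZ : IsAffine Z.obj.left.left)
    (hE : IsAffine E.obj.left.left) {ι : Type*} [Finite ι] (a : ι → (OEt X).obj.obj (op E))
    (x : (pm M).obj (op Z)) (hx : ∀ j, ((OEt X).obj.map g.op).hom (a j) • x = 0) :
    x ∈ Submodule.span ((OEt X).obj.obj (op Z))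
      (((pm M).map g.op).hom '' {s : (pm M).obj (op E) | ∀ j, a j • s = 0}) := by
  classical
  have := Fintype.ofFinite ι
  have hflat : Module.Flat ((OEt X).obj.obj (op E)) (RingOf (OEt X).obj g) := (etAff X).flat g hE hZ
  obtain ⟨t, ht⟩ := (hM g hZ hE).2 (toSec (pm M) g x)
  let φ : Sec (pm M) (𝟙 E) →ₗ[(OEt X).obj.obj (op E)] (ι → Sec (pm M) (𝟙 E)) :=
    LinearMap.pi fun j => a j • LinearMap.id
  have hex := Module.Flat.lTensor_exact (RingOf (OEt X).obj g) (LinearMap.exact_subtype_ker_map φ)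
  obtain ⟨t', ht'⟩ := (hex t).1 ((TensorProduct.piRight ((OEt X).obj.obj (op E)) ((OEt X).obj.obj (op E))
    (RingOf (OEt X).obj g) fun _ : ι => Sec (pm M) (𝟙 E)).injective (funext fun j => (hM g hZ hE).1 (by
      have hp : ∀ s, TensorProduct.piRight ((OEt X).obj.obj (op E)) ((OEt X).obj.obj (op E))
          (RingOf (OEt X).obj g) (fun _ : ι => Sec (pm M) (𝟙 E)) (φ.lTensor _ s) j = a j • s := by
        intro s
        induction s with
        | zero => simp
        | add p q hp hq => rw [map_add, map_add, Pi.add_apply, hp, hq]; exact (smul_add (a j) p q).symm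
        | tmul b n => simp [φ, TensorProduct.tmul_smul]
      rw [map_zero, Pi.zero_apply, hp, map_smul, ht, map_zero]
      exact hx j)))
  rw [show x = ofSec (pm M) (ext (pm M) g ((LinearMap.ker φ).subtype.lTensor _ t')) by rw [ht', ht]; rfl]
  clear ht'
  induction t' with
  | zero => rw [map_zero, map_zero]; exact Submodule.zero_mem _
  | add p q hp hq => rw [map_add, map_add]; exact Submodule.add_mem _ hp hq
  | tmul b n =>
    rw [LinearMap.lTensor_tmul, ext_tmul]
    refine Submodule.smul_mem _ (show (OEt X).obj.obj (op Z) from b)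
      (Submodule.subset_span ⟨ofSec (pm M) n.1, fun j => ?_, rfl⟩)
    have h1 : a j • n.1 = 0 := congr_fun n.2 j
    have h2 := congrArg (ofSec (pm M)) h1
    rw [smul_sec, op_id, CategoryTheory.Functor.map_id] at h2
    exact h2

end Groth.Agent.H12AlgSp.BCMod
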