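import Groth.Agent.H12AlgSp.BCMod.SubSheaf
import Groth.Prelude.Def_AlgSpModX

/-!
The submodule of sections annihilated by a finite type quasi-coherent ideal.
-/

set_option backward.isDefEq.respectTransparency false

universe u

open CategoryTheory CategoryTheory.Limits AlgebraicGeometry Opposite
open AlgSp Groth.Agent.H12AlgSp

namespace Groth.Agent.H12AlgSp.BCMod

variable {S : Scheme.{u}} {X : Sp S} (M : ModEt X)

/-- The functions as sections of the structure presheaf. -/
noncomputable abbrev upR (E : EtOver X) : Γ(E.obj.left.left, ⊤) →+* (OEt X).obj.obj (op E) :=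
  ULift.ringEquiv.symm.toRingHom

theorem upR_map {Z E : EtOver X} (g : Z ⟶ E) (a : Γ(E.obj.left.left, ⊤)) :
    ((OEt X).obj.map g.op).hom (upR E a) = upR Z (g.hom.left.left.appTop.hom a) := rfl

/-- Sections killed by a set of functions. -/
noncomputable def killed (E : EtOver X) (I : Set Γ(E.obj.left.left, ⊤)) :
    Submodule ((OEt X).obj.obj (op E)) ((pm M).obj (op E)) where
  carrier := {s | ∀ a ∈ I, upR E a • s = 0}
  add_mem' hx hy a ha := by rw [smul_add, hx a ha, hy a ha, add_zero]
  zero_mem' a _ := smul_zero _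
  smul_mem' r x hx a ha := by rw [smul_comm, hx a ha, smul_zero]

theorem killed_span (E : EtOver X) (I : Set Γ(E.obj.left.left, ⊤)) :
    killed M E (Ideal.span I) = killed M E I := by
  refine le_antisymm (fun x hx a ha => hx a (Ideal.subset_span ha)) fun x hx a ha => ?_
  induction ha using Submodule.span_induction with
  | mem a ha => exact hx a ha
  | zero => rw [map_zero, zero_smul]
  | add a b _ _ ha hb => rw [map_add, add_smul, ha, hb, add_zero]
  | smul r a _ ha => rw [smul_eq_mul, map_mul, mul_smul, ha, smul_zero]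

variable {M}

theorem mem_span_killed_of_fg (hM : IsBCEt M) {Z E : EtOver X} (g : Z ⟶ E) (hZ : IsAffine Z.obj.left.left)
    (hE : IsAffine E.obj.left.left) {I : Ideal Γ(E.obj.left.left, ⊤)} (hI : I.FG) (x : (pm M).obj (op Z))
    (hx : x ∈ killed M Z (I.map g.hom.left.left.appTop.hom)) :
    x ∈ Submodule.span ((OEt X).obj.obj (op Z)) (((pm M).map g.op).hom '' (killed M E I)) := by
  obtain ⟨T, rfl⟩ := hI
  refine Submodule.span_mono ?_ (mem_span_killed hM g hZ hE (fun a : T => upR E a.1) x fun a => ?_)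
  · refine Set.image_mono fun s hs => ?_
    change s ∈ killed M E (Ideal.span (T : Set Γ(E.obj.left.left, ⊤)))
    rw [killed_span]
    exact fun a ha => hs ⟨a, ha⟩
  · rw [upR_map]
    exact hx _ (Ideal.mem_map_of_mem _ (Ideal.subset_span a.2))

theorem map_mem_killed {Z E : EtOver X} (g : Z ⟶ E) (I : Set Γ(E.obj.left.left, ⊤)) (x : (pm M).obj (op E))
    (hx : x ∈ killed M E I) :
    ((pm M).map g.op).hom x ∈ killed M Z (Ideal.span (g.hom.left.left.appTop.hom '' I)) := by
  rw [killed_span]
  rintro _ ⟨a, ha, rfl⟩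
  rw [← upR_map, ← map_smul_sec, hx a ha, map_zero]

theorem exists_annihilated (hM : IsBCEt M) (I : IdealEt X) (hI : I.IsQCoh)
    (hft : ∀ (E : EtOver X) (hE : IsAffine E.obj.left.left), (I.ideal E hE).FG) :
    ∃ (F' : ModEt X) (ι : F' ⟶ M), Mono ι ∧ F'.IsQuasicoherent ∧
      ∀ (E : EtOver X) (hE : IsAffine E.obj.left.left),
        Set.range (ι.val.app (op E)).hom = {s : sectModEt M E | ∀ a ∈ I.ideal E hE, (upΓ E a) • s = 0} := by
  have hmap : ∀ {Z E : EtOver X} (g : Z ⟶ E) (hZ : IsAffine Z.obj.left.left) (hE : IsAffine E.obj.left.left),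
      (I.ideal E hE).map g.hom.left.left.appTop.hom = I.ideal Z hZ :=
    fun g hZ hE => le_antisymm (I.map_le g hE hZ) (hI g hE hZ)
  let N : AffSub M :=
    { obj := fun E hE => killed M E (I.ideal E hE)
      res_mem := fun g hZ hE x hx => by
        rw [← hmap g hZ hE]
        exact map_mem_killed g (I.ideal _ hE) x hx
      gen := fun g hZ hE x hx =>
        mem_span_killed_of_fg hM g hZ hE (hft _ hE) x (by rw [hmap g hZ hE]; exact hx) }
  exact ⟨N.toMod hM, N.incl hM, N.mono_incl hM, N.isQuasicoherent hM, fun E hE => N.range_incl hM hE⟩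

end Groth.Agent.H12AlgSp.BCMod
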