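import Mathlib.Algebra.Category.ModuleCat.Presheaf.Colimits
import Mathlib.Algebra.Category.ModuleCat.Presheaf.Limits
import Mathlib.Algebra.Category.ModuleCat.ChangeOfRings
import Mathlib.Algebra.Category.ModuleCat.Monoidal.Basic
import Mathlib.Algebra.Category.Ring.Constructions
import Mathlib.RingTheory.IsTensorProduct
import Mathlib.RingTheory.Flat.Basic

/-!
Base change maps of presheaves of modules over a presheaf of commutative rings.
-/

set_option backward.isDefEq.respectTransparency false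

universe w v₁ u₁

open CategoryTheory CategoryTheory.Limits Opposite
open scoped TensorProduct

namespace Groth.Agent.H12AlgSp.BCMod

variable {C : Type u₁} [Category.{v₁} C] {Rc : Cᵒᵖ ⥤ CommRingCat.{w}}

/-- Presheaves of modules over a presheaf of commutative rings. -/
abbrev PM (Rc : Cᵒᵖ ⥤ CommRingCat.{w}) := PresheafOfModules.{w} (Rc ⋙ forget₂ CommRingCat RingCat)

variable (Rc) in
/-- The ring over an object `Z ⟶ E`, as an algebra over the ring of `E`. -/
def RingOf {Z E : C} (_g : Z ⟶ E) : Type w := Rc.obj (op Z)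

noncomputable instance {Z E : C} (g : Z ⟶ E) : CommRing (RingOf Rc g) :=
  inferInstanceAs (CommRing (Rc.obj (op Z)))

noncomputable instance {Z E : C} (g : Z ⟶ E) : Algebra (Rc.obj (op E)) (RingOf Rc g) :=
  RingHom.toAlgebra (Rc.map g.op).hom

/-- A function on `Z` as an element of the algebra of `Z ⟶ E`. -/
def toRing {Z E : C} (g : Z ⟶ E) (b : Rc.obj (op Z)) : RingOf Rc g := b

theorem algebraMap_ringOf {Z E : C} (g : Z ⟶ E) (a : Rc.obj (op E)) :
    algebraMap (Rc.obj (op E)) (RingOf Rc g) a = (Rc.map g.op).hom a := rfl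

theorem map_comp_ring {Z' Z E : C} (h : Z' ⟶ Z) (g : Z ⟶ E) (a : Rc.obj (op E)) :
    (Rc.map (h ≫ g).op).hom a = (Rc.map h.op).hom ((Rc.map g.op).hom a) := by
  rw [op_comp, Functor.map_comp]; rfl

/-- Restriction of rings over `E`. -/
noncomputable def ρ {Z' Z E : C} {g' : Z' ⟶ E} {g : Z ⟶ E} (h : Z' ⟶ Z) (hh : h ≫ g = g') :
    RingOf Rc g →ₐ[Rc.obj (op E)] RingOf Rc g' where
  toRingHom := (Rc.map h.op).hom
  commutes' a := by subst hh; exact (map_comp_ring h g a).symm

variable (Rc) in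
/-- The sections over `Z ⟶ E`, as a functor to modules over the ring of `E`. -/
noncomputable def Ψ {Z E : C} (g : Z ⟶ E) : PM Rc ⥤ ModuleCat.{w} (Rc.obj (op E)) :=
  PresheafOfModules.evaluation _ (op Z) ⋙ ModuleCat.restrictScalars (Rc.map g.op).hom

/-- Sections over `Z ⟶ E`. -/
noncomputable abbrev Sec (P : PM Rc) {Z E : C} (g : Z ⟶ E) : ModuleCat.{w} (Rc.obj (op E)) := (Ψ Rc g).obj P

variable (P : PM Rc)

/-- An element of `P(Z)` as a section over `Z ⟶ E`. -/
def toSec {Z E : C} (g : Z ⟶ E) (x : P.obj (op Z)) : Sec P g := x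

/-- A section over `Z ⟶ E` as an element of `P(Z)`. -/
def ofSec {Z E : C} {g : Z ⟶ E} (x : Sec P g) : P.obj (op Z) := x

noncomputable instance {Z E : C} (g : Z ⟶ E) : Module (RingOf Rc g) (Sec P g) :=
  inferInstanceAs (Module (Rc.obj (op Z)) (P.obj (op Z)))

instance {Z E : C} (g : Z ⟶ E) : IsScalarTower (Rc.obj (op E)) (RingOf Rc g) (Sec P g) :=
  ⟨fun a b x => by
    change ((Rc.map g.op).hom a * (show Rc.obj (op Z) from b)) • ofSec P x = (Rc.map g.op).hom a • b • ofSec P x
    exact mul_smul _ _ _⟩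

theorem smul_sec {Z E : C} {g : Z ⟶ E} (a : Rc.obj (op E)) (x : Sec P g) :
    ofSec P (a • x) = (Rc.map g.op).hom a • ofSec P x := rfl

/-- Restriction of sections over `E`. -/
noncomputable def res {Z' Z E : C} {g' : Z' ⟶ E} {g : Z ⟶ E} (h : Z' ⟶ Z) (hh : h ≫ g = g') :
    Sec P g →ₗ[Rc.obj (op E)] Sec P g' where
  toFun x := toSec P g' ((P.map h.op).hom (ofSec P x))
  map_add' x y := (P.map h.op).hom.map_add _ _
  map_smul' a x := by
    subst hh
    change (P.map h.op).hom ((Rc.map g.op).hom a • ofSec P x) = (Rc.map (h ≫ g).op).hom a • _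
    rw [map_comp_ring]
    exact (P.map h.op).hom.map_smul _ _

theorem res_smul {Z' Z E : C} {g' : Z' ⟶ E} {g : Z ⟶ E} (h : Z' ⟶ Z) (hh : h ≫ g = g') (b : RingOf Rc g)
    (x : Sec P g) : res P h hh (b • x) = ρ h hh b • res P h hh x :=
  (P.map h.op).hom.map_smul _ _

theorem res_res {Z'' Z' Z E : C} {g'' : Z'' ⟶ E} {g' : Z' ⟶ E} {g : Z ⟶ E} (h : Z' ⟶ Z) (hh : h ≫ g = g')
    (h' : Z'' ⟶ Z') (hh' : h' ≫ g' = g'') (x : Sec P g) :
    res P h' hh' (res P h hh x) = res P (g' := g'') (h' ≫ h) (by rw [Category.assoc, hh, hh']) x := by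
  change (P.map h'.op).hom ((P.map h.op).hom (ofSec P x)) = (P.map (h' ≫ h).op).hom (ofSec P x)
  rw [op_comp, P.map_comp]
  rfl

theorem res_congr {Z' Z E : C} {g' : Z' ⟶ E} {g : Z ⟶ E} {h h' : Z' ⟶ Z} (e : h = h') (hh : h ≫ g = g')
    (x : Sec P g) : res P h hh x = res P h' (e ▸ hh) x := by subst e; rfl

theorem res_id {Z E : C} {g : Z ⟶ E} (x : Sec P g) : res P (𝟙 Z) (Category.id_comp g) x = x := by
  change (P.map (𝟙 (op Z))).hom (ofSec P x) = x
  rw [P.map_id]
  rfl

/-- The comparison map of a square over `E`. -/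
noncomputable def mu {F K Z E : C} {k : K ⟶ E} {g : Z ⟶ E} {f : F ⟶ E} (q : F ⟶ K) (p : F ⟶ Z)
    (hq : q ≫ k = f) (hp : p ≫ g = f) :
    RingOf Rc k ⊗[Rc.obj (op E)] Sec P g →ₗ[Rc.obj (op E)] Sec P f :=
  TensorProduct.lift (LinearMap.mk₂ _ (fun b x => ρ q hq b • res P p hp x)
    (fun b b' x => by rw [map_add, add_smul])
    (fun a b x => by rw [map_smul, smul_assoc])
    (fun b x x' => by rw [map_add, smul_add])
    (fun a b x => by rw [map_smul]; exact smul_comm _ _ _))

theorem mu_tmul {F K Z E : C} {k : K ⟶ E} {g : Z ⟶ E} {f : F ⟶ E} (q : F ⟶ K) (p : F ⟶ Z)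
    (hq : q ≫ k = f) (hp : p ≫ g = f) (b : RingOf Rc k) (x : Sec P g) :
    mu P q p hq hp (b ⊗ₜ x) = ρ q hq b • res P p hp x := rfl

/-- The base change map along `g : Z ⟶ E`. -/
noncomputable def ext {Z E : C} (g : Z ⟶ E) :
    RingOf Rc g ⊗[Rc.obj (op E)] Sec P (𝟙 E) →ₗ[Rc.obj (op E)] Sec P g :=
  mu P (𝟙 Z) g (Category.id_comp g) (Category.comp_id g)

theorem ext_tmul {Z E : C} (g : Z ⟶ E) (b : RingOf Rc g) (x : Sec P (𝟙 E)) :
    ext P g (b ⊗ₜ x) = b • res P g (Category.comp_id g) x := by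
  rw [ext, mu_tmul]
  congr 1
  change (Rc.map (𝟙 (op Z))).hom b = b
  rw [CategoryTheory.Functor.map_id]
  rfl

/-- `P` commutes with base change along `g`. -/
def IsBC {Z E : C} (g : Z ⟶ E) : Prop := Function.Bijective (ext P g)

theorem mu_bijective {F K Z E : C} {k : K ⟶ E} {g : Z ⟶ E} {f : F ⟶ E} (q : F ⟶ K) (p : F ⟶ Z)
    (hq : q ≫ k = f) (hp : p ≫ g = f)
    (hpo : IsPushout (Rc.map k.op) (Rc.map g.op) (Rc.map q.op) (Rc.map p.op)) (hP : IsBC P p) :
    Function.Bijective (mu P q p hq hp) := by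
  let iAB : Algebra (Rc.obj (op E)) (Rc.obj (op K)) := (Rc.map k.op).hom.toAlgebra
  let iAS : Algebra (Rc.obj (op E)) (Rc.obj (op Z)) := (Rc.map g.op).hom.toAlgebra
  let iBF : Algebra (Rc.obj (op K)) (Rc.obj (op F)) := (Rc.map q.op).hom.toAlgebra
  let iSF : Algebra (Rc.obj (op Z)) (Rc.obj (op F)) := (Rc.map p.op).hom.toAlgebra
  let iAF : Algebra (Rc.obj (op E)) (Rc.obj (op F)) := (Rc.map f.op).hom.toAlgebra
  have : IsScalarTower (Rc.obj (op E)) (Rc.obj (op K)) (Rc.obj (op F)) :=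
    IsScalarTower.of_algebraMap_eq fun a => by
      change (Rc.map f.op).hom a = (Rc.map q.op).hom ((Rc.map k.op).hom a)
      rw [← map_comp_ring, hq]
  have : IsScalarTower (Rc.obj (op E)) (Rc.obj (op Z)) (Rc.obj (op F)) :=
    IsScalarTower.of_algebraMap_eq fun a => by
      change (Rc.map f.op).hom a = (Rc.map p.op).hom ((Rc.map g.op).hom a)
      rw [← map_comp_ring, hp]
  have hA : Algebra.IsPushout (Rc.obj (op E)) (Rc.obj (op K)) (Rc.obj (op Z)) (Rc.obj (op F)) :=
    CommRingCat.isPushout_iff_isPushout.1 hpo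
  let iSM : Module (Rc.obj (op Z)) (Sec P g) := (Sec P (𝟙 Z)).isModule
  let M : Type w := Sec P g
  have : IsScalarTower (Rc.obj (op E)) (Rc.obj (op Z)) (Sec P g) := ⟨fun a b x => by
    change (Rc.map (𝟙 Z).op).hom ((Rc.map g.op).hom a * b) • ofSec P x =
      (Rc.map g.op).hom a • (Rc.map (𝟙 Z).op).hom b • ofSec P x
    rw [op_id, CategoryTheory.Functor.map_id]
    exact mul_smul _ _ _⟩
  have hA' := hA.symm
  let e := hA'.out.tensorEquiv (Sec P g)
  let φ : Rc.obj (op K) ⊗[Rc.obj (op E)] M →+ Rc.obj (op F) ⊗[Rc.obj (op Z)] M :=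
    TensorProduct.liftAddHom
      ({ toFun := fun b =>
          { toFun := fun x => ((Rc.map q.op).hom b) ⊗ₜ x
            map_zero' := TensorProduct.tmul_zero _ _
            map_add' := TensorProduct.tmul_add _ }
         map_zero' := by ext x; simp
         map_add' := fun b b' => by ext x; simp [TensorProduct.add_tmul] })
      (fun a b x => by
        change (Rc.map q.op).hom (a • b) ⊗ₜ[Rc.obj (op Z)] x =
          (Rc.map q.op).hom b ⊗ₜ[Rc.obj (op Z)] (a • x)
        rw [← IsScalarTower.algebraMap_smul (Rc.obj (op Z)) a x, ← TensorProduct.smul_tmul,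
          IsScalarTower.algebraMap_smul]
        congr 1
        change (Rc.map q.op).hom ((Rc.map k.op).hom a * b) = (Rc.map f.op).hom a * _
        rw [map_mul, ← map_comp_ring, hq])
  have hφ : Function.Bijective φ := by
    let ψ : Rc.obj (op K) ⊗[Rc.obj (op E)] M ≃+ Rc.obj (op F) ⊗[Rc.obj (op Z)] M :=
      ((TensorProduct.comm _ _ _).toAddEquiv.trans e.symm.toAddEquiv).trans (TensorProduct.comm _ _ _).toAddEquiv
    have : ∀ t, φ t = ψ t := by
      intro t
      induction t with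
      | zero => simp
      | add a b ha hb => rw [map_add, map_add, ha, hb]
      | tmul b x =>
        simp [φ, ψ, e, IsBaseChange.tensorEquiv, IsBaseChange.equiv_tmul]
        rfl
    rw [show (φ : _ → _) = ψ from funext this]
    exact ψ.bijective
  have key : ∀ t, mu P q p hq hp t = toSec P f (ofSec P (ext P p (φ t))) := by
    intro t
    induction t with
    | zero => simp; rfl
    | add a b ha hb => rw [map_add, ha, hb, map_add, map_add]; rfl
    | tmul b x =>
      rw [mu_tmul]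
      erw [ext_tmul]
      rfl
  have : (mu P q p hq hp : _ → _) = (fun t => toSec P f (ofSec P (ext P p (φ t)))) := funext key
  rw [this]
  exact hP.comp hφ

end Groth.Agent.H12AlgSp.BCMod
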