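import Groth.Agent.H12AlgSp.BCMod.Site
import Mathlib.LinearAlgebra.TensorProduct.Pi

/-!
Exactness of the augmented Cech complex of a finite affine cover, in degrees 0 and 1.
-/

set_option backward.isDefEq.respectTransparency false

universe w v₁ u₁

open CategoryTheory CategoryTheory.Limits Opposite
open scoped TensorProduct

namespace Groth.Agent.H12AlgSp.BCMod

variable {C : Type u₁} [Category.{v₁} C] {J : GrothendieckTopology C} {Rc : Cᵒᵖ ⥤ CommRingCat.{w}}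

/-- A finite affine cover of an affine object. -/
structure AffCov (A : AffSite J Rc) (E : C) where
  κ : Type
  [fin : Finite κ]
  Z : κ → C
  z : ∀ i, Z i ⟶ E
  affE : A.aff E
  affZ : ∀ i, A.aff (Z i)
  mem : Sieve.ofArrows Z z ∈ J E
  surj : ∀ p : PrimeSpectrum (Rc.obj (op E)), ∃ (i : κ) (q : PrimeSpectrum (Rc.obj (op (Z i)))),
    PrimeSpectrum.comap (Rc.map (z i).op).hom q = p

attribute [instance] AffCov.fin

/-- A chosen affine fibre product over `E`. -/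
structure Pb (A : AffSite J Rc) {E K X : C} (k : K ⟶ E) (g : X ⟶ E) where
  obj : C
  q : obj ⟶ K
  p : obj ⟶ X
  aff : A.aff obj
  isPullback : IsPullback q p k g
  isPushout : IsPushout (Rc.map k.op) (Rc.map g.op) (Rc.map q.op) (Rc.map p.op)

noncomputable def mkPb (A : AffSite J Rc) {E K X : C} (k : K ⟶ E) (g : X ⟶ E) (hE : A.aff E) (hK : A.aff K)
    (hX : A.aff X) : Pb A k g :=
  Classical.choice (by
    obtain ⟨W, p₁, p₂, h1, h2, h3⟩ := A.exists_pullback k g hE hK hX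
    exact ⟨⟨W, p₁, p₂, h1, h2, h3⟩⟩)

namespace Pb

variable {A : AffSite J Rc} {E K X : C} {k : K ⟶ E} {g : X ⟶ E} (W : Pb A k g)

/-- The structure map of a fibre product. -/
abbrev str : W.obj ⟶ E := W.p ≫ g

theorem q_str : W.q ≫ k = W.str := W.isPullback.w

theorem mu_bij {P : PM Rc} (hP : AllBC A P) (hX : A.aff X) :
    Function.Bijective (mu P W.q W.p W.q_str rfl) :=
  mu_bijective P W.q W.p W.q_str rfl W.isPushout (hP W.p W.aff hX)

end Pb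

variable {A : AffSite J Rc} {E : C} (U : AffCov A E)

namespace AffCov

/-- The double intersections. -/
noncomputable def Z₂ (x : U.κ × U.κ) : Pb A (U.z x.1) (U.z x.2) := mkPb A _ _ U.affE (U.affZ _) (U.affZ _)

noncomputable abbrev z₂ (x : U.κ × U.κ) : (U.Z₂ x).obj ⟶ E := (U.Z₂ x).str

/-- The triple intersections. -/
noncomputable def Z₃ (x : (U.κ × U.κ) × U.κ) : Pb A (U.z₂ x.1) (U.z x.2) :=
  mkPb A _ _ U.affE (U.Z₂ x.1).aff (U.affZ _)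

noncomputable abbrev z₃ (x : (U.κ × U.κ) × U.κ) : (U.Z₃ x).obj ⟶ E := (U.Z₃ x).str

noncomputable def ν₁₃ (x : (U.κ × U.κ) × U.κ) : (U.Z₃ x).obj ⟶ (U.Z₂ (x.1.1, x.2)).obj :=
  (U.Z₂ (x.1.1, x.2)).isPullback.lift ((U.Z₃ x).q ≫ (U.Z₂ x.1).q) (U.Z₃ x).p (by
    rw [Category.assoc, (U.Z₂ x.1).q_str]; exact (U.Z₃ x).q_str)

noncomputable def ν₂₃ (x : (U.κ × U.κ) × U.κ) : (U.Z₃ x).obj ⟶ (U.Z₂ (x.1.2, x.2)).obj :=
  (U.Z₂ (x.1.2, x.2)).isPullback.lift ((U.Z₃ x).q ≫ (U.Z₂ x.1).p) (U.Z₃ x).p (by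
    rw [Category.assoc]; exact (U.Z₃ x).q_str)

theorem ν₁₃_z₂ (x : (U.κ × U.κ) × U.κ) : U.ν₁₃ x ≫ U.z₂ (x.1.1, x.2) = U.z₃ x := by
  simp only [ν₁₃, z₂, z₃, Pb.str, IsPullback.lift_snd_assoc]

theorem ν₂₃_z₂ (x : (U.κ × U.κ) × U.κ) : U.ν₂₃ x ≫ U.z₂ (x.1.2, x.2) = U.z₃ x := by
  simp only [ν₂₃, z₂, z₃, Pb.str, IsPullback.lift_snd_assoc]

variable (P : PM Rc)

noncomputable def d₀ : Sec P (𝟙 E) →ₗ[Rc.obj (op E)] ((i : U.κ) → Sec P (U.z i)) :=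
  LinearMap.pi fun i => res P (U.z i) (Category.comp_id _)

noncomputable def d₁ : ((i : U.κ) → Sec P (U.z i)) →ₗ[Rc.obj (op E)] ((x : U.κ × U.κ) → Sec P (U.z₂ x)) :=
  LinearMap.pi fun x => (res P (U.Z₂ x).p rfl).comp (LinearMap.proj x.2) -
    (res P (U.Z₂ x).q (U.Z₂ x).q_str).comp (LinearMap.proj x.1)

noncomputable def d₂ : ((x : U.κ × U.κ) → Sec P (U.z₂ x)) →ₗ[Rc.obj (op E)]
    ((x : (U.κ × U.κ) × U.κ) → Sec P (U.z₃ x)) :=
  LinearMap.pi fun x => (res P (U.ν₂₃ x) (U.ν₂₃_z₂ x)).comp (LinearMap.proj (x.1.2, x.2)) -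
    (res P (U.ν₁₃ x) (U.ν₁₃_z₂ x)).comp (LinearMap.proj (x.1.1, x.2)) +
    (res P (U.Z₃ x).q (U.Z₃ x).q_str).comp (LinearMap.proj x.1)

theorem d₁_d₀ : (U.d₁ P).comp (U.d₀ P) = 0 := by
  refine LinearMap.ext fun s => funext fun x => ?_
  simp only [d₀, d₁, LinearMap.comp_apply, LinearMap.pi_apply, LinearMap.sub_apply, LinearMap.proj_apply, LinearMap.zero_apply, Pi.zero_apply]
  rw [res_res, res_res, res_congr P (U.Z₂ x).q_str]
  exact sub_self _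

theorem d₂_d₁ : (U.d₂ P).comp (U.d₁ P) = 0 := by
  refine LinearMap.ext fun s => funext fun x => ?_
  simp only [d₂, d₁, LinearMap.comp_apply, LinearMap.pi_apply, LinearMap.sub_apply, LinearMap.add_apply, LinearMap.proj_apply, LinearMap.zero_apply, Pi.zero_apply]
  simp only [map_sub, res_res]
  rw [res_congr P (show U.ν₂₃ x ≫ (U.Z₂ (x.1.2, x.2)).p = (U.Z₃ x).p from IsPullback.lift_snd _ _ _ _),
    res_congr P (show U.ν₁₃ x ≫ (U.Z₂ (x.1.1, x.2)).p = (U.Z₃ x).p from IsPullback.lift_snd _ _ _ _),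
    res_congr P (show U.ν₂₃ x ≫ (U.Z₂ (x.1.2, x.2)).q = (U.Z₃ x).q ≫ (U.Z₂ x.1).p from IsPullback.lift_fst _ _ _ _),
    res_congr P (show U.ν₁₃ x ≫ (U.Z₂ (x.1.1, x.2)).q = (U.Z₃ x).q ≫ (U.Z₂ x.1).q from IsPullback.lift_fst _ _ _ _)]
  abel

section

variable (k : U.κ)

/-- The pullback of the augmentation to `Z k`. -/
noncomputable def W₀ : Pb A (U.z k) (𝟙 E) := mkPb A _ _ U.affE (U.affZ _) U.affE
noncomputable def W₁ (i : U.κ) : Pb A (U.z k) (U.z i) := mkPb A _ _ U.affE (U.affZ _) (U.affZ _)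
noncomputable def W₂ (x : U.κ × U.κ) : Pb A (U.z k) (U.z₂ x) := mkPb A _ _ U.affE (U.affZ _) (U.Z₂ x).aff
noncomputable def W₃ (x : (U.κ × U.κ) × U.κ) : Pb A (U.z k) (U.z₃ x) :=
  mkPb A _ _ U.affE (U.affZ _) (U.Z₃ x).aff

noncomputable def ψ (i : U.κ) : (U.W₁ k i).obj ⟶ (U.W₀ k).obj :=
  (U.W₀ k).isPullback.lift (U.W₁ k i).q ((U.W₁ k i).p ≫ U.z i) (by rw [Category.comp_id]; exact (U.W₁ k i).q_str)

noncomputable def φ₁ (x : U.κ × U.κ) : (U.W₂ k x).obj ⟶ (U.W₁ k x.1).obj :=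
  (U.W₁ k x.1).isPullback.lift (U.W₂ k x).q ((U.W₂ k x).p ≫ (U.Z₂ x).q) (by
    rw [Category.assoc, (U.Z₂ x).q_str]; exact (U.W₂ k x).q_str)

noncomputable def φ₂ (x : U.κ × U.κ) : (U.W₂ k x).obj ⟶ (U.W₁ k x.2).obj :=
  (U.W₁ k x.2).isPullback.lift (U.W₂ k x).q ((U.W₂ k x).p ≫ (U.Z₂ x).p) (by
    rw [Category.assoc]; exact (U.W₂ k x).q_str)

noncomputable def χ₂₃ (x : (U.κ × U.κ) × U.κ) : (U.W₃ k x).obj ⟶ (U.W₂ k (x.1.2, x.2)).obj :=
  (U.W₂ k _).isPullback.lift (U.W₃ k x).q ((U.W₃ k x).p ≫ U.ν₂₃ x) (by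
    rw [Category.assoc, ν₂₃_z₂]; exact (U.W₃ k x).q_str)

noncomputable def χ₁₃ (x : (U.κ × U.κ) × U.κ) : (U.W₃ k x).obj ⟶ (U.W₂ k (x.1.1, x.2)).obj :=
  (U.W₂ k _).isPullback.lift (U.W₃ k x).q ((U.W₃ k x).p ≫ U.ν₁₃ x) (by
    rw [Category.assoc, ν₁₃_z₂]; exact (U.W₃ k x).q_str)

noncomputable def χ₁₂ (x : (U.κ × U.κ) × U.κ) : (U.W₃ k x).obj ⟶ (U.W₂ k x.1).obj :=
  (U.W₂ k _).isPullback.lift (U.W₃ k x).q ((U.W₃ k x).p ≫ (U.Z₃ x).q) (by
    rw [Category.assoc, (U.Z₃ x).q_str]; exact (U.W₃ k x).q_str)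

theorem ψ_str (i : U.κ) : U.ψ k i ≫ (U.W₀ k).str = (U.W₁ k i).str := by
  simp only [ψ, Pb.str, IsPullback.lift_snd, Category.comp_id]

theorem φ₁_str (x : U.κ × U.κ) : U.φ₁ k x ≫ (U.W₁ k x.1).str = (U.W₂ k x).str := by
  simp only [φ₁, Pb.str, IsPullback.lift_snd_assoc, Category.assoc, (U.Z₂ x).q_str]

theorem φ₂_str (x : U.κ × U.κ) : U.φ₂ k x ≫ (U.W₁ k x.2).str = (U.W₂ k x).str := by
  simp only [φ₂, Pb.str, IsPullback.lift_snd_assoc, Category.assoc]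

theorem χ₂₃_str (x : (U.κ × U.κ) × U.κ) : U.χ₂₃ k x ≫ (U.W₂ k (x.1.2, x.2)).str = (U.W₃ k x).str := by
  simp only [χ₂₃, Pb.str, IsPullback.lift_snd_assoc, Category.assoc]
  exact congrArg _ (U.ν₂₃_z₂ x)

theorem χ₁₃_str (x : (U.κ × U.κ) × U.κ) : U.χ₁₃ k x ≫ (U.W₂ k (x.1.1, x.2)).str = (U.W₃ k x).str := by
  simp only [χ₁₃, Pb.str, IsPullback.lift_snd_assoc, Category.assoc]
  exact congrArg _ (U.ν₁₃_z₂ x)

theorem χ₁₂_str (x : (U.κ × U.κ) × U.κ) : U.χ₁₂ k x ≫ (U.W₂ k x.1).str = (U.W₃ k x).str := by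
  simp only [χ₁₂, Pb.str, IsPullback.lift_snd_assoc, Category.assoc]
  exact congrArg _ (U.Z₃ x).q_str

/-- The pulled back differentials. -/
noncomputable def e₀ : Sec P (U.W₀ k).str →ₗ[Rc.obj (op E)] ((i : U.κ) → Sec P (U.W₁ k i).str) :=
  LinearMap.pi fun i => res P (U.ψ k i) (U.ψ_str k i)

noncomputable def e₁ : ((i : U.κ) → Sec P (U.W₁ k i).str) →ₗ[Rc.obj (op E)]
    ((x : U.κ × U.κ) → Sec P (U.W₂ k x).str) :=
  LinearMap.pi fun x => (res P (U.φ₂ k x) (U.φ₂_str k x)).comp (LinearMap.proj x.2) -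
    (res P (U.φ₁ k x) (U.φ₁_str k x)).comp (LinearMap.proj x.1)

noncomputable def e₂ : ((x : U.κ × U.κ) → Sec P (U.W₂ k x).str) →ₗ[Rc.obj (op E)]
    ((x : (U.κ × U.κ) × U.κ) → Sec P (U.W₃ k x).str) :=
  LinearMap.pi fun x => (res P (U.χ₂₃ k x) (U.χ₂₃_str k x)).comp (LinearMap.proj (x.1.2, x.2)) -
    (res P (U.χ₁₃ k x) (U.χ₁₃_str k x)).comp (LinearMap.proj (x.1.1, x.2)) +
    (res P (U.χ₁₂ k x) (U.χ₁₂_str k x)).comp (LinearMap.proj x.1)

noncomputable def δ : (U.W₀ k).obj ⟶ (U.W₁ k k).obj :=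
  (U.W₁ k k).isPullback.lift (U.W₀ k).q (U.W₀ k).q rfl

theorem δ_str : U.δ k ≫ (U.W₁ k k).str = (U.W₀ k).str := by
  simp only [δ, Pb.str, IsPullback.lift_snd_assoc]
  exact (U.W₀ k).q_str

noncomputable def σ (i : U.κ) : (U.W₁ k i).obj ⟶ (U.W₂ k (k, i)).obj :=
  (U.W₂ k (k, i)).isPullback.lift (U.W₁ k i).q
    ((U.Z₂ (k, i)).isPullback.lift (U.W₁ k i).q (U.W₁ k i).p (U.W₁ k i).q_str)
    (by simp only [z₂, Pb.str, IsPullback.lift_snd_assoc]; exact (U.W₁ k i).q_str)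

theorem σ_str (i : U.κ) : U.σ k i ≫ (U.W₂ k (k, i)).str = (U.W₁ k i).str := by
  simp only [σ, Pb.str, z₂, IsPullback.lift_snd_assoc]

noncomputable def τ (x : U.κ × U.κ) : (U.W₂ k x).obj ⟶ (U.W₃ k ((k, x.1), x.2)).obj :=
  (U.W₃ k ((k, x.1), x.2)).isPullback.lift (U.W₂ k x).q
    ((U.Z₃ ((k, x.1), x.2)).isPullback.lift
      ((U.Z₂ (k, x.1)).isPullback.lift (U.W₂ k x).q ((U.W₂ k x).p ≫ (U.Z₂ x).q)
        (by rw [Category.assoc, (U.Z₂ x).q_str]; exact (U.W₂ k x).q_str))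
      ((U.W₂ k x).p ≫ (U.Z₂ x).p)
      (by simp only [z₂, Pb.str, IsPullback.lift_snd_assoc, Category.assoc, (U.Z₂ x).q_str]))
    (by simp only [z₃, Pb.str, IsPullback.lift_snd_assoc, Category.assoc]; exact (U.W₂ k x).q_str)

theorem τ_str (x : U.κ × U.κ) : U.τ k x ≫ (U.W₃ k ((k, x.1), x.2)).str = (U.W₂ k x).str := by
  simp only [τ, Pb.str, z₃, z₂, IsPullback.lift_snd_assoc, Category.assoc]

theorem e₀_injective : Function.Injective (U.e₀ P k) := by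
  refine (injective_iff_map_eq_zero _).2 fun y hy => ?_
  have h : U.δ k ≫ U.ψ k k = 𝟙 _ := by
    apply (U.W₀ k).isPullback.hom_ext <;>
      simp [δ, ψ, IsPullback.lift_fst, IsPullback.lift_snd_assoc, IsPullback.lift_fst_assoc]
    exact (U.W₀ k).q_str.trans (Category.comp_id _)
  have := congrArg (res P (U.δ k) (U.δ_str k)) (congr_fun hy k)
  simp only [e₀, LinearMap.pi_apply, Pi.zero_apply] at this
  rwa [res_res, res_congr P h, res_id, map_zero] at this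

theorem e₀_e₁_exact (y : (i : U.κ) → Sec P (U.W₁ k i).str) (hy : U.e₁ P k y = 0) :
    ∃ t, U.e₀ P k t = y := by
  refine ⟨res P (U.δ k) (U.δ_str k) (y k), funext fun i => ?_⟩
  have h2 : U.σ k i ≫ U.φ₂ k (k, i) = 𝟙 _ := by
    apply (U.W₁ k i).isPullback.hom_ext <;>
      simp [σ, φ₂, IsPullback.lift_fst, IsPullback.lift_snd, IsPullback.lift_snd_assoc, IsPullback.lift_fst_assoc]
  have h1 : U.σ k i ≫ U.φ₁ k (k, i) = U.ψ k i ≫ U.δ k := by
    apply (U.W₁ k k).isPullback.hom_ext <;>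
      simp [σ, φ₁, ψ, δ, IsPullback.lift_fst, IsPullback.lift_snd, IsPullback.lift_snd_assoc, IsPullback.lift_fst_assoc]
  have := congrArg (res P (U.σ k i) (U.σ_str k i)) (congr_fun hy (k, i))
  simp only [e₁, LinearMap.pi_apply, LinearMap.sub_apply, LinearMap.comp_apply, LinearMap.proj_apply, Pi.zero_apply] at this
  rw [map_sub, map_zero, res_res, res_res, res_congr P h1, res_congr P h2, res_id, sub_eq_zero] at this
  simp only [e₀, LinearMap.pi_apply]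
  rw [res_res]
  exact this.symm

theorem e₁_e₂_exact (y : (x : U.κ × U.κ) → Sec P (U.W₂ k x).str) (hy : U.e₂ P k y = 0) :
    ∃ h, U.e₁ P k h = y := by
  refine ⟨fun i => res P (U.σ k i) (U.σ_str k i) (y (k, i)), funext fun x => ?_⟩
  have h1 : U.τ k x ≫ U.χ₂₃ k ((k, x.1), x.2) = 𝟙 _ := by
    apply (U.W₂ k x).isPullback.hom_ext
    · simp [τ, χ₂₃]
    · simp only [τ, χ₂₃, Category.assoc, IsPullback.lift_snd, IsPullback.lift_snd_assoc, Category.id_comp]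
      apply (U.Z₂ x).isPullback.hom_ext <;> simp [ν₂₃]
  have h2 : U.τ k x ≫ U.χ₁₃ k ((k, x.1), x.2) = U.φ₂ k x ≫ U.σ k x.2 := by
    apply (U.W₂ k (k, x.2)).isPullback.hom_ext
    · simp [τ, χ₁₃, φ₂, σ]
    · simp only [τ, χ₁₃, σ, Category.assoc, IsPullback.lift_snd, IsPullback.lift_snd_assoc]
      apply (U.Z₂ (k, x.2)).isPullback.hom_ext <;> simp [ν₁₃, φ₂]
  have h3 : U.τ k x ≫ U.χ₁₂ k ((k, x.1), x.2) = U.φ₁ k x ≫ U.σ k x.1 := by
    apply (U.W₂ k (k, x.1)).isPullback.hom_ext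
    · simp [τ, χ₁₂, φ₁, σ]
    · simp only [τ, χ₁₂, σ, Category.assoc, IsPullback.lift_snd, IsPullback.lift_snd_assoc, IsPullback.lift_fst]
      apply (U.Z₂ (k, x.1)).isPullback.hom_ext <;> simp [φ₁]
  have := congrArg (res P (U.τ k x) (U.τ_str k x)) (congr_fun hy ((k, x.1), x.2))
  simp only [e₂, LinearMap.pi_apply, LinearMap.sub_apply, LinearMap.add_apply, LinearMap.comp_apply, LinearMap.proj_apply, Pi.zero_apply] at this
  rw [map_add, map_sub, map_zero, res_res, res_res, res_res, res_congr P h1, res_congr P h2, res_congr P h3,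
    res_id] at this
  simp only [e₁, LinearMap.pi_apply, LinearMap.sub_apply, LinearMap.comp_apply, LinearMap.proj_apply]
  rw [res_res, res_res]
  exact (sub_eq_zero.1 (by rw [← this]; abel)).symm

variable {P} (hP : AllBC A P)

open scoped Classical in
/-- The base change of a product of sections. -/
noncomputable def piMu {ι : Type} [Finite ι] (X : ι → C) (g : ∀ x, X x ⟶ E) (hX : ∀ x, A.aff (X x))
    (W : ∀ x, Pb A (U.z k) (g x)) :
    RingOf Rc (U.z k) ⊗[Rc.obj (op E)] ((x : ι) → Sec P (g x)) ≃ₗ[Rc.obj (op E)]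
      ((x : ι) → Sec P (W x).str) :=
  letI := Fintype.ofFinite ι
  (TensorProduct.piRight (Rc.obj (op E)) (Rc.obj (op E)) (RingOf Rc (U.z k)) _).trans
    (LinearEquiv.piCongrRight fun x => LinearEquiv.ofBijective _ ((W x).mu_bij hP (hX x)))

include hP in
theorem piMu_apply {ι : Type} [Finite ι] (X : ι → C) (g : ∀ x, X x ⟶ E) (hX : ∀ x, A.aff (X x))
    (W : ∀ x, Pb A (U.z k) (g x)) (t : RingOf Rc (U.z k) ⊗[Rc.obj (op E)] ((x : ι) → Sec P (g x))) (x : ι) :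
    U.piMu k hP X g hX W t x = mu P (W x).q (W x).p (W x).q_str rfl ((LinearMap.proj x).lTensor _ t) := by
  induction t with
  | zero => simp
  | add a b ha hb => simp [ha, hb]
  | tmul b s => simp [piMu]

end

variable {P} (hP : AllBC A P)

theorem hsurj : ∀ p : PrimeSpectrum (Rc.obj (op E)), ∃ i, ∃ q : PrimeSpectrum (RingOf Rc (U.z i)),
    PrimeSpectrum.comap (algebraMap (Rc.obj (op E)) (RingOf Rc (U.z i))) q = p := fun p => U.surj p

theorem flat_z (i : U.κ) : Module.Flat (Rc.obj (op E)) (RingOf Rc (U.z i)) := A.flat _ U.affE (U.affZ i)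

/-- The base change of the augmentation. -/
noncomputable def mu₀ (k : U.κ) :
    RingOf Rc (U.z k) ⊗[Rc.obj (op E)] Sec P (𝟙 E) ≃ₗ[Rc.obj (op E)] Sec P (U.W₀ k).str :=
  LinearEquiv.ofBijective _ ((U.W₀ k).mu_bij hP U.affE)

theorem piMu_d₀ (k : U.κ) (t : RingOf Rc (U.z k) ⊗[Rc.obj (op E)] Sec P (𝟙 E)) :
    U.piMu k hP U.Z U.z U.affZ (U.W₁ k) ((U.d₀ P).lTensor _ t) = U.e₀ P k (U.mu₀ hP k t) := by
  funext i
  rw [piMu_apply, ← LinearMap.lTensor_comp_apply, d₀, LinearMap.proj_pi]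
  exact (map_res_mu (U.z i) (Category.comp_id _) _ _ (U.W₀ k).q_str rfl _ _ (U.W₁ k i).q_str rfl
    (U.ψ k i) (U.ψ_str k i) (IsPullback.lift_fst _ _ _ _) (IsPullback.lift_snd _ _ _ _) t).symm

theorem piMu_d₁ (k : U.κ) (t : RingOf Rc (U.z k) ⊗[Rc.obj (op E)] ((i : U.κ) → Sec P (U.z i))) :
    U.piMu k hP _ U.z₂ (fun x => (U.Z₂ x).aff) (U.W₂ k) ((U.d₁ P).lTensor _ t) =
      U.e₁ P k (U.piMu k hP U.Z U.z U.affZ (U.W₁ k) t) := by
  funext x
  rw [piMu_apply, ← LinearMap.lTensor_comp_apply, d₁, LinearMap.proj_pi, LinearMap.lTensor_sub,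
    LinearMap.sub_apply, map_sub, LinearMap.lTensor_comp_apply, LinearMap.lTensor_comp_apply]
  simp only [e₁, LinearMap.pi_apply, LinearMap.sub_apply, LinearMap.comp_apply, LinearMap.proj_apply]
  rw [piMu_apply, piMu_apply]
  congr 1
  · exact (map_res_mu (U.Z₂ x).p rfl _ _ (U.W₁ k x.2).q_str rfl _ _ (U.W₂ k x).q_str rfl
      (U.φ₂ k x) (U.φ₂_str k x) (IsPullback.lift_fst _ _ _ _) (IsPullback.lift_snd _ _ _ _) _).symm
  · exact (map_res_mu (U.Z₂ x).q (U.Z₂ x).q_str _ _ (U.W₁ k x.1).q_str rfl _ _ (U.W₂ k x).q_str rfl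
      (U.φ₁ k x) (U.φ₁_str k x) (IsPullback.lift_fst _ _ _ _) (IsPullback.lift_snd _ _ _ _) _).symm

theorem piMu_d₂ (k : U.κ) (t : RingOf Rc (U.z k) ⊗[Rc.obj (op E)] ((x : U.κ × U.κ) → Sec P (U.z₂ x))) :
    U.piMu k hP _ U.z₃ (fun x => (U.Z₃ x).aff) (U.W₃ k) ((U.d₂ P).lTensor _ t) =
      U.e₂ P k (U.piMu k hP _ U.z₂ (fun x => (U.Z₂ x).aff) (U.W₂ k) t) := by
  funext x
  rw [piMu_apply, ← LinearMap.lTensor_comp_apply, d₂, LinearMap.proj_pi, LinearMap.lTensor_add,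
    LinearMap.lTensor_sub, LinearMap.add_apply, LinearMap.sub_apply, map_add, map_sub,
    LinearMap.lTensor_comp_apply, LinearMap.lTensor_comp_apply, LinearMap.lTensor_comp_apply]
  simp only [e₂, LinearMap.pi_apply, LinearMap.sub_apply, LinearMap.add_apply, LinearMap.comp_apply, LinearMap.proj_apply]
  rw [piMu_apply, piMu_apply, piMu_apply]
  refine congrArg₂ (· + ·) (congrArg₂ (· - ·) ?_ ?_) ?_
  · exact (map_res_mu (U.ν₂₃ x) (U.ν₂₃_z₂ x) _ _ (U.W₂ k _).q_str rfl _ _ (U.W₃ k x).q_str rfl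
      (U.χ₂₃ k x) (U.χ₂₃_str k x) (IsPullback.lift_fst _ _ _ _) (IsPullback.lift_snd _ _ _ _) _).symm
  · exact (map_res_mu (U.ν₁₃ x) (U.ν₁₃_z₂ x) _ _ (U.W₂ k _).q_str rfl _ _ (U.W₃ k x).q_str rfl
      (U.χ₁₃ k x) (U.χ₁₃_str k x) (IsPullback.lift_fst _ _ _ _) (IsPullback.lift_snd _ _ _ _) _).symm
  · exact (map_res_mu (U.Z₃ x).q (U.Z₃ x).q_str _ _ (U.W₂ k _).q_str rfl _ _ (U.W₃ k x).q_str rfl
      (U.χ₁₂ k x) (U.χ₁₂_str k x) (IsPullback.lift_fst _ _ _ _) (IsPullback.lift_snd _ _ _ _) _).symm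

include hP in
theorem d₀_injective : Function.Injective (U.d₀ P) := by
  refine (injective_iff_map_eq_zero _).2 fun s hs => ?_
  have := U.flat_z
  refine Subtype.ext_iff.1 (subsingleton_of_forall_tensor (fun i => RingOf Rc (U.z i)) U.hsurj (fun k t => ?_)
    (⟨s, hs⟩ : LinearMap.ker (U.d₀ P)))
  refine Module.Flat.lTensor_preserves_injective_linearMap (M := RingOf Rc (U.z k)) (LinearMap.ker (U.d₀ P)).subtype
    (Submodule.injective_subtype _) ((U.mu₀ hP k).injective (U.e₀_injective P k ?_))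
  rw [map_zero, map_zero, map_zero, ← piMu_d₀, ← LinearMap.lTensor_comp_apply,
    show (U.d₀ P).comp (LinearMap.ker (U.d₀ P)).subtype = 0 from LinearMap.ext fun x => x.2,
    LinearMap.lTensor_zero, LinearMap.zero_apply, map_zero]

include hP in
theorem exact_d₀_d₁ : Function.Exact (U.d₀ P) (U.d₁ P) := by
  have := U.flat_z
  refine exact_of_tensor _ _ (U.d₁_d₀ P) (fun i => RingOf Rc (U.z i)) U.hsurj fun k t => ⟨fun ht => ?_, ?_⟩
  · obtain ⟨y, hy⟩ := U.e₀_e₁_exact P k (U.piMu k hP U.Z U.z U.affZ (U.W₁ k) t)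
      (by rw [← piMu_d₁, ht, map_zero])
    refine ⟨(U.mu₀ hP k).symm y, (U.piMu k hP U.Z U.z U.affZ (U.W₁ k)).injective ?_⟩
    rw [piMu_d₀, LinearEquiv.apply_symm_apply, hy]
  · rintro ⟨y, rfl⟩
    rw [← LinearMap.lTensor_comp_apply, U.d₁_d₀, LinearMap.lTensor_zero, LinearMap.zero_apply]

include hP in
theorem exact_d₁_d₂ : Function.Exact (U.d₁ P) (U.d₂ P) := by
  have := U.flat_z
  refine exact_of_tensor _ _ (U.d₂_d₁ P) (fun i => RingOf Rc (U.z i)) U.hsurj fun k t => ⟨fun ht => ?_, ?_⟩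
  · obtain ⟨y, hy⟩ := U.e₁_e₂_exact P k (U.piMu k hP _ U.z₂ (fun x => (U.Z₂ x).aff) (U.W₂ k) t)
      (by rw [← piMu_d₂, ht, map_zero])
    refine ⟨(U.piMu k hP U.Z U.z U.affZ (U.W₁ k)).symm y,
      (U.piMu k hP _ U.z₂ (fun x => (U.Z₂ x).aff) (U.W₂ k)).injective ?_⟩
    rw [piMu_d₁, LinearEquiv.apply_symm_apply, hy]
  · rintro ⟨y, rfl⟩
    rw [← LinearMap.lTensor_comp_apply, U.d₂_d₁, LinearMap.lTensor_zero, LinearMap.zero_apply]

end AffCov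

end Groth.Agent.H12AlgSp.BCMod
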