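import Groth.Agent.H12AlgSp.BCMod.PushQcqs
import Groth.Agent.S9987
import Groth.Prelude.Def_AlgSpModX

/-!
Closed immersions of algebraic spaces: a module annihilated by the ideal is acted on by the functions of the subspace.
-/

set_option backward.isDefEq.respectTransparency false

universe u

open CategoryTheory CategoryTheory.Limits AlgebraicGeometry Opposite
open AlgSp Groth.Agent.H12AlgSp

namespace Groth.Agent.H12AlgSp.BCMod

variable {S : Scheme.{u}} {Z X : Space S} {i : Z ⟶ X} (hi : RepWith @IsClosedImmersion i.hom)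
  (F : ModEt X.obj)

/-- The functions killed on the subspace annihilate the module. -/
def KillsF : Prop :=
  ∀ (E : EtOver X.obj) (a : (OEt X.obj).obj.obj (op E)), topHom hi.1 E a = 0 →
    ∀ x : (pmX F).obj (op E), a • x = 0

theorem killsF_of_affine
    (h : ∀ (E : EtOver X.obj), IsAffine E.obj.left.left → ∀ (a : (OEt X.obj).obj.obj (op E)), topHom hi.1 E a = 0 →
      ∀ x : (pmX F).obj (op E), a • x = 0) : KillsF hi F := by
  intro E a ha x
  refine ext_of_opens F E (fun V : E.obj.left.left.affineOpens => V.1) (fun p => ?_) _ _ fun V => ?_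
  · obtain ⟨_, ⟨V, hV, rfl⟩, hp, -⟩ :=
      E.obj.left.left.isBasis_affineOpens.exists_subset_of_mem_open (Set.mem_univ p) isOpen_univ
    exact ⟨⟨V, hV⟩, hp⟩
  · rw [map_zero]
    refine ((pmX F).map (etOpenι E V.1).op).hom.map_smul a x |>.trans ?_
    refine h (etOpen E V.1) V.2 _ ?_ _
    refine (topHom_nat hi.1 (etOpenι E V.1) a).symm.trans ?_
    rw [ha, map_zero]

variable {F}

/-- The sieve where a function on the subspace lifts. -/
noncomputable def liftSieve (E : EtOver X.obj) (b : (OEt Z.obj).obj.obj (op ((EtOver.bc hi.1).obj E))) : Sieve E where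
  arrows E' g := ∃ a, topHom hi.1 E' a = ((OEt Z.obj).obj.map ((EtOver.bc hi.1).map g).op).hom b
  downward_closed := by
    rintro E' E'' g ⟨a, ha⟩ k
    refine ⟨((OEt X.obj).obj.map k.op).hom a, ?_⟩
    rw [← topHom_nat, ha, map_OEt_comp, ← Functor.map_comp]

theorem liftSieve_mem (E : EtOver X.obj) (b : (OEt Z.obj).obj.obj (op ((EtOver.bc hi.1).obj E))) :
    liftSieve hi E b ∈ etTop X.obj E :=
  (etTop X.obj).superset_covering (fun E' g hg => hg) ((Groth.Agent.S9987.result i hi).imageSieve_mem (U := E) b)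

/-- `y` is the product of `x` by a function on the subspace. -/
def IsAct {E : EtOver X.obj} (b : (OEt Z.obj).obj.obj (op ((EtOver.bc hi.1).obj E))) (x y : (pmX F).obj (op E)) : Prop :=
  ∀ (E' : EtOver X.obj) (g : E' ⟶ E) (a : (OEt X.obj).obj.obj (op E')),
    topHom hi.1 E' a = ((OEt Z.obj).obj.map ((EtOver.bc hi.1).map g).op).hom b →
      ((pmX F).map g.op).hom y = a • ((pmX F).map g.op).hom x

theorem isAct_unique {E : EtOver X.obj} {b : (OEt Z.obj).obj.obj (op ((EtOver.bc hi.1).obj E))}
    {x y y' : (pmX F).obj (op E)} (h : IsAct hi b x y) (h' : IsAct hi b x y') : y = y' :=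
  sheaf_ext (P := pmX F) F.isSheaf (liftSieve_mem hi E b) y y' fun E' g ⟨a, ha⟩ => (h E' g a ha).trans (h' E' g a ha).symm

variable (hk : KillsF hi F)

include hk in
theorem exists_isAct {E : EtOver X.obj} (b : (OEt Z.obj).obj.obj (op ((EtOver.bc hi.1).obj E)))
    (x : (pmX F).obj (op E)) : ∃ y, IsAct hi b x y := by
  classical
  let fam : Presieve.FamilyOfElements ((pmX F).presheaf ⋙ CategoryTheory.forget AddCommGrpCat.{u + 1})
      (liftSieve hi E b).arrows := fun E' g hg => hg.choose • ((pmX F).map g.op).hom x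
  have hwd : ∀ (E' : EtOver X.obj) (g : E' ⟶ E) (a a' : (OEt X.obj).obj.obj (op E')),
      topHom hi.1 E' a = topHom hi.1 E' a' → a • ((pmX F).map g.op).hom x = a' • ((pmX F).map g.op).hom x :=
    fun E' g a a' e => by
      rw [← sub_eq_zero, ← sub_smul]
      exact hk E' _ (by rw [map_sub, e, sub_self]) _
  have hcomp : fam.Compatible := (Presieve.compatible_iff_sieveCompatible fam).2 fun E'' E' g k hg => by
    have hr : ((pmX F).map k.op).hom (hg.choose • ((pmX F).map g.op).hom x) =
        ((OEt X.obj).obj.map k.op).hom hg.choose • ((pmX F).map k.op).hom (((pmX F).map g.op).hom x) :=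
      ((pmX F).map k.op).hom.map_smul _ _
    refine Eq.trans ?_ hr.symm
    rw [pm_map_comp]
    refine hwd _ (k ≫ g) _ _ ?_
    rw [((liftSieve hi E b).downward_closed hg k).choose_spec, ← topHom_nat, hg.choose_spec, map_OEt_comp,
      ← Functor.map_comp]
  obtain ⟨y, hy, -⟩ := (isSheaf_types (P := pmX F) F.isSheaf) _ (liftSieve_mem hi E b) fam hcomp
  refine ⟨y, fun E' g a ha => ?_⟩
  have hg : (liftSieve hi E b).arrows g := ⟨a, ha⟩
  exact (hy g hg).trans (hwd E' g _ a (hg.choose_spec.trans ha.symm))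

/-- The action of functions on the subspace. -/
noncomputable def act {E : EtOver X.obj} (b : (OEt Z.obj).obj.obj (op ((EtOver.bc hi.1).obj E)))
    (x : (pmX F).obj (op E)) : (pmX F).obj (op E) := (exists_isAct hi hk b x).choose

theorem isAct_act {E : EtOver X.obj} (b : (OEt Z.obj).obj.obj (op ((EtOver.bc hi.1).obj E)))
    (x : (pmX F).obj (op E)) : IsAct hi b x (act hi hk b x) := (exists_isAct hi hk b x).choose_spec

theorem act_top {E : EtOver X.obj} (a : (OEt X.obj).obj.obj (op E)) (x : (pmX F).obj (op E)) :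
    act hi hk (topHom hi.1 E a) x = a • x := by
  refine isAct_unique hi (isAct_act hi hk _ x) fun E' g a' ha' => ?_
  refine (((pmX F).map g.op).hom.map_smul a x).trans ?_
  rw [eq_comm, ← sub_eq_zero]
  refine (sub_smul _ _ _).symm.trans (hk E' _ ?_ _)
  rw [map_sub, ha', sub_eq_zero]
  first | exact topHom_nat hi.1 g a | exact (topHom_nat hi.1 g a).symm

theorem act_nat {E E' : EtOver X.obj} (g : E' ⟶ E) (b : (OEt Z.obj).obj.obj (op ((EtOver.bc hi.1).obj E)))
    (x : (pmX F).obj (op E)) :
    ((pmX F).map g.op).hom (act hi hk b x) =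
      act hi hk (((OEt Z.obj).obj.map ((EtOver.bc hi.1).map g).op).hom b) (((pmX F).map g.op).hom x) := by
  refine @isAct_unique _ _ _ _ hi F E' (((OEt Z.obj).obj.map ((EtOver.bc hi.1).map g).op).hom b)
    (((pmX F).map g.op).hom x) (((pmX F).map g.op).hom (act hi hk b x)) _ (fun E'' k a ha => ?_) (isAct_act hi hk _ _)
  rw [pm_map_comp, pm_map_comp]
  refine isAct_act hi hk b x E'' (k ≫ g) a ?_
  rw [ha, map_OEt_comp, ← Functor.map_comp]

theorem one_act {E : EtOver X.obj} (x : (pmX F).obj (op E)) : act hi hk (1 : (OEt Z.obj).obj.obj (op ((EtOver.bc hi.1).obj E))) x = x := by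
  rw [← map_one (topHom hi.1 E), act_top, one_smul]

theorem zero_act {E : EtOver X.obj} (x : (pmX F).obj (op E)) : act hi hk (0 : (OEt Z.obj).obj.obj (op ((EtOver.bc hi.1).obj E))) x = 0 := by
  rw [← map_zero (topHom hi.1 E), act_top, zero_smul]

theorem act_zero {E : EtOver X.obj} (b : (OEt Z.obj).obj.obj (op ((EtOver.bc hi.1).obj E))) :
    act hi hk b (0 : (pmX F).obj (op E)) = 0 :=
  isAct_unique hi (isAct_act hi hk b 0) fun E' g a _ => by rw [map_zero, smul_zero]

theorem act_add {E : EtOver X.obj} (b : (OEt Z.obj).obj.obj (op ((EtOver.bc hi.1).obj E)))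
    (x x' : (pmX F).obj (op E)) : act hi hk b (x + x') = act hi hk b x + act hi hk b x' :=
  isAct_unique hi (isAct_act hi hk b _) fun E' g a ha => by
    rw [map_add, map_add, smul_add, isAct_act hi hk b x E' g a ha, isAct_act hi hk b x' E' g a ha]

theorem add_act {E : EtOver X.obj} (b c : (OEt Z.obj).obj.obj (op ((EtOver.bc hi.1).obj E)))
    (x : (pmX F).obj (op E)) : act hi hk (b + c) x = act hi hk b x + act hi hk c x :=
  sheaf_ext (P := pmX F) F.isSheaf ((etTop X.obj).intersection_covering (liftSieve_mem hi E b) (liftSieve_mem hi E c)) _ _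
    fun E' g ⟨⟨a, ha⟩, ⟨a', ha'⟩⟩ => by
      rw [map_add, isAct_act hi hk b x E' g a ha, isAct_act hi hk c x E' g a' ha',
        isAct_act hi hk (b + c) x E' g (a + a') (by rw [map_add, map_add, ha, ha']), add_smul]

theorem mul_act {E : EtOver X.obj} (b c : (OEt Z.obj).obj.obj (op ((EtOver.bc hi.1).obj E)))
    (x : (pmX F).obj (op E)) : act hi hk (b * c) x = act hi hk b (act hi hk c x) :=
  sheaf_ext (P := pmX F) F.isSheaf ((etTop X.obj).intersection_covering (liftSieve_mem hi E b) (liftSieve_mem hi E c)) _ _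
    fun E' g ⟨⟨a, ha⟩, ⟨a', ha'⟩⟩ => by
      rw [isAct_act hi hk b _ E' g a ha, isAct_act hi hk c x E' g a' ha',
        isAct_act hi hk (b * c) x E' g (a * a') (by rw [map_mul, map_mul, ha, ha']), mul_smul]

end Groth.Agent.H12AlgSp.BCMod
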