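import Groth.Agent.H12AlgSp.BCMod.ClosedPush
import Groth.Agent.H12AlgSp.BCMod.Coherator
import Groth.Agent.H12AlgSp.BCMod.SubSheaf
import Mathlib.CategoryTheory.Adjunction.Comma

/-!
The direct image along a closed immersion has a right adjoint on quasi-coherent modules.
-/

set_option backward.isDefEq.respectTransparency false

universe u

open CategoryTheory CategoryTheory.Limits AlgebraicGeometry Opposite
open AlgSp Groth.Agent.H12AlgSp

namespace Groth.Agent.H12AlgSp.BCMod

variable {S : Scheme.{u}} {Z X : Space S} {i : Z ⟶ X} (hi : RepWith @IsClosedImmersion i.hom) (F : ModEt X.obj)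

/-- The sections killed by the ideal of the subspace. -/
noncomputable def killedSub : (pm F).Submodule where
  obj Y :=
    { carrier := {x | ∀ (E : EtOver X.obj) (g : E ⟶ Y.unop) (a : (OEt X.obj).obj.obj (op E)),
        topHom hi.1 E a = 0 → a • ((pm F).map g.op).hom x = 0}
      add_mem' := fun ha hb E g a h0 => by rw [map_add, smul_add, ha E g a h0, hb E g a h0, add_zero]
      zero_mem' := fun E g a h0 => by rw [map_zero, smul_zero]
      smul_mem' := fun r x hx E g a h0 => by
        rw [map_smul_sec g r x, smul_comm]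
        exact (congrArg _ (hx E g a h0)).trans (smul_zero _) }
  map {Y Y'} f := fun x hx E g a h0 => by
    have := hx E (g ≫ f.unop) a h0
    rw [← map_comp_sec] at this
    exact this

theorem isSheaf_killedSub : Presheaf.IsSheaf (etTop X.obj) (killedSub hi F).toPresheafOfModules.presheaf := by
  rw [Presheaf.isSheaf_iff_isSheaf_forget (etTop X.obj) _ (CategoryTheory.forget AddCommGrpCat.{u + 1}),
    isSheaf_iff_isSheaf_of_type]
  intro Y R hR x hx
  let xM : Presieve.FamilyOfElements ((pm F).presheaf ⋙ CategoryTheory.forget _) R.arrows :=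
    fun V f hf => (x f hf).1
  have hxM : xM.Compatible := fun Y₁ Y₂ W g₁ g₂ f₁ f₂ h₁ h₂ e => congrArg Subtype.val (hx g₁ g₂ h₁ h₂ e)
  obtain ⟨s, hs, hu⟩ := isSheaf_types (P := pm F) F.isSheaf R hR xM hxM
  have hmem : s ∈ (killedSub hi F).obj (op Y) := fun E g a h0 => by
    refine sheaf_ext (P := pm F) F.isSheaf ((etTop X.obj).pullback_stable g hR) _ 0 fun V k hk => ?_
    rw [map_smul_sec k a, map_zero, map_comp_sec]
    have h0' : topHom hi.1 V (((OEt X.obj).obj.map k.op).hom a) = 0 := by rw [← topHom_nat, h0, map_zero]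
    have h1 := (x (k ≫ g) hk).2 V (𝟙 V) _ h0'
    rw [op_id, (pm F).map_id] at h1
    rw [show ((pm F).map (k ≫ g).op).hom s = (x (k ≫ g) hk).1 from hs (k ≫ g) hk]
    exact h1
  refine ⟨⟨s, hmem⟩, fun V f hf => Subtype.ext (hs f hf), fun t ht => Subtype.ext ?_⟩
  exact hu t.1 fun V f hf => congrArg Subtype.val (ht f hf)

/-- The subsheaf killed by the ideal. -/
noncomputable def killedMod : ModEt X.obj := ⟨(killedSub hi F).toPresheafOfModules, isSheaf_killedSub hi F⟩

/-- The inclusion. -/
noncomputable def killedIncl : killedMod hi F ⟶ F := ⟨(killedSub hi F).ι⟩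

instance : Mono (killedIncl hi F) :=
  (SheafOfModules.forget _).mono_of_mono_map (show Mono (killedSub hi F).ι from inferInstance)

variable {F}

/-- Factorization through the killed subsheaf. -/
theorem exists_factor {P : ModEt X.obj} (hP : KillsF hi P) (φ : P ⟶ F) :
    ∃ ψ : P ⟶ killedMod hi F, ψ ≫ killedIncl hi F = φ := by
  have hmem : ∀ (Y : (EtOver X.obj)ᵒᵖ) (x : (pm P).obj Y), (φ.val.app Y).hom x ∈ (killedSub hi F).obj Y :=
    fun Y x E g a h0 => by
      refine ((congrArg (a • ·) (PresheafOfModules.naturality_apply φ.val g.op x).symm).trans ?_)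
      refine ((φ.val.app (op E)).hom.map_smul a (((pm P).map g.op).hom x)).symm.trans ?_
      exact (congrArg _ (hP E a h0 _)).trans (map_zero _)
  refine ⟨⟨PresheafOfModules.homMk
    { app := fun Y => AddCommGrpCat.ofHom
        { toFun := fun x => (⟨(φ.val.app Y).hom x, hmem Y x⟩ : (killedSub hi F).obj Y)
          map_zero' := Subtype.ext (map_zero _)
          map_add' := fun x y => Subtype.ext (map_add _ x y) }
      naturality := fun Y Y' f => by
        ext x
        exact Subtype.ext (PresheafOfModules.naturality_apply φ.val f x) }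
    (fun Y r x => Subtype.ext ((φ.val.app Y).hom.map_smul r x))⟩, ?_⟩
  apply SheafOfModules.hom_ext
  refine PresheafOfModules.hom_ext fun Y => ModuleCat.hom_ext (LinearMap.ext fun x => rfl)

theorem killsF_killedMod : KillsF hi (killedMod hi F) := fun E a h0 x => by
  refine Subtype.ext ?_
  have h := x.2 E (𝟙 E) a h0
  rw [op_id, (pm F).map_id] at h
  exact h

theorem killsF_of_mono {P Q : ModEt X.obj} (f : P ⟶ Q) [Mono f] (hQ : KillsF hi Q) : KillsF hi P :=
  fun E a h0 x => by
    refine mono_app_injective (Rsh := OEt X.obj) f (op E) ?_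
    refine ((f.val.app (op E)).hom.map_smul a x).trans ?_
    exact (hQ E a h0 _).trans (map_zero (f.val.app (op E)).hom).symm

theorem killsF_push (G : ModEt Z.obj) : KillsF hi ((pushModEt hi.1).obj G) := fun E a h0 s => by
  refine (ofPush_smul hi.1 G (E := E) a s).trans ?_
  rw [h0, zero_smul]

/-- The cofree object. -/
theorem exists_cofree (hF : F.IsQuasicoherent)
    (hq : ∀ G : ModEt Z.obj, G.IsQuasicoherent → ((pushModEt hi.1).obj G).IsQuasicoherent) :
    ∃ (G : ModEt Z.obj) (ε : (pushModEt hi.1).obj G ⟶ F), G.IsQuasicoherent ∧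
      ∀ H : ModEt Z.obj, H.IsQuasicoherent →
        Function.Bijective (fun k : H ⟶ G => (pushModEt hi.1).map k ≫ ε) := by
  obtain ⟨G', κ, hκ, hG', hbij⟩ := exists_largest_qcoh hF (killedIncl hi F)
  haveI := hG'
  have hk : KillsF hi G' := killsF_of_mono hi κ (killsF_killedMod hi)
  obtain ⟨G, ⟨e⟩⟩ := exists_pushModEt_iso hi hk (subsingleton_of_disjoint hi hk)
  refine ⟨G, e.hom ≫ κ ≫ killedIncl hi F, isQuasicoherent_of_pushModEt_iso hi e, fun H hH => ⟨fun a b h => ?_, fun φ => ?_⟩⟩
  · haveI := EtUHomeo.pushModEt_faithful i hi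
    exact (pushModEt hi.1).map_injective ((cancel_mono (e.hom ≫ κ ≫ killedIncl hi F)).1 h)
  · haveI := EtUHomeo.pushModEt_full i hi
    obtain ⟨ψ, hψ⟩ := exists_factor hi (killsF_push hi H) φ
    obtain ⟨v, hv⟩ := (hbij ((pushModEt hi.1).obj H) (hq _ hH)).2 ψ
    obtain ⟨k, hk⟩ := (pushModEt hi.1).map_surjective (v ≫ e.inv)
    refine ⟨k, ?_⟩
    change (pushModEt hi.1).map k ≫ e.hom ≫ κ ≫ killedIncl hi F = φ
    rw [hk, Category.assoc, e.inv_hom_id_assoc, ← Category.assoc, show v ≫ κ = ψ from hv, hψ]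

/-- The restricted direct image. -/
noncomputable abbrev pushQCoh
    (hq : ∀ G : ModEt Z.obj, G.IsQuasicoherent → ((pushModEt hi.1).obj G).IsQuasicoherent) :=
  (SheafOfModules.isQuasicoherent (OEtRing X.obj)).lift
    ((SheafOfModules.isQuasicoherent (OEtRing Z.obj)).ι ⋙ pushModEt hi.1) (fun G => hq G.obj G.property)

theorem isLeftAdjoint_pushModEt
    (hq : ∀ G : ModEt Z.obj, G.IsQuasicoherent → ((pushModEt hi.1).obj G).IsQuasicoherent) :
    (pushQCoh hi hq).IsLeftAdjoint := by
  rw [isLeftAdjoint_iff_hasTerminal_costructuredArrow]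
  intro A
  obtain ⟨G, ε, hG, hb⟩ := exists_cofree hi A.property hq
  let T : CostructuredArrow (pushQCoh hi hq) A :=
    CostructuredArrow.mk (Y := ⟨G, hG⟩) (show (pushQCoh hi hq).obj ⟨G, hG⟩ ⟶ A from
      (InducedCategory.homMk ε : (⟨(pushModEt hi.1).obj G, hq G hG⟩ : QCohEt X.obj) ⟶ A))
  have key : ∀ B : CostructuredArrow (pushQCoh hi hq) A,
      ∃ k : B.left.obj ⟶ G, (pushModEt hi.1).map k ≫ ε = B.hom.hom := fun B =>
    (hb B.left.obj B.left.property).2 B.hom.hom
  choose k hk using key
  refine (IsTerminal.ofUniqueHom (Y := T) (fun B => CostructuredArrow.homMk (ObjectProperty.homMk (k B))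
    (ObjectProperty.hom_ext _ (by exact hk B))) fun B m => ?_).hasTerminal
  refine CostructuredArrow.hom_ext _ _ (ObjectProperty.hom_ext _ ((hb B.left.obj B.left.property).1 ?_))
  exact (congrArg (fun f => f.hom) (CostructuredArrow.w m)).trans (hk B).symm

end Groth.Agent.H12AlgSp.BCMod
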