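import Mathlib.Algebra.Category.ModuleCat.Sheaf.Quasicoherent
import Mathlib.Algebra.Category.ModuleCat.Sheaf.PullbackFree
import Groth.Prelude.Def_AlgSpOX2
import Groth.Agent.H12AlgSp.EtUHomeo

/-!
Pullback of sheaves of modules along a continuous functor preserving binary products preserves
quasi-coherence, provided that it takes covers of the top to covers of the top.
-/

set_option linter.unusedVariables false
set_option backward.isDefEq.respectTransparency false

universe u v₁ v₂ u₁ u₂

open CategoryTheory CategoryTheory.Limits Opposite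

namespace Groth.Agent.H12AlgSp.BCMod

section

variable {C : Type u₁} [Category.{v₁} C] {D : Type u₂} [Category.{v₂} D]
  [HasBinaryProducts C] [HasBinaryProducts D]
  {J : GrothendieckTopology C} {K : GrothendieckTopology D} {F : C ⥤ D}
  {S : Sheaf J RingCat.{u}} {R : Sheaf K RingCat.{u}}
  [Functor.IsContinuous F J K]
  (φ : S ⟶ (F.sheafPushforwardContinuous RingCat.{u} J K).obj R)
  (E : C) [(Over.post (X := E) F).IsContinuous (J.over E) (K.over (F.obj E))]

/-- The ring map on slices. -/
noncomputable def postHom : S.over E ⟶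
    ((Over.post (X := E) F).sheafPushforwardContinuous RingCat.{u} (J.over E) (K.over (F.obj E))).obj
      (R.over (F.obj E)) :=
  ((Over.forget E).sheafPushforwardContinuous RingCat.{u} (J.over E) J).map φ

/-- The direct image on slices. -/
noncomputable abbrev pushPost :=
  SheafOfModules.pushforward.{u} (postHom φ E)

variable [PreservesLimitsOfShape (Discrete WalkingPair) F]

/-- Base change commutes with taking products with `E`. -/
noncomputable def starPostIso : Over.star E ⋙ Over.post F ≅ F ⋙ Over.star (F.obj E) :=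
  NatIso.ofComponents (fun Z => Over.isoMk (PreservesLimitPair.iso F E Z)
    (show (PreservesLimitPair.iso F E Z).hom ≫ prod.lift prod.fst (𝟙 _) ≫ prod.fst =
      F.map (prod.lift prod.fst (𝟙 _) ≫ prod.fst) by
      erw [prod.lift_fst, prod.lift_fst]
      simp [prodComparison]))
    (fun g => by
      apply Over.OverMorphism.ext
      apply Limits.prod.hom_ext <;> simp [Over.star, coalgebraToOver, prodComparison, ← Functor.map_comp])

/-- The two composite right adjoints agree. -/
noncomputable def rightIso :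
    pushPost φ E ⋙ SheafOfModules.pushforward.{u} (SheafOfModules.pushforwardOver (R := S) E) ≅
      SheafOfModules.pushforward.{u} (SheafOfModules.pushforwardOver (R := R) (F.obj E)) ⋙
        SheafOfModules.pushforward.{u} φ := by
  haveI : (Over.star E ⋙ Over.post F).IsContinuous J (K.over (F.obj E)) :=
    Functor.isContinuous_comp _ _ _ (J.over E) _
  haveI : (F ⋙ Over.star (F.obj E)).IsContinuous J (K.over (F.obj E)) :=
    Functor.isContinuous_comp _ _ _ K _
  refine SheafOfModules.pushforwardComp _ _ ≪≫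
    SheafOfModules.pushforwardCongr₂ (φ := _) (starPostIso E).symm ?_ ≪≫ (SheafOfModules.pushforwardComp _ _).symm
  apply Sheaf.hom_ext
  ext U : 2
  have h1 := φ.hom.naturality (prod.snd (X := E) (Y := U.unop)).op
  have h2 : (PreservesLimitPair.iso F E U.unop).inv ≫ F.map prod.snd = prod.snd := by
    rw [Iso.inv_comp_eq]; simp
  simp [postHom, SheafOfModules.pushforwardOver, starPostIso]
  erw [← R.obj.map_comp, ← op_comp, h2]

/-- A universal arrow from `M` to a direct image. -/
abbrev IsUnivPush {M : SheafOfModules.{u} S} {L : SheafOfModules.{u} R}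
    (η : M ⟶ (SheafOfModules.pushforward.{u} φ).obj L) : Prop :=
  ∀ N : SheafOfModules.{u} R, Function.Bijective (fun k : L ⟶ N => η ≫ (SheafOfModules.pushforward.{u} φ).map k)

/-- Morphisms out of the restriction of a universal object. -/
noncomputable def overEquiv' {M : SheafOfModules.{u} S} {L : SheafOfModules.{u} R}
    {η : M ⟶ (SheafOfModules.pushforward.{u} φ).obj L} (hη : IsUnivPush φ η)
    (N : SheafOfModules.{u} (R.over (F.obj E))) :
    (L.over (F.obj E) ⟶ N) ≃ (M.over E ⟶ (pushPost φ E).obj N) :=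
  (((SheafOfModules.overPushforwardOverAdj (R := R) (F.obj E)).homEquiv L N).trans
    ((Equiv.ofBijective _ (hη _)).trans ((rightIso φ E).symm.app N).homToEquiv)).trans
      ((SheafOfModules.overPushforwardOverAdj (R := S) E).homEquiv M ((pushPost φ E).obj N)).symm

theorem overEquiv'_comp {M : SheafOfModules.{u} S} {L : SheafOfModules.{u} R}
    {η : M ⟶ (SheafOfModules.pushforward.{u} φ).obj L} (hη : IsUnivPush φ η)
    {N N' : SheafOfModules.{u} (R.over (F.obj E))}
    (a : L.over (F.obj E) ⟶ N) (k : N ⟶ N') :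
    overEquiv' φ E hη N' (a ≫ k) = overEquiv' φ E hη N a ≫ (pushPost φ E).map k := by
  change ((SheafOfModules.overPushforwardOverAdj (R := S) E).homEquiv M ((pushPost φ E).obj N')).symm
    ((η ≫ (SheafOfModules.pushforward.{u} φ).map
      ((SheafOfModules.overPushforwardOverAdj (R := R) (F.obj E)).homEquiv L N' (a ≫ k))) ≫
      ((rightIso φ E).symm.app N').hom) = _
  erw [Adjunction.homEquiv_naturality_right, Functor.map_comp]
  have nat := (rightIso φ E).inv.naturality k
  refine Eq.trans ?_ (Adjunction.homEquiv_naturality_right_symm _ _ _)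
  congr 1
  simp only [Category.assoc]
  exact congrArg (η ≫ ·) (congrArg (_ ≫ ·) nat)

end

section Universal

variable {A : Type*} [Category A] {B : Type*} [Category B] (R₁ : A ⥤ B)

/-- A universal arrow from `M` to `R₁`. -/
def IsUniv {M : B} {L : A} (η : M ⟶ R₁.obj L) : Prop :=
  ∀ N : A, Function.Bijective (fun k : L ⟶ N => η ≫ R₁.map k)

theorem IsUniv.nonempty_iso {M : B} {L L' : A} {η : M ⟶ R₁.obj L} {η' : M ⟶ R₁.obj L'}
    (h : IsUniv R₁ η) (h' : IsUniv R₁ η') : Nonempty (L ≅ L') := by
  obtain ⟨a, ha⟩ := (h L').2 η'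
  obtain ⟨b, hb⟩ := (h' L).2 η
  dsimp at ha hb
  refine ⟨⟨a, b, (h L).1 ?_, (h' L').1 ?_⟩⟩
  · dsimp only
    rw [R₁.map_comp, ← Category.assoc, ha, hb, R₁.map_id, Category.comp_id]
  · dsimp only
    rw [R₁.map_comp, ← Category.assoc, hb, ha, R₁.map_id, Category.comp_id]

variable [Preadditive A] [Preadditive B] [R₁.Additive]

theorem exists_univ_cokernel {P Q M : B} {P' Q' : A} {p : P ⟶ R₁.obj P'} {q : Q ⟶ R₁.obj Q'}
    (hp : IsUniv R₁ p) (hq : IsUniv R₁ q) (r : P ⟶ Q) (g : Q ⟶ M) (hg : r ≫ g = 0)
    (hlim : IsColimit (CokernelCofork.ofπ g hg)) [HasCokernels A] :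
    ∃ (r' : P' ⟶ Q') (η : M ⟶ R₁.obj (cokernel r')), IsUniv R₁ η := by
  obtain ⟨r', hr'⟩ := (hp Q').2 (r ≫ q)
  dsimp at hr'
  have key : r ≫ (q ≫ R₁.map (cokernel.π r')) = 0 := by
    rw [← Category.assoc, ← hr', Category.assoc, ← R₁.map_comp, cokernel.condition, R₁.map_zero, comp_zero]
  obtain ⟨η, hη⟩ := CokernelCofork.IsColimit.desc' hlim _ key
  replace hη : g ≫ η = q ≫ R₁.map (cokernel.π r') := hη
  refine ⟨r', η, fun N => ⟨fun a b e => ?_, fun v => ?_⟩⟩
  · dsimp at e
    refine (cancel_epi (cokernel.π r')).1 ((hq N).1 ?_)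
    simp only [R₁.map_comp, ← Category.assoc, ← hη]
    simp only [Category.assoc, e]
  · obtain ⟨b, hb⟩ := (hq N).2 (g ≫ v)
    dsimp at hb
    have hb0 : r' ≫ b = 0 := by
      refine (hp N).1 ?_
      simp only [R₁.map_comp, R₁.map_zero, comp_zero, ← Category.assoc, hr']
      rw [Category.assoc, hb, ← Category.assoc, hg, zero_comp]
    refine ⟨cokernel.desc r' b hb0, Cofork.IsColimit.hom_ext hlim ?_⟩
    change g ≫ η ≫ R₁.map _ = g ≫ v
    rw [← Category.assoc, hη, Category.assoc, ← R₁.map_comp, cokernel.π_desc, hb]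

end Universal

section Free

variable {C : Type u₁} [Category.{v₁} C] {D : Type u₂} [Category.{v₂} D]
  {J : GrothendieckTopology C} {K : GrothendieckTopology D} {F : C ⥤ D}
  {S : Sheaf J RingCat.{u}} {R : Sheaf K RingCat.{u}}
  [Functor.IsContinuous F J K] [F.Final]
  (φ : S ⟶ (F.sheafPushforwardContinuous RingCat.{u} J K).obj R)
  [HasWeakSheafify J AddCommGrpCat.{u}] [HasWeakSheafify K AddCommGrpCat.{u}]
  [J.WEqualsLocallyBijective AddCommGrpCat.{u}] [K.WEqualsLocallyBijective AddCommGrpCat.{u}]

/-- The universal arrow out of a free module. -/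
noncomputable def freeUniv (I : Type u) :
    (SheafOfModules.free I : SheafOfModules.{u} S) ⟶
      (SheafOfModules.pushforward.{u} φ).obj (SheafOfModules.free I) :=
  (SheafOfModules.freeHomEquiv _).symm
    fun i => SheafOfModules.pushforwardSections φ (SheafOfModules.freeSection i)

theorem isUniv_freeUniv (I : Type u) : IsUniv (SheafOfModules.pushforward.{u} φ) (freeUniv φ I) := by
  intro N
  have h : (fun k : (SheafOfModules.free I : SheafOfModules.{u} R) ⟶ N =>
      freeUniv φ I ≫ (SheafOfModules.pushforward.{u} φ).map k) =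
      (SheafOfModules.freeHomEquiv _).symm ∘
        (fun s i => SheafOfModules.pushforwardSections φ (s i)) ∘ N.freeHomEquiv := by
    funext k
    apply (SheafOfModules.freeHomEquiv _).injective
    funext i
    simp only [Function.comp_apply, Equiv.apply_symm_apply, SheafOfModules.freeHomEquiv_comp_apply,
      freeUniv]
    have : N.freeHomEquiv k i = SheafOfModules.sectionsMap k (SheafOfModules.freeSection i) := by
      rw [← SheafOfModules.freeHomEquiv_comp_apply, Category.id_comp]
    rw [this]
    rfl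
  rw [h]
  exact (Equiv.bijective _).comp ((Function.Bijective.comp_left
    (SheafOfModules.bijective_pushforwardSections φ N)).comp (Equiv.bijective _))

end Free

section Main

variable {C : Type u₁} [Category.{v₁} C] {D : Type u₂} [Category.{v₂} D]
  [HasBinaryProducts C] [HasBinaryProducts D]
  {J : GrothendieckTopology C} {K : GrothendieckTopology D} {F : C ⥤ D}
  {S : Sheaf J RingCat.{u}} {R : Sheaf K RingCat.{u}}
  [Functor.IsContinuous F J K]
  [∀ E : C, (Over.post (X := E) F).IsContinuous (J.over E) (K.over (F.obj E))]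
  [PreservesLimitsOfShape (Discrete WalkingPair) F]
  [∀ X, HasSheafify (J.over X) AddCommGrpCat.{u}]
  [∀ X, (J.over X).WEqualsLocallyBijective AddCommGrpCat.{u}]
  [∀ X, HasSheafify (K.over X) AddCommGrpCat.{u}]
  [∀ X, (K.over X).WEqualsLocallyBijective AddCommGrpCat.{u}]

instance final_post (E : C) : (Over.post (X := E) F).Final := by
  constructor
  intro d
  let u : StructuredArrow d (Over.post (X := E) F) :=
    StructuredArrow.mk (Y := Over.mk (𝟙 E)) (Over.homMk d.hom (show d.hom ≫ F.map (𝟙 E) = d.hom by rw [F.map_id]; exact Category.comp_id _))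
  have hu : IsTerminal u := IsTerminal.ofUniqueHom
    (fun g => StructuredArrow.homMk (Over.homMk g.right.hom (by exact Category.comp_id _)) (by
      apply Over.OverMorphism.ext
      exact Over.w g.hom))
    (fun g m => by
      apply StructuredArrow.hom_ext
      apply Over.OverMorphism.ext
      exact (Category.comp_id _).symm.trans (Over.w m.right))
  haveI : Nonempty (StructuredArrow d (Over.post (X := E) F)) := ⟨u⟩
  exact zigzag_isConnected fun a b =>
    (Relation.ReflTransGen.single (show Zag a u from Or.inl ⟨hu.from a⟩)).trans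
      (Relation.ReflTransGen.single (show Zag u b from Or.inr ⟨hu.from b⟩))

variable (φ : S ⟶ (F.sheafPushforwardContinuous RingCat.{u} J K).obj R)

instance pushPost_additive (E : C) : (pushPost φ E).Additive where

theorem exists_presentation_of_isUniv {M : SheafOfModules.{u} S} {L : SheafOfModules.{u} R}
    {η : M ⟶ (SheafOfModules.pushforward.{u} φ).obj L} (hL : IsUnivPush φ η) (E : C)
    (P : (M.over E).Presentation) : Nonempty (L.over (F.obj E)).Presentation := by
  obtain ⟨r', η', hη'⟩ := exists_univ_cokernel (pushPost φ E)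
    (isUniv_freeUniv (postHom φ E) P.relations.I) (isUniv_freeUniv (postHom φ E) P.generators.I)
    _ _ _ P.isColimit
  let η₀ := overEquiv' φ E hL _ (𝟙 _)
  have h₀ : IsUniv (pushPost φ E) η₀ := fun N => by
    have h : (fun k : L.over (F.obj E) ⟶ N => η₀ ≫ (pushPost φ E).map k) = overEquiv' φ E hL N := by
      funext k
      rw [← overEquiv'_comp, Category.id_comp]
    rw [h]
    exact Equiv.bijective _
  obtain ⟨e⟩ := hη'.nonempty_iso _ h₀
  exact ⟨(SheafOfModules.presentationOfIsCokernelFree r' (cokernel.π r') (cokernel.condition r')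
    (cokernelIsCokernel r')).ofIsIso e.hom⟩

theorem isQuasicoherent_of_isUniv
    (hcov : ∀ {ι : Type u₁} (X : ι → C), J.CoversTop X → K.CoversTop fun i => F.obj (X i))
    {M : SheafOfModules.{u} S} {L : SheafOfModules.{u} R}
    {η : M ⟶ (SheafOfModules.pushforward.{u} φ).obj L} (hL : IsUnivPush φ η) [M.IsQuasicoherent] :
    L.IsQuasicoherent := by
  obtain ⟨q⟩ := SheafOfModules.IsQuasicoherent.nonempty_quasicoherentData (M := M)
  exact SheafOfModules.QuasicoherentData.isQuasicoherent
    { I := q.I, X := fun i => F.obj (q.X i), coversTop := hcov q.X q.coversTop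
      presentation := fun i => (exists_presentation_of_isUniv φ hL (q.X i) (q.presentation i)).some }

theorem isUnivPush_unit [(SheafOfModules.pushforward.{u} φ).IsRightAdjoint] (M : SheafOfModules.{u} S) :
    IsUnivPush φ ((SheafOfModules.pullbackPushforwardAdjunction.{u} φ).unit.app M) := fun N => by
  have h : (fun k : (SheafOfModules.pullback φ).obj M ⟶ N =>
      (SheafOfModules.pullbackPushforwardAdjunction.{u} φ).unit.app M ≫ (SheafOfModules.pushforward.{u} φ).map k) =
      (SheafOfModules.pullbackPushforwardAdjunction.{u} φ).homEquiv M N := by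
    funext k
    rw [Adjunction.homEquiv_unit]
  rw [h]
  exact Equiv.bijective _

theorem isQuasicoherent_pullback [(SheafOfModules.pushforward.{u} φ).IsRightAdjoint]
    (hcov : ∀ {ι : Type u₁} (X : ι → C), J.CoversTop X → K.CoversTop fun i => F.obj (X i))
    (M : SheafOfModules.{u} S) [M.IsQuasicoherent] :
    ((SheafOfModules.pullback φ).obj M).IsQuasicoherent :=
  isQuasicoherent_of_isUniv φ hcov (M := M) (isUnivPush_unit φ M)

end Main

end Groth.Agent.H12AlgSp.BCMod

namespace Groth.Agent.H12AlgSp.BCMod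

open AlgebraicGeometry AlgSp

section Et

variable {S₀ : Scheme.{u}} {X Y : Sp S₀} {f : X ⟶ Y} (hr : Representable f)

/-- The lifted map into the base change of a product. -/
noncomputable def bcProdLift (E₁ E₂ : EtOver Y) {T : EtOver X} (a : T ⟶ (EtOver.bc hr).obj E₁)
    (b : T ⟶ (EtOver.bc hr).obj E₂) : T ⟶ (EtOver.bc hr).obj (EtOver.prodObj E₁ E₂) :=
  EtOver.homMk
    (hr.lift T.obj.hom
      (E₂.property.1.lift' (b.hom.left ≫ hr.snd E₂.obj.hom) (a.hom.left ≫ hr.snd E₁.obj.hom)
        (by simp only [Functor.map_comp, Category.assoc, ← hr.w]; exact (reassoc_of% (EtOver.w b)) f |>.trans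
              ((reassoc_of% (EtOver.w a)) f).symm))
      (by
        change T.obj.hom ≫ f = (yon S₀).map _ ≫ (yon S₀).map _ ≫ E₁.obj.hom
        rw [← Category.assoc ((yon S₀).map _) ((yon S₀).map _), ← Functor.map_comp,
          Functor.relativelyRepresentable.lift'_snd, Functor.map_comp, Category.assoc, ← hr.w]
        exact ((reassoc_of% (EtOver.w a)) f).symm))
    (hr.lift_fst _ _ _)

theorem preservesBinaryProducts_bc :
    PreservesLimitsOfShape (Discrete WalkingPair) (EtOver.bc hr) := by
  refine ⟨fun {K} => ?_⟩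
  suffices ∀ E₁ E₂ : EtOver Y, PreservesLimit (pair E₁ E₂) (EtOver.bc hr) from
    haveI := this (K.obj ⟨.left⟩) (K.obj ⟨.right⟩)
    preservesLimit_of_iso_diagram _ (diagramIsoPair K).symm
  intro E₁ E₂
  refine preservesLimit_of_preserves_limit_cone (EtOver.prodIsLimit E₁ E₂)
    ((isLimitMapConeBinaryFanEquiv _ _ _).symm ?_)
  refine BinaryFan.IsLimit.mk _ (fun a b => bcProdLift hr E₁ E₂ a b) ?_ ?_ ?_
  · intro T a b
    refine EtOver.hom_ext _ _ (hr.hom_ext ?_ ?_)
    · change (yon S₀).map (_ ≫ (EtOver.bcMap hr (EtOver.prodFst E₁ E₂)).hom.left) ≫ _ = _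
      rw [Functor.map_comp, Category.assoc, EtOver.map_bcMap_fst]
      exact (hr.lift_fst _ _ _).trans (EtOver.w a).symm
    · change (_ ≫ (EtOver.bcMap hr (EtOver.prodFst E₁ E₂)).hom.left) ≫ _ = _
      rw [Category.assoc, EtOver.bcMap_snd, ← Category.assoc]
      exact (congrArg (· ≫ _) (hr.lift_snd _ _ _)).trans (Functor.relativelyRepresentable.lift'_snd _ _ _ _)
  · intro T a b
    refine EtOver.hom_ext _ _ (hr.hom_ext ?_ ?_)
    · change (yon S₀).map (_ ≫ (EtOver.bcMap hr (EtOver.prodSnd E₁ E₂)).hom.left) ≫ _ = _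
      rw [Functor.map_comp, Category.assoc, EtOver.map_bcMap_fst]
      exact (hr.lift_fst _ _ _).trans (EtOver.w b).symm
    · change (_ ≫ (EtOver.bcMap hr (EtOver.prodSnd E₁ E₂)).hom.left) ≫ _ = _
      rw [Category.assoc, EtOver.bcMap_snd, ← Category.assoc]
      exact (congrArg (· ≫ _) (hr.lift_snd _ _ _)).trans (Functor.relativelyRepresentable.lift'_fst _ _ _ _)
  · intro T a b m h₁ h₂
    refine EtOver.hom_ext _ _ (hr.hom_ext ?_ ?_)
    · exact (EtOver.w m).trans (hr.lift_fst _ _ _).symm
    · refine Eq.trans ?_ (hr.lift_snd _ _ _).symm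
      refine E₂.property.1.hom_ext' ?_ ?_
      · refine Eq.trans ?_ (Functor.relativelyRepresentable.lift'_fst _ _ _ _).symm
        have e := congrArg (fun k => k.hom.left ≫ hr.snd E₂.obj.hom) h₂
        refine Eq.trans ?_ e
        change (_ ≫ _) ≫ _ = (m.hom.left ≫ (EtOver.bcMap hr (EtOver.prodSnd E₁ E₂)).hom.left) ≫ _
        rw [Category.assoc, Category.assoc, EtOver.bcMap_snd]
        rfl
      · refine Eq.trans ?_ (Functor.relativelyRepresentable.lift'_snd _ _ _ _).symm
        have e := congrArg (fun k => k.hom.left ≫ hr.snd E₁.obj.hom) h₁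
        refine Eq.trans ?_ e
        change (_ ≫ _) ≫ _ = (m.hom.left ≫ (EtOver.bcMap hr (EtOver.prodFst E₁ E₂)).hom.left) ≫ _
        rw [Category.assoc, Category.assoc, EtOver.bcMap_snd]
        rfl

theorem isContinuous_post_bc (E : EtOver Y) :
    (Over.post (X := E) (EtOver.bc hr)).IsContinuous ((etTop Y).over E)
      ((etTop X).over ((EtOver.bc hr).obj E)) := by
  have : Functor.PreservesOneHypercovers.{u + 1} (EtOver.bc hr) (etTop Y) (etTop X) :=
    Functor.PreservesOneHypercovers.of_coverPreserving (EtUHomeo.coverPreserving_bc hr)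
  infer_instance

theorem coversTop_bc (hY : IsAlgSpace Y) {ι : Type*} {E : ι → EtOver Y} (h : (etTop Y).CoversTop E) :
    (etTop X).CoversTop fun i => (EtOver.bc hr).obj (E i) := by
  intro Z
  refine Groth.Agent.H12AlgSp.mem_etTop_of_forall_point _ fun x => ?_
  obtain ⟨U, p, hp, hps⟩ := hY.atlas
  let a : (yon S₀).obj Z.obj.left ⟶ Y := Z.obj.hom ≫ f
  let P : EtOver X := EtOver.mk ((yon S₀).map (hp.1.snd a) ≫ Z.obj.hom)
    ((repWith_isMultiplicative (S := S₀) @Etale).comp_mem _ _
      ((repWith_isStableUnderBaseChange (S := S₀) @Etale).of_isPullback (hp.1.isPullback a) hp) Z.property)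
  let π : P ⟶ Z := EtOver.homMk (hp.1.snd a) rfl
  let E₀ : EtOver Y := EtOver.mk p hp
  let k : P ⟶ (EtOver.bc hr).obj E₀ := EtOver.homMk (hr.lift P.obj.hom (hp.1.fst' a) (by
      change ((yon S₀).map (hp.1.snd a) ≫ Z.obj.hom) ≫ f = (yon S₀).map (hp.1.fst' a) ≫ p
      rw [Functor.relativelyRepresentable.map_fst', hp.1.w, Category.assoc])) (hr.lift_fst _ _ _)
  have hsur : Surjective (hp.1.snd a).left :=
    hps.property a (hp.1.fst a) (hp.1.snd a) (hp.1.isPullback a)
  obtain ⟨w, hw⟩ := hsur.surj x
  obtain ⟨D, g, hg, y, hy⟩ := Groth.Agent.H12AlgSp.jointly_surjective_of_mem_etTop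
    ((etTop X).pullback_stable k ((EtUHomeo.coverPreserving_bc hr).cover_preserve (h E₀))) w
  obtain ⟨D', m, b, ⟨i, ⟨l⟩⟩, -⟩ := hg
  refine ⟨D, g ≫ π, y, ⟨i, ⟨b ≫ (EtOver.bc hr).map l⟩⟩, ?_⟩
  change (hp.1.snd a).left (g.hom.left.left y) = x
  rw [hy]
  exact hw

theorem isQuasicoherent_of_isUnivPush (hY : IsAlgSpace Y) {M : ModEt Y} {L : ModEt X}
    {η : M ⟶ (pushModEt hr).obj L} (hL : IsUnivPush (bcRingHom hr) η) [M.IsQuasicoherent] :
    L.IsQuasicoherent := by
  haveI := preservesBinaryProducts_bc hr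
  haveI : ∀ E : EtOver Y, (Over.post (X := E) (EtOver.bc hr)).IsContinuous ((etTop Y).over E)
      ((etTop X).over ((EtOver.bc hr).obj E)) := isContinuous_post_bc hr
  exact isQuasicoherent_of_isUniv (bcRingHom hr) (fun X h => coversTop_bc hr hY h) hL

theorem isQuasicoherent_pullModEt (hY : IsAlgSpace Y)
    [(SheafOfModules.pushforward.{u + 1} (bcRingHom hr)).IsRightAdjoint]
    (G : ModEt Y) [G.IsQuasicoherent] : ((pullModEt hr).obj G).IsQuasicoherent := by
  haveI := preservesBinaryProducts_bc hr
  haveI : ∀ E : EtOver Y, (Over.post (X := E) (EtOver.bc hr)).IsContinuous ((etTop Y).over E)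
      ((etTop X).over ((EtOver.bc hr).obj E)) := isContinuous_post_bc hr
  exact isQuasicoherent_pullback (bcRingHom hr) (fun X h => coversTop_bc hr hY h) G

end Et

end Groth.Agent.H12AlgSp.BCMod
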