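import Groth.Agent.H12AlgSp.BCMod.ClosedAction
import Groth.Agent.H12AlgSp.BCMod.PullQCoh
import Groth.Agent.H12AlgSp.EtModClosed
import Mathlib.CategoryTheory.Sites.DenseSubsite.Basic

/-!
Closed immersions of algebraic spaces: modules annihilated by the ideal are direct images.
-/

set_option backward.isDefEq.respectTransparency false

universe u

open CategoryTheory CategoryTheory.Limits AlgebraicGeometry Opposite
open AlgSp Groth.Agent.H12AlgSp

namespace Groth.Agent.H12AlgSp.BCMod

variable {S : Scheme.{u}} {Z X : Space S} {i : Z ⟶ X} (hi : RepWith @IsClosedImmersion i.hom)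
  {F : ModEt X.obj} (G : AbEt Z.obj) (e : (pushEt hi.1 AddCommGrpCat.{u + 1}).obj G ≅ (toAbEt X.obj).obj F)

/-- The comparison on sections. -/
noncomputable def cmp (E : EtOver X.obj) :
    ↥(G.obj.obj (op ((EtOver.bc hi.1).obj E))) ≃+ (pmX F).obj (op E) :=
  (((sheafToPresheaf _ _).mapIso e).app (op E)).addCommGroupIsoToAddEquiv

theorem cmp_nat {E E' : EtOver X.obj} (g : E' ⟶ E) (z : G.obj.obj (op ((EtOver.bc hi.1).obj E))) :
    cmp hi G e E' (G.obj.map ((EtOver.bc hi.1).map g).op z) = ((pmX F).map g.op).hom (cmp hi G e E z) :=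
  NatTrans.naturality_apply e.hom.hom g.op z

/-- Pairs of a function and a section. -/
@[reducible] noncomputable def pairs : (EtOver Z.obj)ᵒᵖ ⥤ Type (u + 1) where
  obj V := (OEt Z.obj).obj.obj V × ↥(G.obj.obj V)
  map f := ↾fun p => (((OEt Z.obj).obj.map f).hom p.1, G.obj.map f p.2)
  map_id V := by
    ext p
    · exact congrArg (fun m => m.hom p.1) ((OEt Z.obj).obj.map_id V)
    · exact congrArg (fun m => m.hom p.2) (G.obj.map_id V)
  map_comp f g := by
    ext p
    · exact congrArg (fun m => m.hom p.1) ((OEt Z.obj).obj.map_comp f g)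
    · exact congrArg (fun m => m.hom p.2) (G.obj.map_comp f g)

/-- The underlying sheaf of sets. -/
noncomputable abbrev GT : Sheaf (etTop Z.obj) (Type (u + 1)) :=
  (sheafCompose _ (forget AddCommGrpCat.{u + 1})).obj G

variable (hk : KillsF hi F)

/-- The action on the base changes. -/
noncomputable def actHom : (EtOver.bc hi.1).op ⋙ pairs G ⟶ (EtOver.bc hi.1).op ⋙ (GT G).obj where
  app E := ↾fun p => (cmp hi G e E.unop).symm (act hi hk p.1 (cmp hi G e E.unop p.2))
  naturality {E E'} g := by
    ext p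
    change (cmp hi G e E'.unop).symm (act hi hk (((OEt Z.obj).obj.map ((EtOver.bc hi.1).map g.unop).op).hom p.1)
        (cmp hi G e E'.unop (G.obj.map ((EtOver.bc hi.1).map g.unop).op p.2))) =
      G.obj.map ((EtOver.bc hi.1).map g.unop).op ((cmp hi G e E.unop).symm (act hi hk p.1 (cmp hi G e E.unop p.2)))
    rw [AddEquiv.symm_apply_eq, cmp_nat, cmp_nat, AddEquiv.apply_symm_apply, act_nat]

theorem exists_ext :
    ∃ σ : pairs G ⟶ (GT G).obj, ∀ (E : EtOver X.obj) (p : (pairs G).obj (op ((EtOver.bc hi.1).obj E))),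
      σ.app _ p = (cmp hi G e E).symm (act hi hk p.1 (cmp hi G e E p.2)) := by
  have hint := EtUHomeo.integral_of_closed i hi
  have hu := EtUHomeo.univInjective_of_closed i hi
  have := EtUHomeo.isLocallyFull hi.1 Z.property hint hu
  have := EtUHomeo.isCoverDense hi.1 X.property Z.property hint hu
  refine ⟨Functor.IsCoverDense.Types.presheafHom (actHom hi G e hk), fun E p => ?_⟩
  have := congrArg (fun m => m.app (op E) p)
    (show Functor.whiskerLeft (EtOver.bc hi.1).op (Functor.IsCoverDense.Types.presheafHom (actHom hi G e hk)) =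
      actHom hi G e hk by
      ext E p
      have h := Functor.IsCoverDense.Types.appHom_restrict (actHom hi G e hk) (𝟙 (op ((EtOver.bc hi.1).obj E.unop))) p
      rw [CategoryTheory.Functor.map_id, CategoryTheory.Functor.map_id] at h
      exact h)
  exact this

/-- The module structure on sections over the subspace. -/
noncomputable def smulZ (V : (EtOver Z.obj)ᵒᵖ) (r : (OEt Z.obj).obj.obj V) (z : ↥(G.obj.obj V)) : ↥(G.obj.obj V) :=
  (fun p : (pairs G).obj V => (exists_ext hi G e hk).choose.app V p) ⟨r, z⟩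

theorem smulZ_nat {V V' : (EtOver Z.obj)ᵒᵖ} (f : V ⟶ V') (r : (OEt Z.obj).obj.obj V) (z : ↥(G.obj.obj V)) :
    G.obj.map f (smulZ hi G e hk V r z) = smulZ hi G e hk V' (((OEt Z.obj).obj.map f).hom r) (G.obj.map f z) :=
  (fun p : (pairs G).obj V => (NatTrans.naturality_apply (exists_ext hi G e hk).choose f p).symm) ⟨r, z⟩

theorem cmp_smulZ (E : EtOver X.obj) (r : (OEt Z.obj).obj.obj (op ((EtOver.bc hi.1).obj E)))
    (z : ↥(G.obj.obj (op ((EtOver.bc hi.1).obj E)))) :
    cmp hi G e E (smulZ hi G e hk _ r z) = act hi hk r (cmp hi G e E z) := by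
  refine (congrArg (cmp hi G e E) ((exists_ext hi G e hk).choose_spec E (r, z))).trans ?_
  rw [AddEquiv.apply_symm_apply]

theorem dense_ext {V : EtOver Z.obj} {z z' : ↥(G.obj.obj (op V))}
    (h : ∀ (E : EtOver X.obj) (f : (EtOver.bc hi.1).obj E ⟶ V),
      cmp hi G e E (G.obj.map f.op z) = cmp hi G e E (G.obj.map f.op z')) : z = z' := by
  have := EtUHomeo.isCoverDense hi.1 X.property Z.property (EtUHomeo.integral_of_closed i hi)
    (EtUHomeo.univInjective_of_closed i hi)
  exact Functor.IsCoverDense.ext (G := EtOver.bc hi.1) (ℱ := GT G) (X := V) fun E f => (cmp hi G e E).injective (h E f)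

/-- The module structure. -/
@[reducible] noncomputable def moduleZ (V : (EtOver Z.obj)ᵒᵖ) : Module ((OEt Z.obj).obj.obj V) ↥(G.obj.obj V) where
  smul := smulZ hi G e hk V
  one_smul z := dense_ext hi G e fun E f => by
    change cmp hi G e E (G.obj.map f.op (smulZ hi G e hk _ 1 z)) = _
    rw [smulZ_nat, cmp_smulZ, map_one, one_act]
  mul_smul r s z := dense_ext hi G e fun E f => by
    change cmp hi G e E (G.obj.map f.op (smulZ hi G e hk _ (r * s) z)) =
      cmp hi G e E (G.obj.map f.op (smulZ hi G e hk _ r (smulZ hi G e hk _ s z)))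
    rw [smulZ_nat, cmp_smulZ, map_mul, mul_act, smulZ_nat, cmp_smulZ, smulZ_nat, cmp_smulZ]
  smul_zero r := dense_ext hi G e fun E f => by
    change cmp hi G e E (G.obj.map f.op (smulZ hi G e hk _ r 0)) = _
    rw [smulZ_nat, cmp_smulZ, map_zero, map_zero, act_zero]
  smul_add r z z' := dense_ext hi G e fun E f => by
    change cmp hi G e E (G.obj.map f.op (smulZ hi G e hk _ r (z + z'))) =
      cmp hi G e E (G.obj.map f.op (smulZ hi G e hk _ r z + smulZ hi G e hk _ r z'))
    rw [smulZ_nat, cmp_smulZ, map_add, map_add, act_add, map_add, map_add, smulZ_nat, smulZ_nat, cmp_smulZ,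
      cmp_smulZ]
  add_smul r s z := dense_ext hi G e fun E f => by
    change cmp hi G e E (G.obj.map f.op (smulZ hi G e hk _ (r + s) z)) =
      cmp hi G e E (G.obj.map f.op (smulZ hi G e hk _ r z + smulZ hi G e hk _ s z))
    rw [smulZ_nat, cmp_smulZ, map_add, add_act, map_add, map_add, smulZ_nat, smulZ_nat, cmp_smulZ, cmp_smulZ]
  zero_smul z := dense_ext hi G e fun E f => by
    change cmp hi G e E (G.obj.map f.op (smulZ hi G e hk _ 0 z)) = _
    rw [smulZ_nat, cmp_smulZ, map_zero, zero_act, map_zero, map_zero]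

/-- The descended module. -/
noncomputable def descMod : ModEt Z.obj :=
  letI : ∀ V, Module ((OEtRing Z.obj).obj.obj V) ↥(G.obj.obj V) := moduleZ hi G e hk
  { val := PresheafOfModules.ofPresheaf (R := (OEtRing Z.obj).obj) G.obj (fun _ _ f r z => smulZ_nat hi G e hk f r z)
    isSheaf := G.property }

/-- The descended module pushes forward to the given one. -/
noncomputable def descIso : (pushModEt hi.1).obj (descMod hi G e hk) ≅ F :=
  (SheafOfModules.fullyFaithfulForget _).preimageIso <| PresheafOfModules.isoMk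
    (fun E => LinearEquiv.toModuleIso
      (X₁ := ((pushModEt hi.1).obj (descMod hi G e hk)).val.obj E)
      { toFun := fun z => cmp hi G e E.unop z
        map_add' := fun z z' => (cmp hi G e E.unop).map_add _ _
        map_smul' := fun a z => by
          change cmp hi G e E.unop (smulZ hi G e hk _ (topHom hi.1 E.unop a) z) = a • cmp hi G e E.unop z
          rw [cmp_smulZ, act_top]
        invFun := fun x => (cmp hi G e E.unop).symm x
        left_inv := fun z => (cmp hi G e E.unop).symm_apply_apply z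
        right_inv := fun x => (cmp hi G e E.unop).apply_symm_apply x })
    (fun E E' g => by
      ext z
      exact cmp_nat hi G e g.unop z)

include hk in
theorem exists_pushModEt_iso (hsupp : ∀ E : EtOver X.obj,
    Disjoint (Set.range (Points.map E.obj.hom)) (Set.range (Points.map i.hom)) →
      Subsingleton ↥(F.val.presheaf.obj (op E))) :
    ∃ G : ModEt Z.obj, Nonempty ((pushModEt hi.1).obj G ≅ F) := by
  obtain ⟨G, ⟨e⟩⟩ := (EtUHomeo.essImage_ab_iff hi.1 X.property Z.property (EtUHomeo.integral_of_closed i hi)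
    (EtUHomeo.univInjective_of_closed i hi) ((toAbEt X.obj).obj F)).2 hsupp
  exact ⟨descMod hi G e hk, ⟨descIso hi G e hk⟩⟩

theorem isUnivPush_of_iso {G : ModEt Z.obj} {F : ModEt X.obj} (e : (pushModEt hi.1).obj G ≅ F) :
    IsUnivPush (bcRingHom hi.1) e.inv := fun N => by
  have := EtUHomeo.pushModEt_full i hi
  have := EtUHomeo.pushModEt_faithful i hi
  refine ⟨fun a b h => (pushModEt hi.1).map_injective ((cancel_epi e.inv).1 h), fun v => ?_⟩
  obtain ⟨k, hk⟩ := (pushModEt hi.1).map_surjective (e.hom ≫ v)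
  exact ⟨k, (congrArg (e.inv ≫ ·) hk).trans (e.inv_hom_id_assoc v)⟩

theorem isQuasicoherent_of_pushModEt_iso {G : ModEt Z.obj} {F : ModEt X.obj} [F.IsQuasicoherent]
    (e : (pushModEt hi.1).obj G ≅ F) : G.IsQuasicoherent :=
  isQuasicoherent_of_isUnivPush hi.1 X.property (isUnivPush_of_iso hi e)

theorem ideal_smul_eq_zero {I : IdealEt X.obj} (hZ : IsCutOutBy I i.hom) (G : ModEt Z.obj) (E : EtOver X.obj)
    (hE : IsAffine E.obj.left.left) (s : sectModEt ((pushModEt hi.1).obj G) E) : I.ideal E hE ≤ annSect s := by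
  obtain ⟨hi', rfl⟩ := hZ
  intro a ha
  rw [mem_annSect_iff]
  have h0 : topHom hi.1 E (ULift.up a) = 0 := ULift.ext _ _ ((mem_idealOfRep_iff hi.1 E hE a).1 ha)
  refine (ofPush_smul hi.1 G (E := E) (ULift.up a) s).trans ?_
  rw [h0, zero_smul]

theorem killsF_of_ann {I : IdealEt X.obj} (hZ : IsCutOutBy I i.hom)
    (h : ∀ (E : EtOver X.obj) (hE : IsAffine E.obj.left.left) (s : sectModEt F E), I.ideal E hE ≤ annSect s) :
    KillsF hi F := by
  obtain ⟨hi', rfl⟩ := hZ
  exact killsF_of_affine hi F fun E hE a ha x =>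
    (mem_annSect_iff (M := F) (E := E) x a.down).1
      (h E hE x ((mem_idealOfRep_iff hi.1 E hE a.down).2 (congrArg ULift.down ha)))

theorem subsingleton_of_disjoint (hk : KillsF hi F) (E : EtOver X.obj)
    (hE : Disjoint (Set.range (Points.map E.obj.hom)) (Set.range (Points.map i.hom))) :
    Subsingleton ↥(F.val.presheaf.obj (op E)) := by
  have := (EtUHomeo.isEmpty_bc_iff hi.1 E).2 hE
  have h0 : topHom hi.1 E 1 = 0 := by
    exact ULift.ext _ _ ((inferInstance : Subsingleton Γ(((EtOver.bc hi.1).obj E).obj.left.left, ⊤)).elim _ _)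
  have h : ∀ x : (pmX F).obj (op E), x = 0 := fun x =>
    (one_smul ((OEt X.obj).obj.obj (op E)) x).symm.trans (hk E 1 h0 x)
  exact ⟨fun a b => (h a).trans (h b).symm⟩

end Groth.Agent.H12AlgSp.BCMod
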