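import Groth.Agent.H12AlgSp.BCMod.Basic
import Mathlib.Algebra.Category.ModuleCat.Presheaf.Abelian
import Mathlib.Algebra.Category.ModuleCat.Monoidal.Closed
import Mathlib.RingTheory.Flat.CategoryTheory
import Mathlib.RingTheory.RingHom.Flat

/-!
Presheaves of modules commuting with base change are closed under colimits and finite limits.
-/

set_option backward.isDefEq.respectTransparency false

universe w v₁ u₁

open CategoryTheory CategoryTheory.Limits Opposite MonoidalCategory
open scoped TensorProduct

namespace Groth.Agent.H12AlgSp.BCMod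

variable {C : Type u₁} [Category.{v₁} C] {Rc : Cᵒᵖ ⥤ CommRingCat.{w}} {Z E : C} (g : Z ⟶ E)

variable (Rc) in
/-- The source of the base change map, as a functor. -/
noncomputable def Φ : PM Rc ⥤ ModuleCat.{w} (Rc.obj (op E)) :=
  Ψ Rc (𝟙 E) ⋙ tensorLeft (ModuleCat.of (Rc.obj (op E)) (RingOf Rc g))

variable (Rc) in
/-- The base change map as a natural transformation. -/
noncomputable def extNat : Φ Rc g ⟶ Ψ Rc g where
  app P := ConcreteCategory.ofHom (C := ModuleCat.{w} (Rc.obj (op E))) (X := (Φ Rc g).obj P) (Y := Sec P g) (ext P g)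
  naturality P Q φ := by
    refine ModuleCat.hom_ext (TensorProduct.ext' fun b x => ?_)
    change ext Q g (b ⊗ₜ toSec Q (𝟙 E) ((φ.app (op E)).hom (ofSec P x))) =
      toSec Q g ((φ.app (op Z)).hom (ofSec P (ext P g (b ⊗ₜ x))))
    rw [ext_tmul, ext_tmul]
    refine Eq.trans ?_ ((φ.app (op Z)).hom.map_smul b (ofSec P (res P g (Category.comp_id g) x))).symm
    exact congrArg (fun y => b • toSec Q g y) (PresheafOfModules.naturality_apply φ g.op (ofSec P x)).symm

theorem isBC_iff (P : PM Rc) : IsBC P g ↔ IsIso ((extNat Rc g).app P) := by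
  rw [ConcreteCategory.isIso_iff_bijective]
  rfl

theorem isBC_of_iso {P Q : PM Rc} (e : P ≅ Q) (h : IsBC P g) : IsBC Q g := by
  rw [isBC_iff] at h ⊢
  have := (extNat Rc g).naturality e.hom
  have : IsIso ((Φ Rc g).map e.hom ≫ (extNat Rc g).app Q) := by rw [this]; infer_instance
  exact IsIso.of_isIso_comp_left ((Φ Rc g).map e.hom) _

theorem isBC_of_isColimit {K : Type*} [Category K] {D : K ⥤ PM Rc} (c : Cocone D) (hc : IsColimit c)
    [PreservesColimit D (Φ Rc g)] [PreservesColimit D (Ψ Rc g)] (h : ∀ j, IsBC (D.obj j) g) :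
    IsBC c.pt g := by
  rw [isBC_iff]
  have : ∀ j, IsIso ((Functor.whiskerLeft D (extNat Rc g)).app j) := fun j => (isBC_iff g _).1 (h j)
  have : IsIso (Functor.whiskerLeft D (extNat Rc g)) := NatIso.isIso_of_isIso_app _
  let e := asIso (Functor.whiskerLeft D (extNat Rc g))
  let i := IsColimit.coconePointsIsoOfNatIso (isColimitOfPreserves (Φ Rc g) hc)
    (isColimitOfPreserves (Ψ Rc g) hc) e
  have : (extNat Rc g).app c.pt = i.hom := (isColimitOfPreserves (Φ Rc g) hc).hom_ext fun j => by
    refine Eq.trans ?_ (IsColimit.comp_coconePointsIsoOfNatIso_hom (isColimitOfPreserves (Φ Rc g) hc)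
      (isColimitOfPreserves (Ψ Rc g) hc) e j).symm
    exact (extNat Rc g).naturality (c.ι.app j)
  rw [this]
  infer_instance

theorem isBC_of_isLimit {K : Type*} [Category K] {D : K ⥤ PM Rc} (c : Cone D) (hc : IsLimit c)
    [PreservesLimit D (Φ Rc g)] [PreservesLimit D (Ψ Rc g)] (h : ∀ j, IsBC (D.obj j) g) :
    IsBC c.pt g := by
  rw [isBC_iff]
  have : ∀ j, IsIso ((Functor.whiskerLeft D (extNat Rc g)).app j) := fun j => (isBC_iff g _).1 (h j)
  have : IsIso (Functor.whiskerLeft D (extNat Rc g)) := NatIso.isIso_of_isIso_app _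
  let e := asIso (Functor.whiskerLeft D (extNat Rc g))
  let i := IsLimit.conePointsIsoOfNatIso (isLimitOfPreserves (Φ Rc g) hc)
    (isLimitOfPreserves (Ψ Rc g) hc) e
  have : (extNat Rc g).app c.pt = i.hom := (isLimitOfPreserves (Ψ Rc g) hc).hom_ext fun j => by
    refine Eq.trans ?_ (IsLimit.conePointsIsoOfNatIso_hom_comp (isLimitOfPreserves (Φ Rc g) hc)
      (isLimitOfPreserves (Ψ Rc g) hc) e j).symm
    exact ((extNat Rc g).naturality (c.π.app j)).symm
  rw [this]
  infer_instance

instance {K : Type w} [Category.{w} K] : PreservesColimitsOfShape K (Ψ Rc g) := by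
  unfold Ψ; infer_instance

instance {K : Type w} [Category.{w} K] : PreservesColimitsOfShape K (Φ Rc g) := by
  unfold Φ; infer_instance

instance : PreservesFiniteLimits (Ψ Rc g) := by
  unfold Ψ; infer_instance

theorem preservesFiniteLimits_Φ (hg : (Rc.map g.op).hom.Flat) : PreservesFiniteLimits (Φ Rc g) := by
  have : Module.Flat (Rc.obj (op E)) (ModuleCat.of (Rc.obj (op E)) (RingOf Rc g)) := hg
  unfold Φ
  exact comp_preservesFiniteLimits _ _

instance (K : Type) [SmallCategory K] [FinCategory K] : PreservesColimitsOfShape K (Ψ Rc g) := by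
  unfold Ψ; infer_instance

instance (K : Type) [SmallCategory K] [FinCategory K] : PreservesColimitsOfShape K (Φ Rc g) := by
  unfold Φ; infer_instance

variable (Rc) in
/-- The structure presheaf. -/
noncomputable abbrev unitPM : PM Rc := PresheafOfModules.unit _

theorem isBC_unit : IsBC (unitPM Rc) g := by
  constructor
  · intro s t hst
    have key : ∀ t : RingOf Rc g ⊗[Rc.obj (op E)] Sec (unitPM Rc) (𝟙 E),
        t = toRing g (ofSec (unitPM Rc) (ext (unitPM Rc) g t)) ⊗ₜ
          toSec (unitPM Rc) (𝟙 E) (1 : Rc.obj (op E)) := by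
      intro t
      induction t with
      | zero => rw [map_zero]; exact (TensorProduct.zero_tmul _ _).symm
      | add a b ha hb =>
        rw [map_add]
        exact (congrArg₂ (· + ·) ha hb).trans (TensorProduct.add_tmul _ _ _).symm
      | tmul b x =>
        rw [ext_tmul]
        let x' : Rc.obj (op E) := x
        have hx : x = x' • toSec (unitPM Rc) (𝟙 E) (1 : Rc.obj (op E)) := by
          change x' = (Rc.map (𝟙 E).op).hom x' * 1
          rw [op_id, CategoryTheory.Functor.map_id]
          exact (mul_one _).symm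
        conv_lhs => rw [hx, ← TensorProduct.smul_tmul]
        refine congrArg (· ⊗ₜ toSec (unitPM Rc) (𝟙 E) (1 : Rc.obj (op E))) ?_
        change (Rc.map g.op).hom x' * (show Rc.obj (op Z) from b) =
          (show Rc.obj (op Z) from b) * (Rc.map g.op).hom x'
        exact mul_comm _ _
    rw [key s, key t, hst]
  · intro y
    refine ⟨toRing g (ofSec (unitPM Rc) y) ⊗ₜ toSec (unitPM Rc) (𝟙 E) (1 : Rc.obj (op E)), ?_⟩
    rw [ext_tmul]
    change (show Rc.obj (op Z) from ofSec (unitPM Rc) y) * (Rc.map g.op).hom 1 = _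
    rw [map_one, mul_one]
    rfl

end Groth.Agent.H12AlgSp.BCMod
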