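import Groth.Agent.H12AlgSp.BCMod.Cech
import Mathlib.CategoryTheory.Sites.LocallyBijective
import Mathlib.CategoryTheory.Sites.IsSheafFor
import Mathlib.Algebra.Category.Grp.FilteredColimits
import Mathlib.Algebra.Category.Grp.Limits

/-!
Descent for presheaves of modules commuting with base change: sheafification does not change sections over affines,
extensions, and locality of the base change property.
-/

set_option backward.isDefEq.respectTransparency false

universe w v₁ u₁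

open CategoryTheory CategoryTheory.Limits Opposite
open scoped TensorProduct

namespace Groth.Agent.H12AlgSp.BCMod

variable {C : Type u₁} [Category.{v₁} C] {J : GrothendieckTopology C} {Rc : Cᵒᵖ ⥤ CommRingCat.{w}}
  {A : AffSite J Rc}

theorem exists_affCov {E : C} (hE : A.aff E) {R : Sieve E} (hR : R ∈ J E) :
    ∃ U : AffCov A E, ∀ i, R.arrows (U.z i) := by
  obtain ⟨κ, hκ, Z, z, h1, h2, h3, h4⟩ := A.exists_refine R hE hR
  exact ⟨⟨κ, Z, z, hE, h1, h3, h4⟩, h2⟩

theorem isSheaf_types {P : PM Rc} (hP : Presheaf.IsSheaf J P.presheaf) :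
    Presieve.IsSheaf J (P.presheaf ⋙ CategoryTheory.forget AddCommGrpCat.{w}) :=
  (isSheaf_iff_isSheaf_of_type _ _).1
    (Presheaf.isSheaf_comp_of_isSheaf J P.presheaf (CategoryTheory.forget AddCommGrpCat.{w}) hP)

theorem sheaf_ext {P : PM Rc} (hP : Presheaf.IsSheaf J P.presheaf) {X : C} {R : Sieve X} (hR : R ∈ J X)
    (s t : P.obj (op X)) (h : ∀ ⦃Y : C⦄ (f : Y ⟶ X), R.arrows f → (P.map f.op).hom s = (P.map f.op).hom t) : s = t :=
  ((isSheaf_types hP) R hR).isSeparatedFor.ext h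

variable {P Q : PM Rc} (φ : P ⟶ Q)

/-- A morphism on sections over `g`. -/
noncomputable abbrev secMap {Z E : C} (g : Z ⟶ E) : Sec P g →ₗ[Rc.obj (op E)] Sec Q g := ((Ψ Rc g).map φ).hom

theorem secMap_apply {Z E : C} (g : Z ⟶ E) (x : Sec P g) :
    secMap φ g x = toSec Q g ((φ.app (op Z)).hom (ofSec P x)) := rfl

theorem secMap_res {Z' Z E : C} {g' : Z' ⟶ E} {g : Z ⟶ E} (h : Z' ⟶ Z) (hh : h ≫ g = g') (x : Sec P g) :
    secMap φ g' (res P h hh x) = res Q h hh (secMap φ g x) :=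
  PresheafOfModules.naturality_apply φ h.op (ofSec P x)

namespace AffCov

variable {E : C} (U : AffCov A E)

theorem d₀_secMap (x : Sec P (𝟙 E)) (i : U.κ) :
    U.d₀ Q (secMap φ (𝟙 E) x) i = secMap φ (U.z i) (U.d₀ P x i) := by
  simp only [d₀, LinearMap.pi_apply]
  exact (secMap_res φ _ _ x).symm

theorem d₁_secMap (y : (i : U.κ) → Sec P (U.z i)) (x : U.κ × U.κ) :
    U.d₁ Q (fun i => secMap φ (U.z i) (y i)) x = secMap φ (U.z₂ x) (U.d₁ P y x) := by
  simp only [d₁, LinearMap.pi_apply, LinearMap.sub_apply, LinearMap.comp_apply, LinearMap.proj_apply, map_sub]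
  exact congrArg₂ (· - ·) (secMap_res φ _ _ _).symm (secMap_res φ _ _ _).symm

theorem d₂_secMap (y : (x : U.κ × U.κ) → Sec P (U.z₂ x)) (x : (U.κ × U.κ) × U.κ) :
    U.d₂ Q (fun x => secMap φ (U.z₂ x) (y x)) x = secMap φ (U.z₃ x) (U.d₂ P y x) := by
  simp only [d₂, LinearMap.pi_apply, LinearMap.sub_apply, LinearMap.add_apply, LinearMap.comp_apply,
    LinearMap.proj_apply, map_sub, map_add]
  exact congrArg₂ (· + ·) (congrArg₂ (· - ·) (secMap_res φ _ _ _).symm (secMap_res φ _ _ _).symm)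
    (secMap_res φ _ _ _).symm

theorem sheaf_d₀_injective (hQ : Presheaf.IsSheaf J Q.presheaf) : Function.Injective (U.d₀ Q) := by
  intro s t h
  refine sheaf_ext hQ U.mem s t fun Y f hf => ?_
  obtain ⟨_, l, _, ⟨i⟩, rfl⟩ := hf
  have hi := congr_fun h i
  simp only [d₀, LinearMap.pi_apply] at hi
  rw [op_comp, Q.map_comp]
  exact congrArg (fun y => (Q.map l.op).hom (ofSec Q y)) hi

theorem sheaf_exact_d₀_d₁ (hQ : Presheaf.IsSheaf J Q.presheaf) : Function.Exact (U.d₀ Q) (U.d₁ Q) := by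
  refine fun y => ⟨fun hy => ?_, fun ⟨s, hs⟩ => by rw [← hs]; exact LinearMap.congr_fun (U.d₁_d₀ Q) s⟩
  have hy' : ∀ x : U.κ × U.κ, res Q (U.Z₂ x).p rfl (y x.2) = res Q (U.Z₂ x).q (U.Z₂ x).q_str (y x.1) := fun x => by
    have := congr_fun hy x
    simp only [d₁, LinearMap.pi_apply, LinearMap.sub_apply, LinearMap.comp_apply, LinearMap.proj_apply,
      Pi.zero_apply, sub_eq_zero] at this
    exact this
  obtain ⟨s, hs, -⟩ := (Presieve.isSheafFor_arrows_iff _ _).1
    ((Presieve.isSheafFor_iff_generate _).2 ((isSheaf_types hQ) _ U.mem))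
    (fun i => ofSec Q (y i)) (fun i j W a b e => by
      let l := (U.Z₂ (i, j)).isPullback.lift a b e
      have h := congrArg (fun y => (Q.map l.op).hom (ofSec Q y)) (hy' (i, j))
      change (Q.map l.op).hom ((Q.map (U.Z₂ (i, j)).p.op).hom (ofSec Q (y j))) =
        (Q.map l.op).hom ((Q.map (U.Z₂ (i, j)).q.op).hom (ofSec Q (y i))) at h
      have hp : ∀ {V V' : C} (k : V ⟶ V') (k' : W ⟶ V) (z : Q.obj (op V')),
          (Q.map k'.op).hom ((Q.map k.op).hom z) = (Q.map (k' ≫ k).op).hom z := fun k k' z => by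
        rw [op_comp, Q.map_comp]; rfl
      rw [hp, hp, show l ≫ (U.Z₂ (i, j)).p = b from IsPullback.lift_snd _ _ _ _,
        show l ≫ (U.Z₂ (i, j)).q = a from IsPullback.lift_fst _ _ _ _] at h
      exact h.symm)
  exact ⟨toSec Q (𝟙 E) s, funext fun i => hs i⟩

end AffCov

/-- A locally bijective map from a presheaf commuting with base change to a sheaf is bijective on affines. -/
theorem app_bijective (hP : AllBC A P) (hQ : Presheaf.IsSheaf J Q.presheaf)
    [hi : Presheaf.IsLocallyInjective J ((PresheafOfModules.toPresheaf _).map φ)]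
    [hs : Presheaf.IsLocallySurjective J ((PresheafOfModules.toPresheaf _).map φ)] {E : C} (hE : A.aff E) :
    Function.Bijective (φ.app (op E)).hom := by
  have inj : ∀ {X : C}, A.aff X → ∀ s : P.obj (op X), (φ.app (op X)).hom s = 0 → s = 0 := fun {X} hX s hs => by
    obtain ⟨U, hU⟩ := exists_affCov hX (hi.equalizerSieve_mem (X := op X) s 0 (by
      change (φ.app (op X)).hom s = (φ.app (op X)).hom 0
      rw [map_zero]; exact hs))
    refine U.d₀_injective hP (a₁ := toSec P (𝟙 X) s) (a₂ := 0) (funext fun i => ?_)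
    rw [map_zero]
    simp only [AffCov.d₀, LinearMap.pi_apply]
    exact (hU i).trans (map_zero (P.map (U.z i).op).hom)
  refine ⟨(injective_iff_map_eq_zero _).2 (inj hE), fun y => ?_⟩
  obtain ⟨U, hU⟩ := exists_affCov hE (hs.imageSieve_mem (U := E) y)
  choose b hb using hU
  let b' : (i : U.κ) → Sec P (U.z i) := fun i => toSec P (U.z i) (b i)
  have hb' : (fun i => secMap φ (U.z i) (b' i)) = U.d₀ Q (toSec Q (𝟙 E) y) := funext hb
  obtain ⟨s, hs'⟩ := (U.exact_d₀_d₁ hP b').1 (funext fun x => inj (U.Z₂ x).aff _ (by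
    have h := U.d₁_secMap φ b' x
    rw [hb', ← LinearMap.comp_apply, U.d₁_d₀] at h
    exact h.symm))
  refine ⟨ofSec P s, congrArg (ofSec Q) (a₁ := secMap φ (𝟙 E) s) (a₂ := toSec Q (𝟙 E) y)
    (U.sheaf_d₀_injective hQ (funext fun i => ?_))⟩
  rw [AffCov.d₀_secMap, hs', ← hb']

variable {φ}

theorem isIso_Ψ_map {Z E : C} (g : Z ⟶ E) (h : Function.Bijective (φ.app (op Z)).hom) :
    IsIso ((Ψ Rc g).map φ) := (ConcreteCategory.isIso_iff_bijective _).2 h

/-- Transfer of the base change property along maps bijective on affines. -/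
theorem allBC_of_bijective (hP : AllBC A P) (h : ∀ ⦃X : C⦄, A.aff X → Function.Bijective (φ.app (op X)).hom) :
    AllBC A Q := by
  intro Z E g hZ hE
  rw [isBC_iff]
  have := isIso_Ψ_map g (h hZ)
  have := isIso_Ψ_map (𝟙 E) (h hE)
  have : IsIso ((Φ Rc g).map φ) := by
    unfold Φ
    rw [Functor.comp_map]
    infer_instance
  have := (isBC_iff g P).1 (hP g hZ hE)
  have : IsIso ((Φ Rc g).map φ ≫ (extNat Rc g).app Q) := by rw [(extNat Rc g).naturality]; infer_instance
  exact IsIso.of_isIso_comp_left ((Φ Rc g).map φ) _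

variable {M₁ M₂ M₃ : PM Rc} (f : M₁ ⟶ M₂) (p : M₂ ⟶ M₃)
  (hinj : ∀ X : C, Function.Injective (f.app (op X)).hom)
  (hex : ∀ X : C, Function.Exact (f.app (op X)).hom (p.app (op X)).hom)
  [hsurj : Presheaf.IsLocallySurjective J ((PresheafOfModules.toPresheaf _).map p)]
  (h₁ : AllBC A M₁) (h₂s : Presheaf.IsSheaf J M₂.presheaf) (h₃s : Presheaf.IsSheaf J M₃.presheaf)

include hinj hex hsurj h₁ h₂s h₃s in
/-- Sections over affines of a short exact sequence of sheaves with base changing kernel. -/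
theorem surjective_of_exact {E : C} (hE : A.aff E) : Function.Surjective (p.app (op E)).hom := by
  intro y
  obtain ⟨U, hU⟩ := exists_affCov hE (hsurj.imageSieve_mem (U := E) y)
  choose b hb using hU
  let b' : (i : U.κ) → Sec M₂ (U.z i) := fun i => toSec M₂ (U.z i) (b i)
  have hb' : (fun i => secMap p (U.z i) (b' i)) = U.d₀ M₃ (toSec M₃ (𝟙 E) y) := funext hb
  have hc : ∀ x, ∃ c : Sec M₁ (U.z₂ x), secMap f (U.z₂ x) c = U.d₁ M₂ b' x := fun x => by
    refine (hex (U.Z₂ x).obj _).1 ?_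
    have h := U.d₁_secMap p b' x
    rw [hb', ← LinearMap.comp_apply, U.d₁_d₀] at h
    exact h.symm
  choose c hc using hc
  obtain ⟨h, hh⟩ := (U.exact_d₁_d₂ h₁ c).1 (funext fun x => by
    refine hinj (U.Z₃ x).obj ?_
    have e := U.d₂_secMap f c x
    rw [funext hc, ← LinearMap.comp_apply, U.d₂_d₁] at e
    exact e.symm.trans (map_zero (f.app (op (U.Z₃ x).obj)).hom).symm)
  obtain ⟨s, hs⟩ := (U.sheaf_exact_d₀_d₁ h₂s (b' - fun i => secMap f (U.z i) (h i))).1 (funext fun x => by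
    rw [map_sub, Pi.sub_apply, AffCov.d₁_secMap, hh, hc]
    exact sub_self _)
  refine ⟨ofSec M₂ s, congrArg (ofSec M₃) (a₁ := secMap p (𝟙 E) s) (a₂ := toSec M₃ (𝟙 E) y)
    (U.sheaf_d₀_injective h₃s (funext fun i => ?_))⟩
  rw [AffCov.d₀_secMap, hs, Pi.sub_apply, map_sub, ← hb']
  have : secMap p (U.z i) (secMap f (U.z i) (h i)) = 0 :=
    (hex (U.Z i) (secMap f (U.z i) (h i))).2 ⟨h i, rfl⟩
  rw [this, sub_zero]

include hinj hex hsurj h₁ h₂s h₃s in
/-- Extensions. -/
theorem allBC_of_exact (h₃ : AllBC A M₃) : AllBC A M₂ := by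
  intro Z E g hZ hE
  let fE := secMap f (𝟙 E)
  let pE := secMap p (𝟙 E)
  let fZ := secMap f g
  let pZ := secMap p g
  have hflat : Module.Flat (Rc.obj (op E)) (RingOf Rc g) := A.flat g hE hZ
  have n₁ : ∀ t, ext M₂ g (fE.lTensor _ t) = fZ (ext M₁ g t) := fun t =>
    congrArg (fun m => m.hom t) ((extNat Rc g).naturality f)
  have n₂ : ∀ t, ext M₃ g (pE.lTensor _ t) = pZ (ext M₂ g t) := fun t =>
    congrArg (fun m => m.hom t) ((extNat Rc g).naturality p)
  have e1 : Function.Exact (fE.lTensor (RingOf Rc g)) (pE.lTensor (RingOf Rc g)) :=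
    Module.Flat.lTensor_exact (RingOf Rc g) (hex E)
  have s1 : Function.Surjective (pE.lTensor (RingOf Rc g)) :=
    LinearMap.lTensor_surjective _ (surjective_of_exact f p hinj hex h₁ h₂s h₃s hE)
  refine ⟨(injective_iff_map_eq_zero _).2 fun t ht => ?_, fun y => ?_⟩
  · obtain ⟨r, rfl⟩ := (e1 t).1 ((h₃ g hZ hE).1 (by rw [n₂, ht, map_zero, map_zero]))
    rw [n₁] at ht
    rw [(h₁ g hZ hE).1 ((hinj Z (ht.trans (map_zero fZ).symm)).trans (map_zero (ext M₁ g)).symm), map_zero]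
  · obtain ⟨t₃, ht₃⟩ := (h₃ g hZ hE).2 (pZ y)
    obtain ⟨t, rfl⟩ := s1 t₃
    obtain ⟨c, hc⟩ := (hex Z (y - ext M₂ g t)).1 (by
      change pZ (y - ext M₂ g t) = 0
      rw [map_sub, ← n₂, ht₃, sub_self])
    obtain ⟨r, rfl⟩ := (h₁ g hZ hE).2 (toSec M₁ g c)
    refine ⟨t + fE.lTensor _ r, ?_⟩
    rw [map_add, n₁]
    exact add_eq_of_eq_sub' hc

variable {M : PM Rc} (hM : Presheaf.IsSheaf J M.presheaf)

include hM in
/-- The base change property is local. -/
theorem isBC_of_cover {Z E : C} (g : Z ⟶ E) (hZ : A.aff Z) (U : AffCov A E)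
    (h : ∀ (i : U.κ) ⦃W' W : C⦄ (r : W' ⟶ W), A.aff W' → A.aff W → ∀ (_ : W ⟶ U.Z i), IsBC M r) :
    IsBC M g := by
  classical
  have := Fintype.ofFinite U.κ
  let W := fun i => mkPb A g (U.z i) U.affE hZ (U.affZ i)
  let W₂ := fun x : U.κ × U.κ => mkPb A g (U.z₂ x) U.affE hZ (U.Z₂ x).aff
  let φ₁ : ∀ x, (W₂ x).obj ⟶ (W x.1).obj := fun x => (W x.1).isPullback.lift (W₂ x).q ((W₂ x).p ≫ (U.Z₂ x).q)
    (by rw [Category.assoc, (U.Z₂ x).q_str]; exact (W₂ x).q_str)
  let φ₂ : ∀ x, (W₂ x).obj ⟶ (W x.2).obj := fun x => (W x.2).isPullback.lift (W₂ x).q ((W₂ x).p ≫ (U.Z₂ x).p)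
    (by rw [Category.assoc]; exact (W₂ x).q_str)
  have hφ₁ : ∀ x, φ₁ x ≫ (W x.1).str = (W₂ x).str := fun x => by
    simp only [φ₁, Pb.str, IsPullback.lift_snd_assoc, Category.assoc, (U.Z₂ x).q_str]
  have hφ₂ : ∀ x, φ₂ x ≫ (W x.2).str = (W₂ x).str := fun x => by
    simp only [φ₂, Pb.str, IsPullback.lift_snd_assoc, Category.assoc]
  have hW : ∀ i, Function.Bijective (mu M (W i).q (W i).p (W i).q_str rfl) := fun i =>
    mu_bijective M _ _ _ _ (W i).isPushout (h i (W i).p (W i).aff (U.affZ i) (𝟙 _))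
  have hW₂ : ∀ x, Function.Injective (mu M (W₂ x).q (W₂ x).p (W₂ x).q_str rfl) := fun x =>
    (mu_bijective M _ _ _ _ (W₂ x).isPushout (h x.1 (W₂ x).p (W₂ x).aff (U.Z₂ x).aff (U.Z₂ x).q)).1
  have hflat : Module.Flat (Rc.obj (op E)) (RingOf Rc g) := A.flat g U.affE hZ
  let e := TensorProduct.piRight (Rc.obj (op E)) (Rc.obj (op E)) (RingOf Rc g) (fun i : U.κ => Sec M (U.z i))
  let e₂ := TensorProduct.piRight (Rc.obj (op E)) (Rc.obj (op E)) (RingOf Rc g) (fun x : U.κ × U.κ => Sec M (U.z₂ x))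
  have he : ∀ t i, e t i = (LinearMap.proj (R := Rc.obj (op E)) i).lTensor _ t := fun t i => by
    induction t with
    | zero => simp
    | add a b ha hb => simp [ha, hb]
    | tmul b s => simp [e]
  have he₂ : ∀ t x, e₂ t x = (LinearMap.proj (R := Rc.obj (op E)) x).lTensor _ t := fun t x => by
    induction t with
    | zero => simp
    | add a b ha hb => simp [ha, hb]
    | tmul b s => simp [e₂]
  have key : ∀ t i, res M (W i).q (W i).q_str (ext M g t) =
      mu M (W i).q (W i).p (W i).q_str rfl (e ((U.d₀ M).lTensor _ t) i) := fun t i => by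
    rw [he, ← LinearMap.lTensor_comp_apply, AffCov.d₀, LinearMap.proj_pi]
    exact map_res_mu (U.z i) (Category.comp_id _) _ _ _ _ _ _ (W i).q_str rfl (W i).q (W i).q_str
      (Category.comp_id _) (W i).isPullback.w t
  have hcov : ∀ s : Sec M g, (∀ i, res M (W i).q (W i).q_str s = 0) → s = 0 := fun s hs => by
    refine sheaf_ext hM (J.pullback_stable g U.mem) (ofSec M s) (0 : M.obj (op Z)) fun Y a ha => ?_
    obtain ⟨_, l, _, ⟨i⟩, hl⟩ := ha
    rw [← (W i).isPullback.lift_fst a l hl.symm, op_comp, M.map_comp]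
    exact (congrArg (fun y => (M.map ((W i).isPullback.lift a l hl.symm).op).hom (ofSec M y)) (hs i)).trans
      (by rw [← M.map_comp, ← op_comp]; exact (map_zero _).trans (map_zero _).symm)
  refine ⟨(injective_iff_map_eq_zero _).2 fun t ht => ?_, fun s => ?_⟩
  · refine Module.Flat.lTensor_preserves_injective_linearMap (M := RingOf Rc g) (U.d₀ M)
      (U.sheaf_d₀_injective hM) (e.injective (funext fun i => (hW i).1 ?_))
    rw [← key, ht, map_zero, map_zero, map_zero, Pi.zero_apply, map_zero]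
  · choose t ht using fun i => (hW i).2 (res M (W i).q (W i).q_str s)
    obtain ⟨t₀, ht₀⟩ := ((Module.Flat.lTensor_exact (RingOf Rc g) (U.sheaf_exact_d₀_d₁ hM)) (e.symm t)).1
      (e₂.injective (funext fun x => hW₂ x (by
        rw [map_zero, Pi.zero_apply, map_zero, he₂, ← LinearMap.lTensor_comp_apply, AffCov.d₁, LinearMap.proj_pi,
          LinearMap.lTensor_sub, LinearMap.sub_apply, map_sub, LinearMap.lTensor_comp_apply,
          LinearMap.lTensor_comp_apply, ← he, ← he, LinearEquiv.apply_symm_apply,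
          ← map_res_mu (U.Z₂ x).p rfl _ _ (W x.2).q_str rfl _ _ (W₂ x).q_str rfl (φ₂ x) (hφ₂ x)
            (IsPullback.lift_fst _ _ _ _) (IsPullback.lift_snd _ _ _ _),
          ← map_res_mu (U.Z₂ x).q (U.Z₂ x).q_str _ _ (W x.1).q_str rfl _ _ (W₂ x).q_str rfl (φ₁ x) (hφ₁ x)
            (IsPullback.lift_fst _ _ _ _) (IsPullback.lift_snd _ _ _ _), ht, ht, res_res, res_res,
          res_congr M (show φ₂ x ≫ (W x.2).q = φ₁ x ≫ (W x.1).q from
            (IsPullback.lift_fst _ _ _ _).trans (IsPullback.lift_fst _ _ _ _).symm)]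
        exact sub_self _)))
    refine ⟨t₀, sub_eq_zero.1 (hcov _ fun i => ?_)⟩
    rw [map_sub, key, ht₀, LinearEquiv.apply_symm_apply, ht, sub_self]

end Groth.Agent.H12AlgSp.BCMod
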