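import Groth.Agent.H1CAlg.ProjDescent
import Mathlib.RingTheory.Localization.Free
import Mathlib.RingTheory.Finiteness.ModuleFinitePresentation
import Mathlib.RingTheory.Flat.EquationalCriterion
import Mathlib.RingTheory.Flat.FaithfullyFlat.Algebra
import Mathlib.RingTheory.LocalProperties.Projective
import Mathlib.RingTheory.Finiteness.Descent
import Mathlib.LinearAlgebra.TensorProduct.Pi
import Mathlib.RingTheory.TensorProduct.IsBaseChangeFree
import Mathlib.RingTheory.Localization.BaseChange

/-!
Finite projective modules are free locally on the spectrum, and are detected after a covering family.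
-/

universe u

open scoped TensorProduct

namespace Groth.Agent.H12AlgSp.BCMod

variable {R : Type u} [CommRing R] (M : Type u) [AddCommGroup M] [Module R M]

/-- A finitely presented flat module is free after inverting an element outside a given prime. -/
theorem exists_free_baseChange [Module.Flat R M] [Module.FinitePresentation R M] (p : PrimeSpectrum R) :
    ∃ s ∉ p.asIdeal, ∀ (R' : Type u) [CommRing R'] [Algebra R R'], IsUnit (algebraMap R R' s) →
      Module.Free R' (R' ⊗[R] M) := by
  have : Module.Free (Localization.AtPrime p.asIdeal) (LocalizedModule p.asIdeal.primeCompl M) :=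
    Module.free_of_flat_of_isLocalRing
  obtain ⟨s, hs, hfree, -⟩ := Module.FinitePresentation.exists_free_localizedModule_powers
    p.asIdeal.primeCompl (LocalizedModule.mkLinearMap p.asIdeal.primeCompl M) (Localization.AtPrime p.asIdeal)
  refine ⟨s, hs, fun R' _ _ hu => ?_⟩
  let Rs := Localization (Submonoid.powers s)
  let _ : Algebra Rs R' := RingHom.toAlgebra (IsLocalization.Away.lift (S := Rs) s hu)
  have : IsScalarTower R Rs R' := IsScalarTower.of_algebraMap_eq fun r =>
    (IsLocalization.Away.lift_eq (S := Rs) s hu r).symm
  let e : Rs ⊗[R] M ≃ₗ[Rs] LocalizedModule.Away s M :=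
    ((isLocalizedModule_iff_isBaseChange (Submonoid.powers s) Rs
      (LocalizedModule.mkLinearMap (Submonoid.powers s) M)).1 inferInstance).equiv
  have := Module.Free.of_equiv e.symm
  exact Module.Free.of_equiv (TensorProduct.AlgebraTensorModule.cancelBaseChange R Rs R' R' M)

variable {κ : Type} [Finite κ] (R' : κ → Type u) [∀ k, CommRing (R' k)] [∀ k, Algebra R (R' k)]

/-- A product of projective modules over a finite product of rings is projective. -/
theorem projective_pi_family (P : κ → Type u) [∀ k, AddCommGroup (P k)] [∀ k, Module (R' k) (P k)]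
    [∀ k, Module.Projective (R' k) (P k)] : Module.Projective (∀ k, R' k) (∀ k, P k) := by
  classical
  have : Fintype κ := Fintype.ofFinite κ
  choose s hs using fun k => (Module.projective_def'.1 (inferInstance : Module.Projective (R' k) (P k)))
  let sg : ∀ k, R' k → ∀ l, R' l := fun k => Pi.single k
  let T := (Σ k, P k) →₀ ∀ k, R' k
  let p : T →ₗ[∀ k, R' k] ∀ k, P k := Finsupp.linearCombination _ fun kp : Σ k, P k => Pi.single kp.1 kp.2
  let emb : ∀ k, (P k →₀ R' k) →+ T := fun k =>
    (Finsupp.mapDomain.addMonoidHom (Sigma.mk k)).comp
      (Finsupp.mapRange.addMonoidHom (AddMonoidHom.single R' k))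
  have emb_single : ∀ k q r, emb k (Finsupp.single q r) = Finsupp.single ⟨k, q⟩ (Pi.single k r) := fun k q r => by
    simp [emb]
  have emb_smul : ∀ k (r : ∀ l, R' l) c, emb k (r k • c) = r • emb k c := fun k r c => by
    induction c using Finsupp.induction_linear with
    | zero => simp
    | add a b ha hb => simp [ha, hb, smul_add]
    | single q t =>
      rw [Finsupp.smul_single, emb_single, emb_single, Finsupp.smul_single]
      congr 1
      funext l
      by_cases hl : l = k
      · subst hl; simp
      · simp [hl]
  let i : (∀ k, P k) →ₗ[∀ k, R' k] T :=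
    { toFun := fun x => ∑ k, emb k (s k (x k))
      map_add' := fun x y => by simp [Finset.sum_add_distrib]
      map_smul' := fun r x => by simp [Finset.smul_sum, ← emb_smul] }
  have hp : ∀ k c, p (emb k c) = Pi.single k (Finsupp.linearCombination (R' k) id c) := fun k c => by
    induction c using Finsupp.induction_linear with
    | zero => simp
    | add a b ha hb => simp [ha, hb, Pi.single_add]
    | single q t =>
      rw [emb_single]
      simp only [p]
      rw [Finsupp.linearCombination_single, Finsupp.linearCombination_single]
      funext l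
      by_cases hl : l = k
      · subst hl; simp
      · simp [hl]
  refine Module.Projective.of_split i p (LinearMap.ext fun x => ?_)
  change p (∑ k, emb k (s k (x k))) = x
  rw [map_sum]
  simp only [hp]
  rw [show (fun k => Pi.single k (Finsupp.linearCombination (R' k) id (s k (x k)))) = fun k => Pi.single k (x k) from
    funext fun k => congrArg (Pi.single k) (LinearMap.congr_fun (hs k) (x k))]
  exact Finset.univ_sum_single x

/-- Finiteness and projectivity are detected after a covering family of flat algebras. -/
theorem finite_projective_of_family [∀ k, Module.Flat R (R' k)]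
    (hsurj : ∀ p : PrimeSpectrum R, ∃ k q, PrimeSpectrum.comap (algebraMap R (R' k)) q = p)
    (hfin : ∀ k, Module.Finite (R' k) (R' k ⊗[R] M)) (hproj : ∀ k, Module.Projective (R' k) (R' k ⊗[R] M)) :
    Module.Finite R M ∧ Module.Projective R M := by
  classical
  have : Fintype κ := Fintype.ofFinite κ
  let A := ∀ k, R' k
  have : Module.Flat R A := Module.Flat.of_linearEquiv (DirectSum.linearEquivFunOnFintype R κ R').symm
  have : Module.FaithfullyFlat R A := Module.FaithfullyFlat.of_comap_surjective fun p => by
    obtain ⟨k, q, hq⟩ := hsurj p
    refine ⟨PrimeSpectrum.comap (Pi.evalRingHom R' k) q, ?_⟩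
    rw [← hq]
    rfl
  let e₀ : A ⊗[R] M ≃ₗ[R] ∀ k, R' k ⊗[R] M := TensorProduct.piLeft R _ _
  have he : ∀ (a : A) t, e₀ (a • t) = fun k => a k • e₀ t k := fun a t => by
    induction t with
    | zero => funext k; simp
    | add x y hx hy => simp [hx, hy, smul_add]; rfl
    | tmul b m =>
      funext k
      rw [TensorProduct.smul_tmul', smul_eq_mul]
      simp [e₀, TensorProduct.smul_tmul', A, Pi.mul_apply]
  let e : A ⊗[R] M ≃ₗ[A] ∀ k, R' k ⊗[R] M :=
    { e₀ with map_smul' := fun a t => (he a t).trans rfl }
  have hF : Module.Finite A (∀ k, R' k ⊗[R] M) := by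
    choose n f hf using fun k => Module.Finite.exists_fin' (R' k) (R' k ⊗[R] M)
    let g : (∀ k, Fin (n k) → A) →ₗ[A] ∀ k, R' k ⊗[R] M :=
      { toFun := fun c k => f k fun j => c k j k
        map_add' := fun c d => funext fun k => (map_add (f k) _ _)
        map_smul' := fun a c => funext fun k => (map_smul (f k) (a k) _) }
    refine Module.Finite.of_surjective g fun y => ?_
    choose c hc using fun k => hf k (y k)
    exact ⟨fun k j => Pi.single k (c k j), funext fun k => by
      refine Eq.trans ?_ (hc k)
      change f k _ = f k (c k)
      simp⟩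
  have hP : Module.Projective A (∀ k, R' k ⊗[R] M) := projective_pi_family R' _
  have : Module.Finite A (A ⊗[R] M) := Module.Finite.equiv e.symm
  have : Module.Projective A (A ⊗[R] M) := Module.Projective.of_equiv e.symm
  exact ⟨Module.Finite.of_finite_tensorProduct_of_faithfullyFlat A,
    Groth.Agent.H1CAlg.projective_of_baseChange R A M⟩

end Groth.Agent.H12AlgSp.BCMod
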