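import Groth.Agent.H12AlgSp.BCMod.Descent
import Mathlib.LinearAlgebra.TensorProduct.Pi

/-!
Sections of a presheaf of modules as modules over a ring mapping to the ring of functions; base change of equalizers.
-/

set_option backward.isDefEq.respectTransparency false

universe w v₁ u₁

open CategoryTheory CategoryTheory.Limits Opposite
open scoped TensorProduct

namespace Groth.Agent.H12AlgSp.BCMod

theorem bijective_of_equalizer {R : Type*} [CommRing R] (R' : Type*) [AddCommGroup R'] [Module R R'] [Module.Flat R R']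
    {L M N L' M' N' : Type*} [AddCommGroup L] [Module R L] [AddCommGroup M] [Module R M] [AddCommGroup N]
    [Module R N] [AddCommGroup L'] [Module R L'] [AddCommGroup M'] [Module R M'] [AddCommGroup N'] [Module R N']
    {f : L →ₗ[R] M} {g : M →ₗ[R] N} {f' : L' →ₗ[R] M'} {g' : M' →ₗ[R] N'}
    (hf : Function.Injective f) (hfg : Function.Exact f g) (hf' : Function.Injective f') (hfg' : g'.comp f' = 0)
    {βL : R' ⊗[R] L →ₗ[R] L'} {βM : R' ⊗[R] M →ₗ[R] M'} {βN : R' ⊗[R] N →ₗ[R] N'}
    (h₁ : ∀ t, f' (βL t) = βM (f.lTensor R' t)) (h₂ : ∀ t, g' (βM t) = βN (g.lTensor R' t))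
    (hM : Function.Bijective βM) (hN : Function.Injective βN) : Function.Bijective βL := by
  have hi := Module.Flat.lTensor_preserves_injective_linearMap (M := R') f hf
  refine ⟨fun a b e => hi (hM.1 ?_), fun y => ?_⟩
  · rw [← h₁, ← h₁, e]
  · obtain ⟨m, hm⟩ := hM.2 (f' y)
    have h0 : g.lTensor R' m = 0 := hN (by
      rw [← h₂, hm, map_zero]
      exact LinearMap.congr_fun hfg' y)
    obtain ⟨t, ht⟩ := ((Module.Flat.lTensor_exact R' hfg) m).1 h0
    exact ⟨t, hf' (by rw [h₁, ht, hm])⟩

variable {C : Type u₁} [Category.{v₁} C] {Rc : Cᵒᵖ ⥤ CommRingCat.{w}} (P : PM Rc)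
  {R : Type w} [CommRing R]

/-- Sections over `T` as a module over a ring mapping to the functions on `T`. -/
noncomputable abbrev RSec {T : C} (α : R →+* Rc.obj (op T)) : ModuleCat.{w} R :=
  (ModuleCat.restrictScalars α).obj (P.obj (op T))

variable {P}

/-- An element of `P(T)` as a relative section. -/
def toRSec {T : C} (α : R →+* Rc.obj (op T)) (x : P.obj (op T)) : RSec P α := x

/-- A relative section as an element of `P(T)`. -/
def ofRSec {T : C} {α : R →+* Rc.obj (op T)} (x : RSec P α) : P.obj (op T) := x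

theorem smul_rsec {T : C} {α : R →+* Rc.obj (op T)} (a : R) (x : RSec P α) : ofRSec (a • x) = α a • ofRSec x := rfl

variable (P)

/-- Restriction of relative sections. -/
noncomputable def rres {T T' : C} (u : T' ⟶ T) {α : R →+* Rc.obj (op T)} {α' : R →+* Rc.obj (op T')}
    (h : ∀ a, (Rc.map u.op).hom (α a) = α' a) : RSec P α →ₗ[R] RSec P α' where
  toFun x := toRSec α' ((P.map u.op).hom (ofRSec x))
  map_add' x y := (P.map u.op).hom.map_add _ _
  map_smul' a x := by
    change (P.map u.op).hom (α a • ofRSec x) = α' a • _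
    rw [← h]
    exact (P.map u.op).hom.map_smul _ _

theorem rres_apply {T T' : C} (u : T' ⟶ T) {α : R →+* Rc.obj (op T)} {α' : R →+* Rc.obj (op T')}
    (h : ∀ a, (Rc.map u.op).hom (α a) = α' a) (x : RSec P α) :
    ofRSec (rres P u h x) = (P.map u.op).hom (ofRSec x) := rfl

variable {R' : Type w} [CommRing R'] [Algebra R R']

/-- The base change map of relative sections. -/
noncomputable def rmu {T T' : C} (u : T' ⟶ T) {α : R →+* Rc.obj (op T)} {α' : R →+* Rc.obj (op T')}
    (σ : R' →+* Rc.obj (op T')) (hσ : ∀ a, σ (algebraMap R R' a) = α' a)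
    (h : ∀ a, (Rc.map u.op).hom (α a) = α' a) :
    R' ⊗[R] RSec P α →ₗ[R] RSec P α' :=
  TensorProduct.lift (LinearMap.mk₂ R (fun b x => toRSec α' (σ b • ofRSec (rres P u h x)))
    (fun b b' x => by rw [map_add, add_smul]; rfl)
    (fun a b x => by
      change σ (a • b) • ofRSec (rres P u h x) = α' a • (σ b • ofRSec (rres P u h x))
      rw [Algebra.smul_def, map_mul, hσ]
      exact mul_smul _ _ _)
    (fun b x x' => by rw [map_add]; exact smul_add _ _ _)
    (fun a b x => by
      rw [map_smul]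
      change σ b • ofRSec (a • rres P u h x) = α' a • (σ b • ofRSec (rres P u h x))
      rw [smul_rsec]
      exact smul_comm _ _ _))

theorem rmu_tmul {T T' : C} (u : T' ⟶ T) {α : R →+* Rc.obj (op T)} {α' : R →+* Rc.obj (op T')}
    (σ : R' →+* Rc.obj (op T')) (hσ : ∀ a, σ (algebraMap R R' a) = α' a)
    (h : ∀ a, (Rc.map u.op).hom (α a) = α' a) (b : R') (x : RSec P α) :
    ofRSec (rmu P u σ hσ h (b ⊗ₜ x)) = σ b • (P.map u.op).hom (ofRSec x) := rfl

theorem rres_rmu {T T' V V' : C} (u : T' ⟶ T) (v : V' ⟶ V) {αT : R →+* Rc.obj (op T)}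
    {αT' : R →+* Rc.obj (op T')} {αV : R →+* Rc.obj (op V)} {αV' : R →+* Rc.obj (op V')}
    (σT : R' →+* Rc.obj (op T')) (hσT : ∀ a, σT (algebraMap R R' a) = αT' a)
    (σV : R' →+* Rc.obj (op V')) (hσV : ∀ a, σV (algebraMap R R' a) = αV' a)
    (hu : ∀ a, (Rc.map u.op).hom (αT a) = αT' a) (hv : ∀ a, (Rc.map v.op).hom (αV a) = αV' a)
    (k : V ⟶ T) (k' : V' ⟶ T') (e : k' ≫ u = v ≫ k)
    (hk : ∀ a, (Rc.map k.op).hom (αT a) = αV a) (hk' : ∀ a, (Rc.map k'.op).hom (αT' a) = αV' a)
    (hs : ∀ b, (Rc.map k'.op).hom (σT b) = σV b)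
    (t : R' ⊗[R] RSec P αT) :
    rres P k' hk' (rmu P u σT hσT hu t) = rmu P v σV hσV hv ((rres P k hk).lTensor R' t) := by
  induction t with
  | zero => simp
  | add a b ha hb => simp only [map_add, ha, hb]
  | tmul b x =>
    rw [LinearMap.lTensor_tmul]
    change (P.map k'.op).hom (σT b • (P.map u.op).hom (ofRSec x)) =
      σV b • (P.map v.op).hom ((P.map k.op).hom (ofRSec x))
    refine ((P.map k'.op).hom.map_smul _ _).trans ?_
    refine congrArg₂ (fun (a : Rc.obj (op V')) (y : P.obj (op V')) => a • y) (hs b) ?_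
    have h1 : u.op ≫ k'.op = k.op ≫ v.op := by rw [← op_comp, ← op_comp, e]
    have h2 := PresheafOfModules.map_comp_apply P u.op k'.op (ofRSec x)
    rw [h1, PresheafOfModules.map_comp_apply] at h2
    exact h2.symm

/-- Base change of relative sections along a square with a pushout of rings. -/
theorem rmu_bijective {T T' : C} (u : T' ⟶ T) {α : R →+* Rc.obj (op T)} {α' : R →+* Rc.obj (op T')}
    (σ : R' →+* Rc.obj (op T')) (hσ : ∀ a, σ (algebraMap R R' a) = α' a)
    (h : ∀ a, (Rc.map u.op).hom (α a) = α' a)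
    (hpo : IsPushout (CommRingCat.ofHom (algebraMap R R')) (CommRingCat.ofHom α) (CommRingCat.ofHom σ)
      (Rc.map u.op)) (hP : IsBC P u) :
    Function.Bijective (rmu P u σ hσ h) := by
  let iRA : Algebra R (Rc.obj (op T)) := α.toAlgebra
  let iRB : Algebra R (RingOf Rc u) := α'.toAlgebra
  let iSB : Algebra R' (RingOf Rc u) := σ.toAlgebra
  have : IsScalarTower R R' (RingOf Rc u) := IsScalarTower.of_algebraMap_eq fun a => (hσ a).symm
  have : IsScalarTower R (Rc.obj (op T)) (RingOf Rc u) := IsScalarTower.of_algebraMap_eq fun a => (h a).symm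
  have hA : Algebra.IsPushout R R' (Rc.obj (op T)) (RingOf Rc u) := CommRingCat.isPushout_iff_isPushout.1 hpo
  let iM : Module R (Sec P (𝟙 T)) := Module.compHom _ α
  have : IsScalarTower R (Rc.obj (op T)) (Sec P (𝟙 T)) := ⟨fun a b x => mul_smul _ _ _⟩
  let i : RSec P α →ₗ[R] Sec P (𝟙 T) :=
    { toFun := fun x => toSec P (𝟙 T) (ofRSec x)
      map_add' := fun _ _ => rfl
      map_smul' := fun a x => by
        change α a • ofRSec x = (Rc.map (𝟙 T).op).hom (α a) • ofRSec x
        rw [op_id, CategoryTheory.Functor.map_id]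
        rfl }
  have hi : Function.Bijective (i.lTensor R') :=
    (LinearEquiv.lTensor R' (LinearEquiv.ofBijective i ⟨fun a b e => e, fun y => ⟨toRSec α (ofSec P y), rfl⟩⟩)).bijective
  let e := Algebra.IsPushout.cancelBaseChange R R' (Rc.obj (op T)) (RingOf Rc u) (Sec P (𝟙 T))
  have key : ∀ t, rmu P u σ hσ h t = toRSec α' (ofSec P (ext P u (e.symm (i.lTensor R' t)))) := by
    intro t
    induction t with
    | zero => simp; rfl
    | add a b ha hb => simp only [map_add, ha, hb]; rfl
    | tmul b x =>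
      rw [LinearMap.lTensor_tmul]
      erw [Algebra.IsPushout.cancelBaseChange_symm_tmul, ext_tmul]
      rfl
  rw [show (rmu P u σ hσ h : _ → _) = fun t => toRSec α' (ofSec P (ext P u (e.symm (i.lTensor R' t)))) from
    funext key]
  exact hP.comp (e.symm.bijective.comp hi)

end Groth.Agent.H12AlgSp.BCMod
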