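import Groth.Agent.H12AlgSp.BCMod.EtSite
import Groth.Agent.H12AlgSp.BCMod.RelSec
import Groth.Agent.H12AlgSp.QC
import Groth.Agent.H12AlgSp.Sep
import Groth.Prelude.Def_AlgSpOX2

/-!
Direct images along quasi-compact quasi-separated representable morphisms preserve quasi-coherence.
-/

set_option backward.isDefEq.respectTransparency false

universe u

open CategoryTheory CategoryTheory.Limits AlgebraicGeometry Opposite TopologicalSpace
open AlgSp Groth.Agent.H12AlgSp
open scoped TensorProduct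

namespace Groth.Agent.H12AlgSp.BCMod

variable {S : Scheme.{u}} {X Y : Sp S}

theorem yon_square {A B B' C : Over S} (a : A ⟶ B) (b : B ⟶ C) (d : A ⟶ B') (e : B' ⟶ C)
    (x : (yon S).obj C ⟶ X) (h : a.left ≫ b.left = d.left ≫ e.left) :
    (yon S).map a ≫ (yon S).map b ≫ x = (yon S).map d ≫ (yon S).map e ≫ x := by
  rw [← Category.assoc, ← Category.assoc, ← Functor.map_comp, ← Functor.map_comp]
  congr 2
  exact Over.OverMorphism.ext h

/-- The inclusion of opens of an object. -/
noncomputable def etOpenLE (E : EtOver X) {V U : E.obj.left.left.Opens} (h : V ≤ U) : etOpen E V ⟶ etOpen E U :=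
  EtOver.homMk (Over.homMk (E.obj.left.left.homOfLE h)
      (show E.obj.left.left.homOfLE h ≫ U.ι ≫ E.obj.left.hom = V.ι ≫ E.obj.left.hom by
        rw [Scheme.homOfLE_ι_assoc])) (by
    change (yon S).map _ ≫ (yon S).map _ ≫ E.obj.hom = (yon S).map _ ≫ E.obj.hom
    rw [← Category.assoc, ← Functor.map_comp]
    congr 2
    exact Over.OverMorphism.ext (Scheme.homOfLE_ι _ h))

theorem etOpenLE_ι (E : EtOver X) {V U : E.obj.left.left.Opens} (h : V ≤ U) :
    etOpenLE E h ≫ etOpenι E U = etOpenι E V :=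
  EtOver.hom_ext _ _ (Over.OverMorphism.ext (Scheme.homOfLE_ι _ h))

/-- The preimage of an open along a morphism of objects. -/
noncomputable def etPre {E E' : EtOver X} (h : E' ⟶ E) (U : E.obj.left.left.Opens) :
    etOpen E' (h.hom.left.left ⁻¹ᵁ U) ⟶ etOpen E U :=
  EtOver.homMk (Over.homMk (h.hom.left.left ∣_ U)
      (show (h.hom.left.left ∣_ U) ≫ U.ι ≫ E.obj.left.hom = (h.hom.left.left ⁻¹ᵁ U).ι ≫ E'.obj.left.hom by
        exact (morphismRestrict_ι_assoc _ _ _).trans (congrArg _ (Over.w h.hom.left)))) (by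
    change (yon S).map _ ≫ (yon S).map _ ≫ E.obj.hom = (yon S).map _ ≫ E'.obj.hom
    rw [← EtOver.w h]
    exact yon_square _ _ _ _ _ (morphismRestrict_ι _ _))

theorem etPre_ι {E E' : EtOver X} (h : E' ⟶ E) (U : E.obj.left.left.Opens) :
    etPre h U ≫ etOpenι E U = etOpenι E' (h.hom.left.left ⁻¹ᵁ U) ≫ h :=
  EtOver.hom_ext _ _ (Over.OverMorphism.ext (morphismRestrict_ι _ _))

theorem etPre_LE {E E' : EtOver X} (h : E' ⟶ E) {V U : E.obj.left.left.Opens} (hVU : V ≤ U) :
    etOpenLE E' (h.hom.left.left.preimage_mono hVU) ≫ etPre h U = etPre h V ≫ etOpenLE E hVU := by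
  refine EtOver.hom_ext _ _ (Over.OverMorphism.ext ((cancel_mono U.ι).1 ?_))
  change (_ ≫ (h.hom.left.left ∣_ U)) ≫ U.ι = ((h.hom.left.left ∣_ V) ≫ _) ≫ U.ι
  refine Eq.trans ((Category.assoc _ _ _).trans ((congrArg (_ ≫ ·) (morphismRestrict_ι _ _)).trans
    ((Category.assoc _ _ _).symm.trans (congrArg (· ≫ _) (Scheme.homOfLE_ι _ (h.hom.left.left.preimage_mono hVU)))))) ?_
  exact ((Category.assoc _ _ _).trans ((congrArg (_ ≫ ·) (Scheme.homOfLE_ι _ hVU)).trans (morphismRestrict_ι _ _))).symm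

theorem map_OEt_comp {A B C : EtOver X} (f : A ⟶ B) (g : B ⟶ C) (r : (OEt X).obj.obj (op C)) :
    ((OEt X).obj.map f.op).hom (((OEt X).obj.map g.op).hom r) = ((OEt X).obj.map (f ≫ g).op).hom r := by
  rw [op_comp, Functor.map_comp]; rfl

theorem pm_map_comp (F : ModEt X) {A B C : EtOver X} (f : A ⟶ B) (g : B ⟶ C)
    (x : (toPM (Rsh := OEt X) F).obj (op C)) :
    ((toPM (Rsh := OEt X) F).map f.op).hom (((toPM (Rsh := OEt X) F).map g.op).hom x) =
      ((toPM (Rsh := OEt X) F).map (f ≫ g).op).hom x := by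
  rw [op_comp, PresheafOfModules.map_comp]
  rfl

/-- Separatedness for a covering by opens. -/
theorem ext_of_opens (F : ModEt X) (T : EtOver X) {ι : Type*} (U : ι → T.obj.left.left.Opens)
    (hU : ∀ x, ∃ i, x ∈ U i) (s t : (toPM (Rsh := OEt X) F).obj (op T))
    (h : ∀ i, ((toPM (Rsh := OEt X) F).map (etOpenι T (U i)).op).hom s =
      ((toPM (Rsh := OEt X) F).map (etOpenι T (U i)).op).hom t) : s = t := by
  refine sheaf_ext (P := toPM (Rsh := OEt X) F) F.isSheaf
    (ofArrows_mem_etTop (fun i => etOpen T (U i)) (fun i => etOpenι T (U i)) fun x => ?_) s t fun Z k hk => ?_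
  · obtain ⟨i, hi⟩ := hU x
    exact ⟨i, ⟨x, hi⟩, rfl⟩
  · obtain ⟨_, l, _, ⟨i⟩, rfl⟩ := hk
    rw [← pm_map_comp, ← pm_map_comp, h i]

section Opens

variable (F : ModEt X) {R : Type (u + 1)} [CommRing R] {W W' : EtOver X}

/-- The underlying presheaf of modules. -/
noncomputable abbrev pmX : PM (OEt X).obj := toPM (Rsh := OEt X) F

/-- The ring map to functions on an open. -/
noncomputable def oHom (W : EtOver X) (α : R →+* (OEt X).obj.obj (op W)) (U : W.obj.left.left.Opens) :
    R →+* (OEt X).obj.obj (op (etOpen W U)) :=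
  ((OEt X).obj.map (etOpenι W U).op).hom.comp α

theorem oHom_LE (α : R →+* (OEt X).obj.obj (op W)) {V U : W.obj.left.left.Opens} (h : V ≤ U) (a : R) :
    ((OEt X).obj.map (etOpenLE W h).op).hom (oHom W α U a) = oHom W α V a := by
  change ((OEt X).obj.map _).hom (((OEt X).obj.map _).hom (α a)) = _
  rw [map_OEt_comp, etOpenLE_ι]
  rfl

variable (W) (α : R →+* (OEt X).obj.obj (op W)) {κ ν : Type u} (U : κ → W.obj.left.left.Opens)
  (V : ν → W.obj.left.left.Opens) (l r : ν → κ) (hl : ∀ k, V k ≤ U (l k)) (hr : ∀ k, V k ≤ U (r k))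

/-- Restriction to the members of a covering. -/
noncomputable def dOne : RSec (pmX F) α →ₗ[R] ((i : κ) → RSec (pmX F) (oHom W α (U i))) :=
  LinearMap.pi fun i => rres (pmX F) (etOpenι W (U i)) (fun _ => rfl)

/-- The difference of restrictions. -/
noncomputable def dTwo : ((i : κ) → RSec (pmX F) (oHom W α (U i))) →ₗ[R] ((k : ν) → RSec (pmX F) (oHom W α (V k))) :=
  LinearMap.pi fun k => (rres (pmX F) (etOpenLE W (hr k)) (oHom_LE α (hr k))).comp (LinearMap.proj (r k)) -
    (rres (pmX F) (etOpenLE W (hl k)) (oHom_LE α (hl k))).comp (LinearMap.proj (l k))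

theorem dOne_injective (hU : ∀ p, ∃ i, p ∈ U i) : Function.Injective (dOne F W α U) := fun a b e =>
  ext_of_opens F W U hU (ofRSec a) (ofRSec b) fun i => by
    have := congr_fun e i
    simp only [dOne, LinearMap.pi_apply] at this
    exact this

theorem dTwo_dOne : (dTwo F W α U V l r hl hr).comp (dOne F W α U) = 0 := by
  refine LinearMap.ext fun a => funext fun k => ?_
  simp only [dTwo, dOne, LinearMap.comp_apply, LinearMap.pi_apply, LinearMap.sub_apply, LinearMap.proj_apply,
    LinearMap.zero_apply, Pi.zero_apply, sub_eq_zero]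
  refine (pm_map_comp F (etOpenLE W (hr k)) (etOpenι W (U (r k))) (ofRSec a)).trans ?_
  refine Eq.trans ?_ (pm_map_comp F (etOpenLE W (hl k)) (etOpenι W (U (l k))) (ofRSec a)).symm
  rw [etOpenLE_ι, etOpenLE_ι]

theorem dOne_exact (hU : ∀ p, ∃ i, p ∈ U i)
    (hV : ∀ i j p, p ∈ U i → p ∈ U j → ∃ k, l k = i ∧ r k = j ∧ p ∈ V k) :
    Function.Exact (dOne F W α U) (dTwo F W α U V l r hl hr) := fun y => by
  refine ⟨fun hy => ?_, fun ⟨a, ha⟩ => ha ▸ LinearMap.congr_fun (dTwo_dOne F W α U V l r hl hr) a⟩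
  have hy' : ∀ k, ((pmX F).map (etOpenLE W (hr k)).op).hom (ofRSec (y (r k))) =
      ((pmX F).map (etOpenLE W (hl k)).op).hom (ofRSec (y (l k))) := fun k => by
    have := congr_fun hy k
    simp only [dTwo, LinearMap.pi_apply, LinearMap.sub_apply, LinearMap.comp_apply, LinearMap.proj_apply,
      Pi.zero_apply, sub_eq_zero] at this
    exact this
  obtain ⟨s, hs, -⟩ := (Presieve.isSheafFor_arrows_iff _ _).1
    ((Presieve.isSheafFor_iff_generate _).2 ((isSheaf_types (P := pmX F) F.isSheaf) _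
      (ofArrows_mem_etTop (fun i => etOpen W (U i)) (fun i => etOpenι W (U i))
        fun p => (hU p).imp fun i hi => ⟨⟨p, hi⟩, rfl⟩)))
    (fun i => ofRSec (y i)) (fun i j T a b e => by
      have e' : a.hom.left.left ≫ (U i).ι = b.hom.left.left ≫ (U j).ι := congrArg (fun m => m.hom.left.left) e
      refine ext_of_opens F T (fun k : { k // l k = i ∧ r k = j } => a.hom.left.left ⁻¹ᵁ ((U i).ι ⁻¹ᵁ V k.1))
        (fun p => ?_) _ _ fun k => ?_
      · have h2 : (U i).ι (a.hom.left.left p) ∈ U j := by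
          rw [show (U i).ι (a.hom.left.left p) = (U j).ι (b.hom.left.left p) from congrArg (fun m => m p) e']
          exact (b.hom.left.left p).2
        obtain ⟨k, h1, h3, h4⟩ := hV i j _ (a.hom.left.left p).2 h2
        exact ⟨⟨k, h1, h3⟩, h4⟩
      obtain ⟨k, rfl, rfl⟩ := k
      let O := a.hom.left.left ⁻¹ᵁ ((U (l k)).ι ⁻¹ᵁ V k)
      let c : O.toScheme ⟶ (V k).toScheme :=
        IsOpenImmersion.lift (V k).ι (O.ι ≫ a.hom.left.left ≫ (U (l k)).ι) (by
          rw [Scheme.Opens.range_ι]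
          rintro _ ⟨q, rfl⟩
          exact q.2)
      have hc : c ≫ (V k).ι = O.ι ≫ a.hom.left.left ≫ (U (l k)).ι := IsOpenImmersion.lift_fac _ _ _
      let c' : (etOpen T O).obj.left ⟶ (etOpen W (V k)).obj.left := Over.homMk c (by
        change c ≫ (V k).ι ≫ W.obj.left.hom = O.ι ≫ T.obj.left.hom
        rw [← Over.w a.hom.left]
        exact (reassoc_of% hc) _)
      let cE : etOpen T O ⟶ etOpen W (V k) := EtOver.homMk c' (by
        change (yon S).map c' ≫ (yon S).map _ ≫ W.obj.hom = _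
        rw [← EtOver.w (etOpenι T O ≫ a ≫ etOpenι W (U (l k))), ← Category.assoc, ← Functor.map_comp]
        congr 2
        exact Over.OverMorphism.ext hc)
      have ea : cE ≫ etOpenLE W (hl k) = etOpenι T O ≫ a := by
        refine EtOver.hom_ext _ _ (Over.OverMorphism.ext ((cancel_mono (U (l k)).ι).1 ?_))
        refine ((Category.assoc _ _ _).trans ((congrArg (c ≫ ·) (Scheme.homOfLE_ι _ (hl k))).trans hc)).trans ?_
        exact (Category.assoc _ _ _).symm
      have eb : cE ≫ etOpenLE W (hr k) = etOpenι T O ≫ b := by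
        refine EtOver.hom_ext _ _ (Over.OverMorphism.ext ((cancel_mono (U (r k)).ι).1 ?_))
        refine ((Category.assoc _ _ _).trans ((congrArg (c ≫ ·) (Scheme.homOfLE_ι _ (hr k))).trans hc)).trans ?_
        rw [e']
        exact (Category.assoc _ _ _).symm
      have hk := congrArg (fun z => ((pmX F).map cE.op).hom z) (hy' k)
      simp only [pm_map_comp] at hk
      rw [ea, eb] at hk
      change ((pmX F).map (etOpenι T O).op).hom (((pmX F).map a.op).hom (ofRSec (y (l k)))) =
        ((pmX F).map (etOpenι T O).op).hom (((pmX F).map b.op).hom (ofRSec (y (r k))))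
      rw [pm_map_comp, pm_map_comp]
      exact hk.symm)
  exact ⟨toRSec α s, funext fun i => by
    simp only [dOne, LinearMap.pi_apply]
    exact hs i⟩

variable {W} {R' : Type (u + 1)} [CommRing R'] [Algebra R R'] (h : W' ⟶ W)
  (α' : R →+* (OEt X).obj.obj (op W')) (σ : R' →+* (OEt X).obj.obj (op W'))
  (hσ : ∀ a, σ (algebraMap R R' a) = α' a) (hh : ∀ a, ((OEt X).obj.map h.op).hom (α a) = α' a)

/-- The base change map of an open. -/
noncomputable def openMu (U : W.obj.left.left.Opens) :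
    R' ⊗[R] RSec (pmX F) (oHom W α U) →ₗ[R] RSec (pmX F) (oHom W' α' (h.hom.left.left ⁻¹ᵁ U)) :=
  rmu (pmX F) (etPre h U) (oHom W' σ _) (fun a => congrArg ((OEt X).obj.map (etOpenι W' _).op).hom (hσ a)) (fun a => by
    change ((OEt X).obj.map _).hom (((OEt X).obj.map _).hom (α a)) = ((OEt X).obj.map _).hom (α' a)
    rw [← hh, map_OEt_comp, map_OEt_comp, etPre_ι])

/-- The base change map of a product over opens. -/
noncomputable def piMu {ι : Type u} (U : ι → W.obj.left.left.Opens) :
    R' ⊗[R] ((i : ι) → RSec (pmX F) (oHom W α (U i))) →ₗ[R]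
      ((i : ι) → RSec (pmX F) (oHom W' α' (h.hom.left.left ⁻¹ᵁ U i))) :=
  LinearMap.pi fun i => (openMu F α h α' σ hσ hh (U i)).comp ((LinearMap.proj i).lTensor _)

theorem piMu_bijective {ι : Type u} [Fintype ι] (U : ι → W.obj.left.left.Opens)
    (hb : ∀ i, Function.Bijective (openMu F α h α' σ hσ hh (U i))) :
    Function.Bijective (piMu F α h α' σ hσ hh U) := by
  classical
  let e := (TensorProduct.piRight R R R' (fun i => RSec (pmX F) (oHom W α (U i)))).trans
    (LinearEquiv.piCongrRight fun i => LinearEquiv.ofBijective (openMu F α h α' σ hσ hh (U i)) (hb i))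
  have he : piMu F α h α' σ hσ hh U = e.toLinearMap := TensorProduct.ext' fun b x => funext fun i => by
    simp [e, piMu]
  rw [he]
  exact e.bijective

theorem bijective_of_opens [Module.Flat R R'] [Fintype κ] [Fintype ν] (hU : ∀ p, ∃ i, p ∈ U i)
    (hV : ∀ i j p, p ∈ U i → p ∈ U j → ∃ k, l k = i ∧ r k = j ∧ p ∈ V k)
    (hl : ∀ k, V k ≤ U (l k)) (hr : ∀ k, V k ≤ U (r k))
    (hbU : ∀ i, Function.Bijective (openMu F α h α' σ hσ hh (U i)))
    (hbV : ∀ k, Function.Bijective (openMu F α h α' σ hσ hh (V k))) :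
    Function.Bijective (rmu (pmX F) h σ hσ hh) := by
  have hl' : ∀ k, h.hom.left.left ⁻¹ᵁ V k ≤ h.hom.left.left ⁻¹ᵁ U (l k) := fun k =>
    h.hom.left.left.preimage_mono (hl k)
  have hr' : ∀ k, h.hom.left.left ⁻¹ᵁ V k ≤ h.hom.left.left ⁻¹ᵁ U (r k) := fun k =>
    h.hom.left.left.preimage_mono (hr k)
  refine bijective_of_equalizer R' (dOne_injective F W α U hU) (dOne_exact F W α U V l r hl hr hU hV)
    (dOne_injective F W' α' (fun i => h.hom.left.left ⁻¹ᵁ U i) fun p => hU (h.hom.left.left p))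
    (dTwo_dOne F W' α' (fun i => h.hom.left.left ⁻¹ᵁ U i) (fun k => h.hom.left.left ⁻¹ᵁ V k) l r hl' hr')
    (βM := piMu F α h α' σ hσ hh U) (βN := piMu F α h α' σ hσ hh V) (fun z => funext fun i => ?_)
    (fun z => funext fun k => ?_) (piMu_bijective F α h α' σ hσ hh U hbU)
    (piMu_bijective F α h α' σ hσ hh V hbV).1
  · simp only [dOne, piMu, LinearMap.pi_apply, LinearMap.comp_apply]
    rw [← LinearMap.lTensor_comp_apply, LinearMap.proj_pi]
    exact rres_rmu (pmX F) h (etPre h (U i)) _ _ _ _ _ _ (etOpenι W (U i)) (etOpenι _ _) (etPre_ι h (U i)).symm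
      (fun _ => rfl) (fun _ => rfl) (fun _ => rfl) z
  · simp only [dTwo, piMu, LinearMap.pi_apply, LinearMap.sub_apply, LinearMap.comp_apply, LinearMap.proj_apply]
    rw [← LinearMap.lTensor_comp_apply]
    simp only [LinearMap.proj_pi, LinearMap.lTensor_sub, LinearMap.sub_apply, map_sub,
      LinearMap.lTensor_comp_apply]
    congr 1
    · exact rres_rmu (pmX F) (etPre h (U (r k))) (etPre h (V k)) _ _ _ _ _ _ (etOpenLE W (hr k))
        (etOpenLE _ (hr' k)) (etPre_LE h (hr k)) (oHom_LE α (hr k)) (oHom_LE α' (hr' k)) (oHom_LE σ (hr' k)) _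
    · exact rres_rmu (pmX F) (etPre h (U (l k))) (etPre h (V k)) _ _ _ _ _ _ (etOpenLE W (hl k))
        (etOpenLE _ (hl' k)) (etPre_LE h (hl k)) (oHom_LE α (hl k)) (oHom_LE α' (hl' k)) (oHom_LE σ (hl' k)) _

end Opens

variable {f : X ⟶ Y} (hf : Representable f) (F : ModEt X) {E E' : EtOver Y}

/-- The ring map to functions on a base change. -/
noncomputable def topHom (E : EtOver Y) :
    (OEt Y).obj.obj (op E) →+* (OEt X).obj.obj (op ((EtOver.bc hf).obj E)) :=
  ((bcRingHom hf).hom.app (op E)).hom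

theorem topHom_nat (g : E' ⟶ E) (a : (OEt Y).obj.obj (op E)) :
    ((OEt X).obj.map ((EtOver.bc hf).map g).op).hom (topHom hf E a) =
      topHom hf E' (((OEt Y).obj.map g.op).hom a) :=
  (congrArg (fun m => m.hom a) ((bcRingHom hf).hom.naturality g.op)).symm

variable (g : E' ⟶ E)

theorem isPullback_open (U : ((EtOver.bc hf).obj E).obj.left.left.Opens) :
    IsPullback (etPre ((EtOver.bc hf).map g) U).hom.left.left
      ((((EtOver.bc hf).map g).hom.left.left ⁻¹ᵁ U).ι ≫ (hf.snd E'.obj.hom).left)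
      (U.ι ≫ (hf.snd E.obj.hom).left) g.hom.left.left :=
  (isPullback_morphismRestrict ((EtOver.bc hf).map g).hom.left.left U).paste_vert
    (EtOver.isPullback_bcMap_left hf g)

variable [IsAffine E.obj.left.left] [IsAffine E'.obj.left.left] [F.IsQuasicoherent]

theorem openMu_bc_bijective {U : ((EtOver.bc hf).obj E).obj.left.left.Opens} (hU : IsAffineOpen U) :
    Function.Bijective (openMu F (topHom hf E) ((EtOver.bc hf).map g) (R' := RingOf (OEt Y).obj g)
      ((topHom hf E').comp ((OEt Y).obj.map g.op).hom) (topHom hf E') (fun _ => rfl) (topHom_nat hf g) U) := by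
  have : IsAffineHom ((EtOver.bc hf).map g).hom.left.left :=
    MorphismProperty.of_isPullback (EtOver.isPullback_bcMap_left hf g).flip
      (inferInstanceAs (IsAffineHom g.hom.left.left))
  have hA : IsAffine (etOpen ((EtOver.bc hf).obj E) U).obj.left.left := hU
  have hA' : IsAffine (etOpen ((EtOver.bc hf).obj E') (((EtOver.bc hf).map g).hom.left.left ⁻¹ᵁ U)).obj.left.left :=
    hU.preimage _
  refine rmu_bijective _ _ _ _ _ ?_ ((isQuasicoherent_iff_isBCEt F).1 inferInstance _ hA' hA)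
  have : IsAffine U.toScheme := hU
  refine isPushout_ulift (isPushout_appTop_of_isPullback (isPullback_open hf g U)).flip ?_ ?_ ?_ ?_
  · exact fun _ => rfl
  · intro x
    rw [Scheme.Hom.comp_appTop]
    rfl
  · intro x
    rw [Scheme.Hom.comp_appTop]
    rfl
  · exact fun _ => rfl

/-- A section of the direct image as a section on the base change. -/
def ofPush {E : EtOver Y} (x : (toPM (Rsh := OEt Y) ((pushModEt hf).obj F)).obj (op E)) :
    (pmX F).obj (op ((EtOver.bc hf).obj E)) := x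

omit [IsAffine E.obj.left.left] [IsAffine E'.obj.left.left] [F.IsQuasicoherent] in
theorem ofPush_add {E : EtOver Y} (x y : (toPM (Rsh := OEt Y) ((pushModEt hf).obj F)).obj (op E)) :
    ofPush hf F (x + y) = ofPush hf F x + ofPush hf F y := rfl

omit [IsAffine E.obj.left.left] [IsAffine E'.obj.left.left] [F.IsQuasicoherent] in
theorem ofPush_smul {E : EtOver Y} (a : (OEt Y).obj.obj (op E))
    (x : (toPM (Rsh := OEt Y) ((pushModEt hf).obj F)).obj (op E)) :
    ofPush hf F (a • x) = topHom hf E a • ofPush hf F x := rfl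

omit [IsAffine E.obj.left.left] [IsAffine E'.obj.left.left] [F.IsQuasicoherent] in
theorem ofPush_res (x : Sec (toPM (Rsh := OEt Y) ((pushModEt hf).obj F)) (𝟙 E)) :
    ofPush hf F (ofSec _ (res (toPM (Rsh := OEt Y) ((pushModEt hf).obj F)) g (Category.comp_id g) x)) =
      ((pmX F).map ((EtOver.bc hf).map g).op).hom (ofPush hf F (ofSec _ x)) := rfl

omit [IsAffine E.obj.left.left] [IsAffine E'.obj.left.left] [F.IsQuasicoherent] in
theorem ofPush_injective {E : EtOver Y} : Function.Bijective (ofPush hf F (E := E)) :=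
  ⟨fun _ _ e => e, fun y => ⟨y, rfl⟩⟩

theorem isBC_of_rmu
    (hb : Function.Bijective (rmu (pmX F) (R' := RingOf (OEt Y).obj g) ((EtOver.bc hf).map g) (α := topHom hf E)
      (α' := (topHom hf E').comp ((OEt Y).obj.map g.op).hom) (topHom hf E') (fun _ => rfl) (topHom_nat hf g))) :
    IsBC (toPM (Rsh := OEt Y) ((pushModEt hf).obj F)) g := by
  let Q := toPM (Rsh := OEt Y) ((pushModEt hf).obj F)
  let i₀ : Sec Q (𝟙 E) →ₗ[(OEt Y).obj.obj (op E)] RSec (pmX F) (topHom hf E) :=
    { toFun := fun x => toRSec (topHom hf E) (ofPush hf F (ofSec Q x))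
      map_add' := fun x y => ofPush_add hf F (ofSec Q x) (ofSec Q y)
      map_smul' := fun a x => by
        have h : ofSec Q (a • x) = a • ofSec Q x := by
          rw [smul_sec, op_id, CategoryTheory.Functor.map_id]
          rfl
        rw [h, ofPush_smul]
        rfl }
  let βL := rmu (pmX F) (R' := RingOf (OEt Y).obj g) ((EtOver.bc hf).map g) (α := topHom hf E)
    (α' := (topHom hf E').comp ((OEt Y).obj.map g.op).hom) (topHom hf E') (fun _ => rfl) (topHom_nat hf g)
  let j : Sec Q g → RSec (pmX F) ((topHom hf E').comp ((OEt Y).obj.map g.op).hom) :=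
    fun x => toRSec _ (ofPush hf F (ofSec Q x))
  have hj : Function.Injective j := fun a b e => (ofPush_injective hf F).1 e
  have key2 : ∀ z, j (ext Q g z) = βL (i₀.lTensor _ z) := fun z => by
    induction z with
    | zero =>
      rw [map_zero, map_zero, map_zero]
      exact (ofPush_injective hf F).1.eq_iff.2 rfl
    | add a b ha hb =>
      rw [map_add, map_add, map_add, ← ha, ← hb]
      exact ofPush_add hf F _ _
    | tmul b x =>
      rw [ext_tmul, LinearMap.lTensor_tmul]
      refine (ofPush_smul hf F (E := E') b (ofSec Q (res Q g (Category.comp_id g) x))).trans ?_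
      exact (congrArg (fun y : (pmX F).obj (op ((EtOver.bc hf).obj E')) => topHom hf E' b • y)
        (ofPush_res hf F g x)).trans (rmu_tmul (pmX F) (R' := RingOf (OEt Y).obj g) ((EtOver.bc hf).map g) (α := topHom hf E)
          (α' := (topHom hf E').comp ((OEt Y).obj.map g.op).hom) (topHom hf E') (fun _ => rfl) (topHom_nat hf g) b (i₀ x)).symm
  refine (Function.Bijective.of_comp_iff' ⟨hj, fun y => ?_⟩ _).1
    (show Function.Bijective (j ∘ ext Q g) from (funext key2 : j ∘ ext Q g = _) ▸ hb.comp ?_)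
  · exact ⟨toSec Q g ((ofPush_injective hf F).2 (ofRSec y)).choose, ((ofPush_injective hf F).2 (ofRSec y)).choose_spec⟩
  · exact (LinearEquiv.lTensor _ (LinearEquiv.ofBijective i₀
      ⟨fun a b e => (ofPush_injective hf F).1 e,
        fun y => ⟨toSec Q (𝟙 E) ((ofPush_injective hf F).2 (ofRSec y)).choose,
          ((ofPush_injective hf F).2 (ofRSec y)).choose_spec⟩⟩)).bijective

theorem isBC_push (hqc : CompactSpace ((EtOver.bc hf).obj E).obj.left.left)
    (hqs : QuasiSeparatedSpace ((EtOver.bc hf).obj E).obj.left.left) :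
    IsBC (toPM (Rsh := OEt Y) ((pushModEt hf).obj F)) g := by
  classical
  have : Module.Flat ((OEt Y).obj.obj (op E)) (RingOf (OEt Y).obj g) :=
    (etAff Y).flat g ‹IsAffine E.obj.left.left› ‹IsAffine E'.obj.left.left›
  let W := (EtOver.bc hf).obj E
  obtain ⟨s, hs, hs'⟩ := isCompact_iff_finite_and_eq_biUnion_affineOpens.1
    (show IsCompact ((⊤ : W.obj.left.left.Opens) : Set W.obj.left.left) from
      (Opens.coe_top (α := W.obj.left.left)).symm ▸ isCompact_univ)
  have key : ∀ x : s × s, ∃ t : Set W.obj.left.left.affineOpens, t.Finite ∧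
      x.1.1.1 ⊓ x.2.1.1 = ⨆ V ∈ t, (V.1 : W.obj.left.left.Opens) := fun x =>
    isCompact_iff_finite_and_eq_biUnion_affineOpens.1
      (IsCompact.inter_of_isOpen x.1.1.2.isCompact x.2.1.2.isCompact x.1.1.1.2 x.2.1.1.2)
  choose t ht ht' using key
  have : Finite s := hs
  have : ∀ x, Finite (t x) := fun x => ht x
  have : Fintype s := Fintype.ofFinite _
  have : Fintype (Σ x : s × s, t x) := Fintype.ofFinite _
  have hb := bijective_of_opens F (topHom hf E) (fun i : s => i.1.1) (fun k : Σ x : s × s, t x => k.2.1.1)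
    (fun k => k.1.1) (fun k => k.1.2) ((EtOver.bc hf).map g) (R' := RingOf (OEt Y).obj g)
    ((topHom hf E').comp ((OEt Y).obj.map g.op).hom) (topHom hf E') (fun _ => rfl) (topHom_nat hf g)
    (fun p => by
      obtain ⟨V, hV, hp⟩ : ∃ V, ∃ _ : V ∈ s, p ∈ (V : W.obj.left.left.affineOpens).1 := by
        simpa [Opens.mem_iSup] using hs'.le (show p ∈ (⊤ : W.obj.left.left.Opens) from trivial)
      exact ⟨⟨V, hV⟩, hp⟩)
    (fun i j p h1 h2 => by
      obtain ⟨V, hV, hp⟩ : ∃ V, ∃ _ : V ∈ t (i, j), p ∈ (V : W.obj.left.left.affineOpens).1 := by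
        simpa [Opens.mem_iSup] using (ht' (i, j)).le (show p ∈ i.1.1 ⊓ j.1.1 from ⟨h1, h2⟩)
      exact ⟨⟨(i, j), ⟨V, hV⟩⟩, rfl, rfl, hp⟩)
    (fun k => ((le_iSup₂ (f := fun V _ => (V : W.obj.left.left.affineOpens).1) k.2.1 k.2.2).trans
      (ht' k.1).ge).trans inf_le_left)
    (fun k => ((le_iSup₂ (f := fun V _ => (V : W.obj.left.left.affineOpens).1) k.2.1 k.2.2).trans
      (ht' k.1).ge).trans inf_le_right)
    (fun i => openMu_bc_bijective hf F g i.1.2) (fun k => openMu_bc_bijective hf F g k.2.1.2)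
  exact isBC_of_rmu hf F g hb

omit [IsAffine E.obj.left.left] [IsAffine E'.obj.left.left] in
theorem isQuasicoherent_pushModEt (hqc : IsQuasiCompactMor f) (hqs : IsQuasiSeparatedMor f) :
    ((pushModEt hf).obj F).IsQuasicoherent := by
  rw [isQuasicoherent_iff_isBCEt]
  intro E' E g hE' hE
  have : IsAffine E'.obj.left.left := hE'
  have : IsAffine E.obj.left.left := hE
  have h1 : QuasiCompact (hf.snd E.obj.hom).left :=
    (repWith_quasiCompact_of_mor hf hqc).property _ _ _ (hf.isPullback E.obj.hom)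
  have h2 : QuasiSeparated (hf.snd E.obj.hom).left :=
    (quasiSeparated_iff _).2 ((repWith_diagonal_yon_map_iff _ _).1
      (repWith_of_isPullback (isPullback_diagonal (hf.isPullback E.obj.hom)) hqs))
  exact isBC_push hf F g (QuasiCompact.compactSpace_of_compactSpace (hf.snd E.obj.hom).left)
    (quasiSeparatedSpace_of_quasiSeparated (hf.snd E.obj.hom).left)

end Groth.Agent.H12AlgSp.BCMod
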