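import Groth.Agent.H12AlgSp.BCMod.LocFree
import Groth.Agent.H12AlgSp.BCMod.ProjLocal
import Groth.Agent.H12AlgSp.BCMod.PushQcqs
import Groth.Agent.H12AlgSp.AffineMor
import Groth.Agent.H12AlgSp.Charts
import Groth.Agent.H13AlgSp.Topology
import Groth.Agent.H18Torsor.Basic
import Mathlib.AlgebraicGeometry.Morphisms.LocalFlatDescent
import Mathlib.RingTheory.Finiteness.ModuleFinitePresentation

/-!
Finite locally free morphisms of algebraic spaces and their direct image of functions.
-/

set_option backward.isDefEq.respectTransparency false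

open CategoryTheory CategoryTheory.Limits Opposite
open scoped TensorProduct

namespace Groth.Agent.H12AlgSp.BCMod

section Generic

universe w v₁ u₁

variable {C : Type u₁} [Category.{v₁} C] {Rc : Cᵒᵖ ⥤ CommRingCat.{w}} (P : PM Rc)

/-- Sections over the identity. -/
noncomputable def secId (E : C) : Sec P (𝟙 E) ≃ₗ[Rc.obj (op E)] P.obj (op E) where
  toFun x := ofSec P x
  invFun x := toSec P (𝟙 E) x
  map_add' _ _ := rfl
  map_smul' a x := by
    rw [smul_sec, op_id, CategoryTheory.Functor.map_id]
    rfl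
  left_inv _ := rfl
  right_inv _ := rfl

theorem ext_smul {Z E : C} (g : Z ⟶ E) (b : RingOf Rc g) (z : RingOf Rc g ⊗[Rc.obj (op E)] Sec P (𝟙 E)) :
    ext P g (b • z) = b • ext P g z := by
  induction z with
  | zero => simp
  | add x y hx hy => rw [smul_add, map_add, map_add, hx, hy, smul_add]
  | tmul c x => rw [TensorProduct.smul_tmul', ext_tmul, ext_tmul, smul_eq_mul, mul_smul]

/-- The base change isomorphism, linear over the ring of the source. -/
noncomputable def bcEquiv {Z E : C} {g : Z ⟶ E} (hg : IsBC P g) :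
    RingOf Rc g ⊗[Rc.obj (op E)] P.obj (op E) ≃ₗ[RingOf Rc g] Sec P g :=
  (TensorProduct.AlgebraTensorModule.congr (LinearEquiv.refl (RingOf Rc g) (RingOf Rc g)) (secId P E).symm).trans
    (LinearEquiv.ofBijective
      ({ toFun := ext P g, map_add' := map_add _, map_smul' := ext_smul P g } : _ →ₗ[RingOf Rc g] _) hg)

theorem free_of_bc {Z E : C} {g : Z ⟶ E} (hg : IsBC P g)
    [Module.Free (RingOf Rc g) (RingOf Rc g ⊗[Rc.obj (op E)] P.obj (op E))] :
    Module.Free (Rc.obj (op Z)) (P.obj (op Z)) :=
  (Module.Free.of_equiv (bcEquiv P hg) :)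

theorem finite_of_bc {Z E : C} {g : Z ⟶ E} (hg : IsBC P g) [Module.Finite (Rc.obj (op E)) (P.obj (op E))] :
    Module.Finite (Rc.obj (op Z)) (P.obj (op Z)) :=
  (Module.Finite.equiv (bcEquiv P hg) :)

theorem finite_free_tensor_of_bc {Z E : C} {g : Z ⟶ E} (hg : IsBC P g)
    (h1 : Module.Free (Rc.obj (op Z)) (P.obj (op Z))) (h2 : Module.Finite (Rc.obj (op Z)) (P.obj (op Z))) :
    Module.Finite (RingOf Rc g) (RingOf Rc g ⊗[Rc.obj (op E)] P.obj (op E)) ∧
      Module.Projective (RingOf Rc g) (RingOf Rc g ⊗[Rc.obj (op E)] P.obj (op E)) := by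
  have : Module.Free (RingOf Rc g) (Sec P g) := h1
  have : Module.Finite (RingOf Rc g) (Sec P g) := h2
  exact ⟨Module.Finite.equiv (bcEquiv P hg).symm, Module.Projective.of_equiv (bcEquiv P hg).symm⟩

end Generic

universe u

open AlgebraicGeometry TopologicalSpace
open AlgSp Groth.Agent.H12AlgSp Groth.Agent.H13AlgSp

variable {S : Scheme.{u}} {X Y : Sp S} {f : X ⟶ Y} (hf : Representable f)

/-- The direct image of the functions. -/
noncomputable abbrev pushOne : ModEt Y := (pushModEt hf).obj (unitModEt X)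

/-- Sections of the direct image of functions are functions on the base change. -/
noncomputable def pushOneEquiv (E : EtOver Y) :
    letI := (topHom hf E).toAlgebra
    (toPM (Rsh := OEt Y) (pushOne hf)).obj (op E) ≃ₗ[(OEt Y).obj.obj (op E)]
      (OEt X).obj.obj (op ((EtOver.bc hf).obj E)) :=
  letI := (topHom hf E).toAlgebra
  { toFun := fun x => ofPush hf (unitModEt X) x
    invFun := fun x => x
    map_add' := fun _ _ => rfl
    map_smul' := fun _ _ => rfl
    left_inv := fun _ => rfl
    right_inv := fun _ => rfl }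

theorem finiteProps_iff (E : EtOver Y) [IsAffine E.obj.left.left]
    [IsAffine ((EtOver.bc hf).obj E).obj.left.left] :
    finLocFree (hf.snd E.obj.hom).left ↔
      (topHom hf E).Finite ∧ (topHom hf E).Flat ∧ (topHom hf E).FinitePresentation := by
  let φ := (hf.snd E.obj.hom).left.appTop.hom
  let d := (ULift.ringEquiv : ULift.{u + 1} Γ(E.obj.left.left, ⊤) ≃+* Γ(E.obj.left.left, ⊤))
  let up := (ULift.ringEquiv : ULift.{u + 1} Γ(((EtOver.bc hf).obj E).obj.left.left, ⊤) ≃+*
    Γ(((EtOver.bc hf).obj E).obj.left.left, ⊤)).symm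
  have e1 : topHom hf E = up.toRingHom.comp (φ.comp d.toRingHom) := RingHom.ext fun _ => rfl
  have e2 : φ = up.symm.toRingHom.comp ((topHom hf E).comp d.symm.toRingHom) := RingHom.ext fun _ => rfl
  have : IsAffine (hf.pullback E.obj.hom).left := ‹IsAffine ((EtOver.bc hf).obj E).obj.left.left›
  have h1 : IsFinite (hf.snd E.obj.hom).left ↔ φ.Finite := by
    rw [HasAffineProperty.iff_of_isAffine (P := @IsFinite)]
    exact and_iff_right inferInstance
  have h2 : Flat (hf.snd E.obj.hom).left ↔ φ.Flat := HasRingHomProperty.iff_of_isAffine (P := @Flat)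
  have h3 : LocallyOfFinitePresentation (hf.snd E.obj.hom).left ↔ φ.FinitePresentation :=
    HasRingHomProperty.iff_of_isAffine (P := @LocallyOfFinitePresentation)
  rw [finLocFree_eq]
  change (IsFinite _ ∧ Flat _) ∧ LocallyOfFinitePresentation _ ↔ _
  rw [h1, h2, h3, and_assoc]
  refine ⟨fun ⟨a, b, c⟩ => ?_, fun ⟨a, b, c⟩ => ?_⟩
  · rw [e1]
    exact ⟨(RingHom.Finite.of_surjective _ up.surjective).comp (a.comp (RingHom.Finite.of_surjective _ d.surjective)),
      ((RingHom.Flat.of_bijective d.bijective).comp b).comp (RingHom.Flat.of_bijective up.bijective),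
      (RingHom.FinitePresentation.of_bijective up.bijective).comp (c.comp (RingHom.FinitePresentation.of_bijective d.bijective))⟩
  · rw [e2]
    exact ⟨(RingHom.Finite.of_surjective _ up.symm.surjective).comp (a.comp (RingHom.Finite.of_surjective _ d.symm.surjective)),
      ((RingHom.Flat.of_bijective d.symm.bijective).comp b).comp (RingHom.Flat.of_bijective up.symm.bijective),
      (RingHom.FinitePresentation.of_bijective up.symm.bijective).comp (c.comp (RingHom.FinitePresentation.of_bijective d.symm.bijective))⟩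

theorem isAffine_bc (ha : IsAffineMor f) (E : EtOver Y) [IsAffine E.obj.left.left] :
    IsAffine ((EtOver.bc hf).obj E).obj.left.left := by
  have : IsAffineHom (hf.snd E.obj.hom).left :=
    (isAffineMor_iff.1 ha).property _ _ _ (hf.isPullback E.obj.hom)
  exact isAffine_of_isAffineHom (hf.snd E.obj.hom).left

theorem finitePresentation_flat_pushOne (h : IsFinLocFreeMor f) (E : EtOver Y) [IsAffine E.obj.left.left] :
    Module.FinitePresentation ((OEt Y).obj.obj (op E)) ((toPM (Rsh := OEt Y) (pushOne hf)).obj (op E)) ∧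
      Module.Flat ((OEt Y).obj.obj (op E)) ((toPM (Rsh := OEt Y) (pushOne hf)).obj (op E)) := by
  have hp : finLocFree (hf.snd E.obj.hom).left := h.property _ _ _ (hf.isPullback E.obj.hom)
  have : IsFinite (hf.snd E.obj.hom).left := (finLocFree_eq ▸ hp).1.1
  have : IsAffine ((EtOver.bc hf).obj E).obj.left.left := isAffine_of_isAffineHom (hf.snd E.obj.hom).left
  obtain ⟨h1, h2, h3⟩ := (finiteProps_iff hf E).1 hp
  let _ := (topHom hf E).toAlgebra
  have : Module.Finite ((OEt Y).obj.obj (op E)) ((OEt X).obj.obj (op ((EtOver.bc hf).obj E))) := h1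
  have : Module.Flat ((OEt Y).obj.obj (op E)) ((OEt X).obj.obj (op ((EtOver.bc hf).obj E))) := h2
  have : Algebra.FinitePresentation ((OEt Y).obj.obj (op E)) ((OEt X).obj.obj (op ((EtOver.bc hf).obj E))) := h3
  have := Module.FinitePresentation.of_finite_of_finitePresentation ((OEt Y).obj.obj (op E))
    ((OEt X).obj.obj (op ((EtOver.bc hf).obj E)))
  exact ⟨Module.FinitePresentation.of_equiv (pushOneEquiv hf E).symm,
    Module.Flat.of_linearEquiv (pushOneEquiv hf E)⟩

theorem exists_locallyFreeData (h : IsFinLocFreeMor f) :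
    IsAffineMor f ∧ ∃ q : SheafOfModules.LocalGeneratorsData.{u + 1} (pushOne hf),
      q.IsLocallyFreeData ∧ q.IsFiniteType := by
  obtain ⟨h1, -, -⟩ := repWith_finLocFree_iff.1 h
  have haff : IsAffineMor f :=
    isAffineMor_iff.2 (repWith_le (fun _ _ k (_ : IsFinite k) => inferInstanceAs (IsAffineHom k)) h1)
  have hM : IsBCEt (pushOne hf) := by
    intro E' E g hE' hE
    have : IsAffine E.obj.left.left := hE
    have : IsAffine E'.obj.left.left := hE'
    have : IsAffine ((EtOver.bc hf).obj E).obj.left.left := isAffine_bc hf haff E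
    have : (unitModEt X).IsQuasicoherent :=
      (isQuasicoherent_iff_isBCEt _).2 (isBCMod_unit (Rsh := OEt X) (A := etAff X))
    exact isBC_push hf (unitModEt X) g inferInstance inferInstance
  let M := toPM (Rsh := OEt Y) (pushOne hf)
  let I := { E : EtOver Y // IsAffine E.obj.left.left ∧ Module.Free ((OEt Y).obj.obj (op E)) (M.obj (op E)) ∧
    Module.Finite ((OEt Y).obj.obj (op E)) (M.obj (op E)) }
  have key : ∀ i : I, ∃ G : ((pushOne hf).over i.1).GeneratingSections, Finite G.I ∧ IsIso G.π := fun i => by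
    have : Module.Free (((OEt Y).over i.1).obj.obj (op (Over.mk (𝟙 i.1))))
        ((toPM (Rsh := (OEt Y).over i.1) ((pushOne hf).over i.1)).obj (op (Over.mk (𝟙 i.1)))) := i.2.2.1
    have : Module.Finite (((OEt Y).over i.1).obj.obj (op (Over.mk (𝟙 i.1))))
        ((toPM (Rsh := (OEt Y).over i.1) ((pushOne hf).over i.1)).obj (op (Over.mk (𝟙 i.1)))) := i.2.2.2
    exact exists_free_generators (Rsh := (OEt Y).over i.1) (A := (etAff Y).over i.1) Over.mkIdTerminal i.2.1
      (fun Z E g hZ hE => hM g.left hZ hE)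
  choose G hGf hGi using key
  suffices hcov : (etTop Y).CoversTop fun i : I => i.1 by
    let q : SheafOfModules.LocalGeneratorsData.{u + 1} (pushOne hf) :=
      SheafOfModules.LocalGeneratorsData.mk (M := pushOne hf) I (fun i => i.1) hcov G
    exact ⟨haff, q, (SheafOfModules.LocalGeneratorsData.IsLocallyFreeData.mk (q := q) hGi), (SheafOfModules.LocalGeneratorsData.IsFiniteType.mk (p := q) fun i => ⟨hGf i⟩)⟩
  intro E₀
  refine mem_etTop_of_forall_point _ fun x => ?_
  obtain ⟨_, ⟨V, hV, rfl⟩, hxV, -⟩ :=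
    E₀.obj.left.left.isBasis_affineOpens.exists_subset_of_mem_open (Set.mem_univ x) isOpen_univ
  let E := etOpen E₀ V
  have hE : IsAffine E.obj.left.left := hV
  obtain ⟨hfp, hfl⟩ := finitePresentation_flat_pushOne hf h E
  let x' : E.obj.left.left := ⟨x, hxV⟩
  let p : PrimeSpectrum ((OEt Y).obj.obj (op E)) :=
    PrimeSpectrum.comap ULift.ringEquiv.toRingHom (E.obj.left.left.toSpecΓ x')
  obtain ⟨s, hs, hfree⟩ := exists_free_baseChange (M.obj (op E)) p
  let D := etOpen E (E.obj.left.left.basicOpen s.down)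
  have hD : IsAffine D.obj.left.left := (isAffineOpen_top E.obj.left.left).basicOpen s.down
  have hbc : IsBC M (etOpenι E (E.obj.left.left.basicOpen s.down)) := hM _ hD hE
  have := hfree (RingOf (OEt Y).obj (etOpenι E (E.obj.left.left.basicOpen s.down))) (isUnit_OEt_map_open E s)
  have hx' : x' ∈ E.obj.left.left.basicOpen s.down := by
    by_contra hc
    apply hs
    change s.down ∈ (E.obj.left.left.toSpecΓ x').asIdeal
    by_contra hc'
    exact hc ((Scheme.toSpecΓ_preimage_basicOpen E.obj.left.left s.down).le hc')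
  refine ⟨D, etOpenι E _ ≫ etOpenι E₀ V, ⟨x', hx'⟩, ⟨⟨D, hD, free_of_bc M hbc, finite_of_bc M hbc⟩, ⟨𝟙 _⟩⟩, rfl⟩

theorem isFinLocFreeMor_of_locallyFreeData (hY : IsAlgSpace Y) (ha : IsAffineMor f)
    (q : SheafOfModules.LocalGeneratorsData.{u + 1} (pushOne hf)) [q.IsLocallyFreeData] [q.IsFiniteType] :
    IsFinLocFreeMor f := by
  have hM : IsBCEt (pushOne hf) := (isQuasicoherent_iff_isBCEt _).1 q.quasiCoherentData.isQuasicoherent
  let M := toPM (Rsh := OEt Y) (pushOne hf)
  obtain ⟨ι, T, a, hT, hae, -, hac⟩ := exists_affine_family hY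
  have key : ∀ i, finLocFree (hf.snd (a i)).left := fun i => by
    let E : EtOver Y := EtOver.mk (a i) (hae i)
    have hE : IsAffine E.obj.left.left := hT i
    have := isAffine_bc hf ha E
    obtain ⟨U, hU⟩ := exists_affCov (A := etAff Y) hE (q.coversTop E)
    have hloc : ∀ k, Module.Free ((OEt Y).obj.obj (op (U.Z k))) (M.obj (op (U.Z k))) ∧
        Module.Finite ((OEt Y).obj.obj (op (U.Z k))) (M.obj (op (U.Z k))) := fun k => by
      obtain ⟨j, ⟨b⟩⟩ := hU k
      have : (q.generators j).IsFiniteType := SheafOfModules.LocalGeneratorsData.IsFiniteType.isFiniteType j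
      have : IsIso (q.generators j).π := SheafOfModules.LocalGeneratorsData.IsLocallyFreeData.isIso j
      exact free_sections_of_iso (Rsh := (OEt Y).over (q.X j)) (asIso (q.generators j).π) (Over.mk b)
    have : ∀ k, Module.Flat ((OEt Y).obj.obj (op E)) (RingOf (OEt Y).obj (U.z k)) :=
      fun k => (etAff Y).flat _ hE (U.affZ k)
    obtain ⟨hfin, hproj⟩ := finite_projective_of_family (M.obj (op E)) (fun k => RingOf (OEt Y).obj (U.z k))
      (fun p => U.surj p) (fun k => (finite_free_tensor_of_bc M (hM _ (U.affZ k) hE) (hloc k).1 (hloc k).2).1)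
      (fun k => (finite_free_tensor_of_bc M (hM _ (U.affZ k) hE) (hloc k).1 (hloc k).2).2)
    let _ := (topHom hf E).toAlgebra
    have hfinB : Module.Finite ((OEt Y).obj.obj (op E)) ((OEt X).obj.obj (op ((EtOver.bc hf).obj E))) :=
      Module.Finite.equiv (pushOneEquiv hf E)
    have hprojB : Module.Projective ((OEt Y).obj.obj (op E)) ((OEt X).obj.obj (op ((EtOver.bc hf).obj E))) :=
      Module.Projective.of_equiv (pushOneEquiv hf E)
    have : Module.FinitePresentation ((OEt Y).obj.obj (op E)) ((OEt X).obj.obj (op ((EtOver.bc hf).obj E))) :=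
      Module.finitePresentation_of_projective _ _
    have hflatB : Module.Flat ((OEt Y).obj.obj (op E)) ((OEt X).obj.obj (op ((EtOver.bc hf).obj E))) :=
      inferInstance
    exact (finiteProps_iff hf E).2 ⟨hfinB, hflatB,
      (Algebra.FinitePresentation.of_finitePresentation ((OEt Y).obj.obj (op E))
        ((OEt X).obj.obj (op ((EtOver.bc hf).obj E))) :)⟩
  have desc : ∀ (P : MorphismProperty Scheme.{u}) [P.IsStableUnderBaseChange] [IsZariskiLocalAtTarget P]
      [P.DescendsAlong Groth.Agent.H18Descent.fpqc.{u}], (∀ i, P (hf.snd (a i)).left) → RepWith P f := by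
    intro P _ _ _ hP
    refine repWith_of_fpqc_rep hf fun Z hZ x => ?_
    obtain ⟨m, W, c, haff, hflat, hsurj, hlift⟩ := (isFpqcCover_of_etale_family hae hac).2 Z hZ x
    refine ⟨m, W, c, haff, hflat, hsurj, fun j => ?_⟩
    obtain ⟨i, l, hl⟩ := hlift j
    have : RepWith P ((yon S).map (hf.snd (a i))) := (repWith_yon_map_iff P _).2 (hP i)
    obtain ⟨V, v, b, sqV⟩ := this.1 l
    refine ⟨V, v, b ≫ hf.fst (a i), ?_, this.2 l b v sqV⟩
    rw [← hl]
    exact sqV.paste_horiz (hf.isPullback (a i))
  have k' : ∀ i, (IsFinite (hf.snd (a i)).left ∧ Flat (hf.snd (a i)).left) ∧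
      LocallyOfFinitePresentation (hf.snd (a i)).left := fun i => (finLocFree_eq ▸ key i :)
  exact repWith_finLocFree_iff.2 ⟨desc @IsFinite fun i => (k' i).1.1, desc @Flat fun i => (k' i).1.2,
    desc @LocallyOfFinitePresentation fun i => (k' i).2⟩

end Groth.Agent.H12AlgSp.BCMod
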