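import Groth.Agent.H12AlgSp.BCMod.SubSheaf
import Mathlib.RingTheory.Smooth.IntegralClosure
import Mathlib.RingTheory.RingHom.Etale
import Mathlib.AlgebraicGeometry.Morphisms.Etale
import Mathlib.Algebra.Category.ModuleCat.Sheaf.ChangeOfRings

/-!
Integral closure of the structure sheaf in a quasi-coherent sheaf of algebras on the small etale site.
-/

set_option backward.isDefEq.respectTransparency false

universe u

open CategoryTheory CategoryTheory.Limits AlgebraicGeometry Opposite
open AlgSp Groth.Agent.H12AlgSp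
open scoped TensorProduct

namespace Groth.Agent.H12AlgSp.BCMod

variable {S : Scheme.{u}} {X : Sp S}

theorem etale_map {Z E : EtOver X} (g : Z ⟶ E) (hZ : IsAffine Z.obj.left.left) (hE : IsAffine E.obj.left.left) :
    ((OEt X).obj.map g.op).hom.Etale := by
  have := EtOver.etale_left g
  have h : g.hom.left.left.appTop.hom.Etale :=
    (HasRingHomProperty.iff_of_isAffine (P := @Etale)).1 inferInstance
  let d : ULift.{u + 1} Γ(E.obj.left.left, ⊤) →+* Γ(E.obj.left.left, ⊤) := ULift.ringEquiv.toRingHom
  let up : Γ(Z.obj.left.left, ⊤) →+* ULift.{u + 1} Γ(Z.obj.left.left, ⊤) := ULift.ringEquiv.symm.toRingHom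
  have hd : d.Etale := RingHom.Etale.of_bijective ULift.ringEquiv.bijective
  have hup : up.Etale := RingHom.Etale.of_bijective ULift.ringEquiv.symm.bijective
  have h1 : (g.hom.left.left.appTop.hom.comp d).Etale := by
    algebraize [d, g.hom.left.left.appTop.hom, g.hom.left.left.appTop.hom.comp d]
    exact RingHom.etale_algebraMap.2 (Algebra.Etale.comp (ULift.{u + 1} Γ(E.obj.left.left, ⊤))
      Γ(E.obj.left.left, ⊤) Γ(Z.obj.left.left, ⊤))
  algebraize [g.hom.left.left.appTop.hom.comp d, up, up.comp (g.hom.left.left.appTop.hom.comp d)]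
  exact (RingHom.etale_algebraMap.2 (Algebra.Etale.comp (ULift.{u + 1} Γ(E.obj.left.left, ⊤))
    Γ(Z.obj.left.left, ⊤) (ULift.{u + 1} Γ(Z.obj.left.left, ⊤))) :)

variable (A : EtSh X CommRingCat.{u + 1}) (φ : OEt X ⟶ A)

/-- An algebra as a module. -/
noncomputable abbrev algMod : ModEt X :=
  (SheafOfModules.restrictScalars
    ((sheafCompose (etTop X) (forget₂ CommRingCat.{u + 1} RingCat.{u + 1})).map φ)).obj
    (SheafOfModules.unit ((sheafCompose (etTop X) (forget₂ CommRingCat.{u + 1} RingCat.{u + 1})).obj A))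

/-- A section of the module as an element of the algebra. -/
def toAlg {E : EtOver X} (x : (pm (algMod A φ)).obj (op E)) : A.obj.obj (op E) := x

/-- An element of the algebra as a section of the module. -/
def ofAlg {E : EtOver X} (x : A.obj.obj (op E)) : (pm (algMod A φ)).obj (op E) := x

theorem toAlg_smul {E : EtOver X} (r : (OEt X).obj.obj (op E)) (x : (pm (algMod A φ)).obj (op E)) :
    toAlg A φ (r • x) = (φ.hom.app (op E)).hom r * toAlg A φ x := rfl

theorem toAlg_map {Z E : EtOver X} (g : Z ⟶ E) (x : (pm (algMod A φ)).obj (op E)) :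
    toAlg A φ (((pm (algMod A φ)).map g.op).hom x) = (A.obj.map g.op).hom (toAlg A φ x) := rfl

theorem map_phi {Z E : EtOver X} (g : Z ⟶ E) (r : (OEt X).obj.obj (op E)) :
    (φ.hom.app (op Z)).hom (((OEt X).obj.map g.op).hom r) = (A.obj.map g.op).hom ((φ.hom.app (op E)).hom r) :=
  congrArg (fun m => m.hom r) (φ.hom.naturality g.op)

theorem isIntegralElem_map {Z E : EtOver X} (g : Z ⟶ E) {x : A.obj.obj (op E)}
    (hx : (φ.hom.app (op E)).hom.IsIntegralElem x) :
    (φ.hom.app (op Z)).hom.IsIntegralElem ((A.obj.map g.op).hom x) := by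
  obtain ⟨p, hp, hpx⟩ := hx
  refine ⟨p.map ((OEt X).obj.map g.op).hom, hp.map _, ?_⟩
  rw [Polynomial.eval₂_map, show (φ.hom.app (op Z)).hom.comp ((OEt X).obj.map g.op).hom =
    (A.obj.map g.op).hom.comp (φ.hom.app (op E)).hom from RingHom.ext (map_phi A φ g),
    ← Polynomial.hom_eval₂, hpx, map_zero]

theorem isIntegralElem_mem_span (hM : IsBCEt (algMod A φ)) {Z E : EtOver X} (g : Z ⟶ E)
    (hZ : IsAffine Z.obj.left.left) (hE : IsAffine E.obj.left.left) (x : (pm (algMod A φ)).obj (op Z))
    (hx : (φ.hom.app (op Z)).hom.IsIntegralElem (toAlg A φ x)) :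
    x ∈ Submodule.span ((OEt X).obj.obj (op Z)) (((pm (algMod A φ)).map g.op).hom ''
      {y | (φ.hom.app (op E)).hom.IsIntegralElem (toAlg A φ y)}) := by
  let M := pm (algMod A φ)
  let R := (OEt X).obj.obj (op E)
  let R' := RingOf (OEt X).obj g
  let B := A.obj.obj (op E)
  let T := A.obj.obj (op Z)
  let : Algebra R B := (φ.hom.app (op E)).hom.toAlgebra
  let : Algebra R' T := (φ.hom.app (op Z)).hom.toAlgebra
  let : Algebra R T := ((φ.hom.app (op Z)).hom.comp ((OEt X).obj.map g.op).hom).toAlgebra
  have : IsScalarTower R R' T := IsScalarTower.of_algebraMap_eq fun _ => rfl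
  have : Algebra.Etale R R' := etale_map g hZ hE
  let m : B →ₐ[R] T :=
    { toRingHom := (A.obj.map g.op).hom
      commutes' := fun r => (map_phi A φ g r).symm }
  let e : R' ⊗[R] B →ₐ[R'] T := Algebra.TensorProduct.lift (Algebra.ofId R' T) m fun _ _ => mul_comm _ _
  let i : B →ₗ[R] Sec M (𝟙 E) :=
    { toFun := fun b => toSec M (𝟙 E) (ofAlg A φ b)
      map_add' := fun _ _ => rfl
      map_smul' := fun r b => by
        refine congrArg (fun s => toSec M (𝟙 E) (ofAlg A φ s)) (Algebra.smul_def r b) |>.trans ?_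
        change (φ.hom.app (op E)).hom r * b =
          (φ.hom.app (op E)).hom (((OEt X).obj.map (𝟙 E).op).hom r) * b
        rw [op_id, CategoryTheory.Functor.map_id]
        rfl }
  have he : Function.Bijective e := by
    have key : ∀ t, e t = toAlg A φ (ofSec M (ext M g (i.lTensor R' t))) := fun t => by
      induction t with
      | zero => rw [map_zero, map_zero, map_zero]; rfl
      | add a b ha hb => rw [map_add, map_add, map_add, ha, hb]; rfl
      | tmul b y =>
        rw [LinearMap.lTensor_tmul, ext_tmul]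
        exact Algebra.TensorProduct.lift_tmul _ _ _ _ _
    rw [show (e : _ → _) = fun t => toAlg A φ (ofSec M (ext M g (i.lTensor R' t))) from funext key]
    exact (hM g hZ hE).comp (LinearEquiv.lTensor _ (LinearEquiv.ofBijective i
      ⟨fun a b h => h, fun y => ⟨toAlg A φ (ofSec M y), rfl⟩⟩)).bijective
  let e' := AlgEquiv.ofBijective e he
  have hx' : IsIntegral R' (e'.symm (toAlg A φ x)) := (show IsIntegral R' (toAlg A φ x) from hx).map e'.symm
  obtain ⟨z, hz⟩ := (TensorProduct.toIntegralClosure_bijective_of_smooth (R := R) (S := R') (B := B)).2 ⟨_, hx'⟩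
  have hz' : x = ofAlg A φ (e (Algebra.TensorProduct.map (AlgHom.id R' R') (integralClosure R B).val z)) := by
    refine (congrArg (ofAlg A φ) ?_ : ofAlg A φ (toAlg A φ x) = _)
    rw [show Algebra.TensorProduct.map (AlgHom.id R' R') (integralClosure R B).val z = e'.symm (toAlg A φ x) from
      congrArg Subtype.val hz]
    exact (e'.apply_symm_apply _).symm
  rw [hz']
  clear hz hz'
  induction z with
  | zero => rw [map_zero, map_zero]; exact Submodule.zero_mem _
  | add a b ha hb => rw [map_add, map_add]; exact Submodule.add_mem _ ha hb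
  | tmul b y =>
    rw [Algebra.TensorProduct.map_tmul]
    rw [show e (AlgHom.id R' R' b ⊗ₜ[R] (integralClosure R B).val y) =
      algebraMap R' T b * m y.1 from Algebra.TensorProduct.lift_tmul _ _ _ _ _]
    exact Submodule.smul_mem _ (b : (OEt X).obj.obj (op Z)) (Submodule.subset_span ⟨ofAlg A φ y.1, y.2, rfl⟩)

/-- The integral elements as a submodule over affine objects. -/
noncomputable def intSub (hM : IsBCEt (algMod A φ)) : AffSub (algMod A φ) where
  obj E _ :=
    { carrier := {x | (φ.hom.app (op E)).hom.IsIntegralElem (toAlg A φ x)}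
      add_mem' := fun {a b} ha hb => RingHom.IsIntegralElem.add _ ha hb
      zero_mem' := RingHom.isIntegralElem_zero _
      smul_mem' := fun r x hx => RingHom.IsIntegralElem.mul _ (RingHom.isIntegralElem_map _) hx }
  res_mem g hZ hE x hx := isIntegralElem_map A φ g hx
  gen g hZ hE x hx := isIntegralElem_mem_span A φ hM g hZ hE x hx

variable (hM : IsBCEt (algMod A φ))

theorem mem_intSub {E : EtOver X} (x : A.obj.obj (op E)) :
    ofAlg A φ x ∈ (intSub A φ hM).sub.obj (op E) ↔ ∀ (E' : EtOver X) (_ : IsAffine E'.obj.left.left) (h : E' ⟶ E),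
      (φ.hom.app (op E')).hom.IsIntegralElem ((A.obj.map h.op).hom x) := Iff.rfl

/-- The subring of integral sections. -/
noncomputable def intRing (E : EtOver X) : Subring (A.obj.obj (op E)) where
  carrier := {x | ∀ (E' : EtOver X) (_ : IsAffine E'.obj.left.left) (h : E' ⟶ E),
      (φ.hom.app (op E')).hom.IsIntegralElem ((A.obj.map h.op).hom x)}
  zero_mem' E' _ h := by rw [map_zero]; exact RingHom.isIntegralElem_zero _
  one_mem' E' _ h := by rw [map_one]; exact RingHom.isIntegralElem_one _
  add_mem' ha hb E' hE' h := by rw [map_add]; exact RingHom.IsIntegralElem.add _ (ha E' hE' h) (hb E' hE' h)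
  mul_mem' ha hb E' hE' h := by rw [map_mul]; exact RingHom.IsIntegralElem.mul _ (ha E' hE' h) (hb E' hE' h)
  neg_mem' ha E' hE' h := by rw [map_neg]; exact RingHom.IsIntegralElem.neg _ (ha E' hE' h)

theorem map_intRing {E E' : EtOver X} (g : E' ⟶ E) (x : A.obj.obj (op E)) (hx : x ∈ intRing A φ E) :
    (A.obj.map g.op).hom x ∈ intRing A φ E' := fun E'' hE'' h => by
  have := hx E'' hE'' (h ≫ g)
  rwa [op_comp, A.obj.map_comp, CommRingCat.hom_comp, RingHom.comp_apply] at this

/-- The presheaf of integral sections. -/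
noncomputable def intPre : (EtOver X)ᵒᵖ ⥤ CommRingCat.{u + 1} where
  obj E := CommRingCat.of (intRing A φ E.unop)
  map {E E'} g := CommRingCat.ofHom (((A.obj.map g).hom.comp (intRing A φ E.unop).subtype).codRestrict
    (intRing A φ E'.unop) fun x => map_intRing A φ g.unop x.1 x.2)
  map_id E := CommRingCat.hom_ext (RingHom.ext fun x => Subtype.ext
    (congrArg (fun m => m.hom x.1) (A.obj.map_id E)))
  map_comp f g := CommRingCat.hom_ext (RingHom.ext fun x => Subtype.ext
    (congrArg (fun m => m.hom x.1) (A.obj.map_comp f g)))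

include hM in
theorem isSheaf_intPre : Presheaf.IsSheaf (etTop X) (intPre A φ) := by
  rw [Presheaf.isSheaf_iff_isSheaf_forget (etTop X) _ (CategoryTheory.forget CommRingCat.{u + 1}),
    isSheaf_iff_isSheaf_of_type]
  exact isSheaf_types (P := (intSub A φ hM).sub.toPresheafOfModules) ((intSub A φ hM).isSheaf hM)

/-- The sheaf of integral sections. -/
noncomputable def intSheaf : EtSh X CommRingCat.{u + 1} := ⟨intPre A φ, isSheaf_intPre A φ hM⟩

/-- The inclusion. -/
noncomputable def intIncl : intSheaf A φ hM ⟶ A :=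
  ObjectProperty.homMk { app := fun E => CommRingCat.ofHom (intRing A φ E.unop).subtype }

/-- The structure map. -/
noncomputable def intStr : OEt X ⟶ intSheaf A φ hM :=
  ObjectProperty.homMk
    { app := fun E => CommRingCat.ofHom ((φ.hom.app E).hom.codRestrict (intRing A φ E.unop)
        fun r E' _ h => by
          rw [← map_phi A φ h]
          exact RingHom.isIntegralElem_map _)
      naturality := fun E E' g => CommRingCat.hom_ext (RingHom.ext fun r => Subtype.ext (map_phi A φ g.unop r)) }

/-- The algebra of integral sections is the submodule of integral sections. -/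
noncomputable def intIso : (intSub A φ hM).toMod hM ≅ algMod (intSheaf A φ hM) (intStr A φ hM) :=
  (SheafOfModules.fullyFaithfulForget _).preimageIso <| PresheafOfModules.isoMk
    (fun E => LinearEquiv.toModuleIso (X₁ := ((intSub A φ hM).toMod hM).val.obj E)
      (X₂ := (algMod (intSheaf A φ hM) (intStr A φ hM)).val.obj E)
      { toFun := fun x => (⟨x.1, x.2⟩ : intRing A φ E.unop)
        map_add' := fun _ _ => rfl
        map_smul' := fun _ _ => rfl
        invFun := fun y => (⟨y.1, y.2⟩ : (intSub A φ hM).sub.obj E)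
        left_inv := fun _ => rfl
        right_inv := fun _ => rfl })
    (fun E E' g => by ext x; rfl)

theorem exists_integralClosure [(algMod A φ).IsQuasicoherent] :
    ∃ (A' : EtSh X CommRingCat.{u + 1}) (ι : A' ⟶ A) (φ' : OEt X ⟶ A'),
      φ' ≫ ι = φ ∧ (∀ E : EtOver X, Function.Injective (ι.hom.app (op E))) ∧
      (∀ E : EtOver X, IsAffine E.obj.left.left → ∀ x : A.obj.obj (op E),
        x ∈ Set.range (ι.hom.app (op E)) ↔ (φ.hom.app (op E)).hom.IsIntegralElem x) ∧
      (algMod A' φ').IsQuasicoherent := by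
  have hM : IsBCEt (algMod A φ) := (isQuasicoherent_iff_isBCEt _).1 inferInstance
  refine ⟨intSheaf A φ hM, intIncl A φ hM, intStr A φ hM, rfl, fun E => Subtype.val_injective,
    fun E hE x => ⟨?_, fun hx => ⟨⟨x, fun E' _ h => isIntegralElem_map A φ h hx⟩, rfl⟩⟩, ?_⟩
  · rintro ⟨y, rfl⟩
    have h := y.2 E hE (𝟙 E)
    rw [op_id, A.obj.map_id] at h
    exact h
  · rw [isQuasicoherent_iff_isBCEt]
    exact IsBCMod.of_iso (Rsh := OEt X) (intIso A φ hM) ((intSub A φ hM).isBC hM)

end Groth.Agent.H12AlgSp.BCMod
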