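import Groth.Agent.H12AlgSp.BCMod.QCoh
import Mathlib.Algebra.Category.ModuleCat.Sheaf.LocallyFree
import Mathlib.LinearAlgebra.Basis.Basic
import Mathlib.RingTheory.Finiteness.Basic

/-!
Finite free modules on a site with affine objects, and finite locally free modules from free sections.
-/

set_option backward.isDefEq.respectTransparency false

universe w v₁ u₁

open CategoryTheory CategoryTheory.Limits Opposite

namespace Groth.Agent.H12AlgSp.BCMod

variable {C : Type u₁} [Category.{v₁} C] {J : GrothendieckTopology C}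
  {Rsh : Sheaf J CommRingCat.{w}} [J.HasSheafCompose (forget₂ CommRingCat.{w} RingCat.{w})]
  [HasSheafify J AddCommGrpCat.{w}] [J.WEqualsLocallyBijective AddCommGrpCat.{w}]

section Free

variable (I : Type w) [Fintype I] [DecidableEq I] (Y : C)

/-- The projection of a free module to a coordinate. -/
noncomputable def projFree (j : I) : SheafOfModules.free (R := ringS Rsh) I ⟶ SheafOfModules.unit (ringS Rsh) :=
  Sigma.desc fun i => if i = j then 𝟙 _ else 0

theorem ιFree_projFree (i j : I) :
    SheafOfModules.ιFree i ≫ projFree (Rsh := Rsh) I j = if i = j then 𝟙 _ else 0 :=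
  Sigma.ι_desc _ _

theorem sum_proj_ι : ∑ j, projFree (Rsh := Rsh) I j ≫ SheafOfModules.ιFree j = 𝟙 _ := by
  refine Sigma.hom_ext _ _ fun i => ?_
  change SheafOfModules.ιFree i ≫ _ = SheafOfModules.ιFree i ≫ 𝟙 _
  rw [Category.comp_id, Preadditive.comp_sum, Finset.sum_eq_single i]
  · rw [← Category.assoc, ιFree_projFree, if_pos rfl, Category.id_comp]
  · intro j _ hj
    rw [← Category.assoc, ιFree_projFree, if_neg (Ne.symm hj), zero_comp]
  · exact fun h => absurd (Finset.mem_univ i) h

/-- The coordinates of a section of a free module. -/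
theorem exists_freeEquiv :
    ∃ e : (I → Rsh.obj.obj (op Y)) ≃ₗ[Rsh.obj.obj (op Y)]
        ((toPM (SheafOfModules.free (R := ringS Rsh) I)).obj (op Y)),
      ∀ c, e c = ∑ i, c i • (show (toPM (SheafOfModules.free (R := ringS Rsh) I)).obj (op Y) from
        (SheafOfModules.freeSection (R := ringS Rsh) i).1 (op Y)) := by
  let F := SheafOfModules.free (R := ringS Rsh) I
  let toL : Rsh.obj.obj (op Y) →ₗ[Rsh.obj.obj (op Y)] (toPM (SheafOfModules.unit (ringS Rsh))).obj (op Y) :=
    { toFun := fun r => r, map_add' := fun _ _ => rfl, map_smul' := fun _ _ => rfl }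
  let ofL : (toPM (SheafOfModules.unit (ringS Rsh))).obj (op Y) →ₗ[Rsh.obj.obj (op Y)] Rsh.obj.obj (op Y) :=
    { toFun := fun r => r, map_add' := fun _ _ => rfl, map_smul' := fun _ _ => rfl }
  let ιL : I → (Rsh.obj.obj (op Y) →ₗ[Rsh.obj.obj (op Y)] (toPM F).obj (op Y)) := fun i =>
    ((SheafOfModules.ιFree (R := ringS Rsh) i).val.app (op Y)).hom.comp toL
  let pL : I → ((toPM F).obj (op Y) →ₗ[Rsh.obj.obj (op Y)] Rsh.obj.obj (op Y)) := fun j =>
    ofL.comp ((projFree I j).val.app (op Y)).hom
  have h1 : ∀ i j r, pL j (ιL i r) = if i = j then r else 0 := fun i j r => by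
    have h := congrArg (fun m => (m.val.app (op Y)).hom (toL r)) (ιFree_projFree (Rsh := Rsh) I i j)
    by_cases hij : i = j
    · rw [if_pos hij] at h ⊢
      exact h
    · rw [if_neg hij] at h ⊢
      exact h
  let ev : (F ⟶ F) →+ ((toPM F).obj (op Y) →+ (toPM F).obj (op Y)) :=
    { toFun := fun m => (m.val.app (op Y)).hom.toAddMonoidHom
      map_zero' := rfl
      map_add' := fun _ _ => rfl }
  have h2 : ∀ x, ∑ j, ιL j (pL j x) = x := fun x => by
    have h : ev (∑ j, projFree (Rsh := Rsh) I j ≫ SheafOfModules.ιFree j) x = ev (𝟙 F) x :=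
      congrArg (fun m => ev m x) (sum_proj_ι (Rsh := Rsh) I)
    rw [map_sum, AddMonoidHom.finset_sum_apply] at h
    exact h
  have h3 : ∀ i r, ιL i r = r • (show (toPM F).obj (op Y) from
      (SheafOfModules.freeSection (R := ringS Rsh) i).1 (op Y)) := fun i r => by
    have : ιL i r = r • ιL i 1 := by rw [← map_smul, smul_eq_mul, mul_one]
    rw [this]
    congr 1
  let e : (I → Rsh.obj.obj (op Y)) ≃ₗ[Rsh.obj.obj (op Y)] (toPM F).obj (op Y) :=
    { toFun := fun c => ∑ i, ιL i (c i)
      map_add' := fun c d => by simp only [Pi.add_apply, map_add, Finset.sum_add_distrib]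
      map_smul' := fun a c => by simp only [Pi.smul_apply, map_smul, RingHom.id_apply, Finset.smul_sum]
      invFun := fun x j => pL j x
      left_inv := fun c => funext fun j => by
        dsimp only
        rw [map_sum]
        simp only [h1]
        rw [Finset.sum_ite_eq' Finset.univ j c, if_pos (Finset.mem_univ j)]
      right_inv := h2 }
  exact ⟨e, fun c => Finset.sum_congr rfl fun i _ => h3 i (c i)⟩

end Free

variable {M : SheafOfModules.{w} (ringS Rsh)}

/-- A module isomorphic to a finite free module has free finite sections. -/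
theorem free_sections_of_iso {I : Type w} [Finite I] (e : SheafOfModules.free (R := ringS Rsh) I ≅ M) (Y : C) :
    Module.Free (Rsh.obj.obj (op Y)) ((toPM M).obj (op Y)) ∧
      Module.Finite (Rsh.obj.obj (op Y)) ((toPM M).obj (op Y)) := by
  classical
  have : Fintype I := Fintype.ofFinite I
  obtain ⟨u, -⟩ := exists_freeEquiv (Rsh := Rsh) I Y
  let b := (Pi.basisFun (Rsh.obj.obj (op Y)) I).map
    (u.trans (((SheafOfModules.forget _ ⋙ PresheafOfModules.evaluation _ (op Y)).mapIso e).toLinearEquiv))
  exact ⟨Module.Free.of_basis b, Module.Finite.of_basis b⟩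

variable {A : AffSite J Rsh.obj} {T : C} (hT : IsTerminal T) (hA : A.aff T)

include hT hA in
/-- A finite basis over an affine terminal object trivializes the module. -/
theorem isIso_of_basis (hM : IsBCMod A M) {I : Type w} [Fintype I] [DecidableEq I]
    (b : Module.Basis I (Rsh.obj.obj (op T)) ((toPM M).obj (op T))) :
    IsIso ((M.freeHomEquiv (I := I)).symm fun i => secT hT (b i)) := by
  let π := (M.freeHomEquiv (I := I)).symm fun i => secT hT (b i)
  have hT' : Function.Bijective (π.val.app (op T)).hom := by
    obtain ⟨u, hu⟩ := exists_freeEquiv (Rsh := Rsh) I T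
    have h : ∀ c, (π.val.app (op T)).hom (u c) = b.equivFun.symm c := fun c => by
      rw [hu, Module.Basis.equivFun_symm_apply]
      refine (map_sum (π.val.app (op T)).hom _ _).trans (Finset.sum_congr rfl fun i _ => ?_)
      refine ((π.val.app (op T)).hom.map_smul _ _).trans (congrArg (fun y : (toPM M).obj (op T) => c i • y) ?_)
      have h1 : ((SheafOfModules.sectionsMap π (SheafOfModules.freeSection i)).1 (op T) :
          (toPM M).obj (op T)) = (secT hT (b i)).1 (op T) :=
        congrArg (fun s : M.sections => s.1 (op T))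
          (SheafOfModules.sectionsMap_freeHomEquiv_symm_freeSection (fun i => secT hT (b i)) i)
      refine h1.trans ?_
      change (M.val.map (hT.from T).op).hom (b i) = b i
      rw [hT.hom_ext (hT.from T) (𝟙 T), op_id, M.val.map_id]
      rfl
    have : ((π.val.app (op T)).hom : _ → _) = b.equivFun.symm ∘ u.symm := funext fun x => by
      rw [Function.comp_apply, ← h, u.apply_symm_apply]
    rw [this]
    exact b.equivFun.symm.bijective.comp u.symm.bijective
  have haff : ∀ Y, A.aff Y → Function.Bijective (π.val.app (op Y)).hom := fun Y hY => by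
    let g := hT.from Y
    let φ : toPM (SheafOfModules.free (R := ringS Rsh) I) ⟶ toPM M := π.val
    have h1 : Function.Bijective ((secMap φ (𝟙 T)).lTensor (RingOf Rsh.obj g)) :=
      (LinearEquiv.lTensor _ (LinearEquiv.ofBijective (secMap φ (𝟙 T)) hT')).bijective
    have h2 : Function.Bijective (secMap φ g ∘ ext (toPM (SheafOfModules.free (R := ringS Rsh) I)) g) := by
      rw [show secMap φ g ∘ ext (toPM (SheafOfModules.free (R := ringS Rsh) I)) g =
        ext (toPM M) g ∘ (secMap φ (𝟙 T)).lTensor (RingOf Rsh.obj g) from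
          funext fun t => (congrArg (fun m => m.hom t) ((extNat Rsh.obj g).naturality φ)).symm]
      exact (hM g hY hA).comp h1
    exact (Function.Bijective.of_comp_iff _ ((IsBCMod.free (Rsh := Rsh) (A := A) I) g hY hA)).1 h2
  have hi : Sheaf.IsLocallyInjective ((SheafOfModules.toSheaf _).map π) := by
    refine ⟨fun {Y} x y e => ?_⟩
    obtain ⟨R, hR, hfac⟩ := A.exists_affine_cover Y.unop
    refine J.superset_covering (fun V f hf => ?_) hR
    obtain ⟨B, p, q, hB, rfl⟩ := hfac f hf
    refine Presheaf.equalizerSieve (F := (toPM (SheafOfModules.free (R := ringS Rsh) I)).presheaf) x y |>.downward_closed ?_ p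
    refine (haff B hB).1 ?_
    exact (PresheafOfModules.naturality_apply π.val q.op x).trans
      ((congrArg (M.val.map q.op).hom e).trans (PresheafOfModules.naturality_apply π.val q.op y).symm)
  have hs : Sheaf.IsLocallySurjective ((SheafOfModules.toSheaf _).map π) := by
    refine ⟨fun {Y} x => ?_⟩
    obtain ⟨R, hR, hfac⟩ := A.exists_affine_cover Y
    refine J.superset_covering (fun V f hf => ?_) hR
    obtain ⟨B, p, q, hB, rfl⟩ := hfac f hf
    refine (Presheaf.imageSieve _ x).downward_closed ?_ p
    obtain ⟨y, hy⟩ := (haff B hB).2 ((M.val.map q.op).hom x)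
    exact ⟨y, hy⟩
  have hiso : IsIso ((SheafOfModules.toSheaf _).map π) := (Sheaf.isLocallyBijective_iff_isIso _).1 ⟨hi, hs⟩
  exact isIso_of_reflects_iso π (SheafOfModules.toSheaf _)

include hT hA in
/-- Finite free sections over an affine terminal object give free generating sections. -/
theorem exists_free_generators (hM : IsBCMod A M) [Module.Free (Rsh.obj.obj (op T)) ((toPM M).obj (op T))]
    [Module.Finite (Rsh.obj.obj (op T)) ((toPM M).obj (op T))] :
    ∃ G : M.GeneratingSections, Finite G.I ∧ IsIso G.π := by
  classical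
  rcases subsingleton_or_nontrivial (Rsh.obj.obj (op T)) with h | h
  · have : Subsingleton ((toPM M).obj (op T)) := Module.subsingleton (Rsh.obj.obj (op T)) _
    let b : Module.Basis PEmpty.{w + 1} (Rsh.obj.obj (op T)) ((toPM M).obj (op T)) := Module.Basis.empty _
    have := isIso_of_basis hT hA hM b
    exact ⟨⟨_, fun i => secT hT (b i), inferInstance⟩, inferInstanceAs (Finite PEmpty.{w + 1}), this⟩
  · let b := Module.Free.chooseBasis (Rsh.obj.obj (op T)) ((toPM M).obj (op T))
    have := isIso_of_basis hT hA hM b
    exact ⟨⟨_, fun i => secT hT (b i), inferInstance⟩, inferInstanceAs (Finite (Module.Free.ChooseBasisIndex _ _)), this⟩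

end Groth.Agent.H12AlgSp.BCMod
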