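import Groth.Agent.H12AlgSp.BCMod.Sheaves
import Mathlib.CategoryTheory.Sites.Over
import Mathlib.Algebra.Category.ModuleCat.Sheaf.Quasicoherent

/-!
The slice sites of a site with affine objects.
-/

set_option backward.isDefEq.respectTransparency false

universe w v₁ u₁

open CategoryTheory CategoryTheory.Limits Opposite

namespace Groth.Agent.H12AlgSp.BCMod

variable {C : Type u₁} [Category.{v₁} C] {J : GrothendieckTopology C} {Rc : Cᵒᵖ ⥤ CommRingCat.{w}}

/-- The slice of a site with affine objects. -/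
noncomputable def AffSite.over (A : AffSite J Rc) (X : C) : AffSite (J.over X) ((Over.forget X).op ⋙ Rc) where
  aff Y := A.aff Y.left
  exists_pullback {E Z₁ Z₂} g₁ g₂ hE h₁ h₂ := by
    obtain ⟨W, p₁, p₂, hW, sq, po⟩ := A.exists_pullback g₁.left g₂.left hE h₁ h₂
    let p₁' : Over.mk (p₁ ≫ Z₁.hom) ⟶ Z₁ := Over.homMk p₁ rfl
    let p₂' : Over.mk (p₁ ≫ Z₁.hom) ⟶ Z₂ := Over.homMk p₂ (by
      change p₂ ≫ Z₂.hom = p₁ ≫ Z₁.hom
      rw [← Over.w g₁, ← Over.w g₂, ← Category.assoc, ← sq.w, Category.assoc])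
    refine ⟨Over.mk (p₁ ≫ Z₁.hom), p₁', p₂', hW, ⟨⟨Over.OverMorphism.ext sq.w⟩, ⟨PullbackCone.IsLimit.mk _
      (fun s => Over.homMk (sq.lift s.fst.left s.snd.left (congrArg (fun m => m.left) s.condition)) (by
        change sq.lift _ _ _ ≫ p₁ ≫ Z₁.hom = _
        rw [sq.lift_fst_assoc, Over.w]))
      (fun s => Over.OverMorphism.ext (sq.lift_fst _ _ _))
      (fun s => Over.OverMorphism.ext (sq.lift_snd _ _ _))
      (fun s m h1 h2 => Over.OverMorphism.ext (sq.hom_ext
        ((congrArg (fun m => m.left) h1).trans (sq.lift_fst _ _ _).symm)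
        ((congrArg (fun m => m.left) h2).trans (sq.lift_snd _ _ _).symm)))⟩⟩, po⟩
  flat g hE hZ := A.flat g.left hE hZ
  exists_refine {E} R hE hR := by
    obtain ⟨κ, hκ, Z, z, hZ, hzR, hcov, hsur⟩ :=
      A.exists_refine (Sieve.overEquiv E R) hE (J.mem_over_iff R |>.1 hR)
    refine ⟨κ, hκ, fun i => Over.mk (z i ≫ E.hom), fun i => Over.homMk (z i) rfl, hZ, fun i => ?_, ?_, hsur⟩
    · exact (Sieve.overEquiv_iff R _).1 (hzR i)
    · rw [GrothendieckTopology.mem_over_iff, Sieve.overEquiv_ofArrows]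
      exact hcov
  exists_affine_cover Y := by
    obtain ⟨R, hR, h⟩ := A.exists_affine_cover Y.left
    refine ⟨(Sieve.overEquiv Y).symm R, J.overEquiv_symm_mem_over Y R hR, fun V f hf => ?_⟩
    obtain ⟨B, a, b, hB, hab⟩ := h f.left ((Sieve.overEquiv_symm_iff R f).1 hf)
    refine ⟨Over.mk (b ≫ Y.hom), Over.homMk a (by
      change a ≫ b ≫ Y.hom = V.hom
      rw [← Category.assoc, hab, Over.w]), Over.homMk b rfl, hB, Over.OverMorphism.ext hab⟩

variable (Rsh : Sheaf J CommRingCat.{w}) [J.HasSheafCompose (forget₂ CommRingCat.{w} RingCat.{w})]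

/-- Base change over a slice is base change downstairs. -/
theorem isBC_over_iff (M : SheafOfModules.{w} (ringS Rsh)) (X : C) {Z E : Over X} (g : Z ⟶ E) :
    IsBC (Rc := (Over.forget X).op ⋙ Rsh.obj) (M.over X).val g ↔ IsBC (toPM M) g.left := Iff.rfl

end Groth.Agent.H12AlgSp.BCMod
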