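import Groth.Agent.H12AlgSp.BCMod.EtSite
import Groth.Agent.H12AlgSp.BCMod.FinLocFreeSp
import Groth.Agent.H12AlgSp.BCMod.ProjLocal
import Groth.Agent.H12AlgSp.EtRestrictMod
import Groth.Prelude.Def_AlgSpModX

/-!
Projectivity of the sections of quasi-coherent modules over the affine objects of the small etale site.
-/

set_option backward.isDefEq.respectTransparency false
set_option linter.style.haveILetI false

universe u

open CategoryTheory CategoryTheory.Limits AlgebraicGeometry Opposite TopologicalSpace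
open AlgSp Groth.Agent.H12AlgSp

open scoped TensorProduct

namespace Groth.Agent.H12AlgSp.BCMod

/-- Projectivity is detected after a covering family of flat algebras. -/
theorem projective_of_family {R : Type u} [CommRing R] (M : Type u) [AddCommGroup M] [Module R M]
    {κ : Type} [Finite κ] (R' : κ → Type u) [∀ k, CommRing (R' k)] [∀ k, Algebra R (R' k)]
    [∀ k, Module.Flat R (R' k)]
    (hsurj : ∀ p : PrimeSpectrum R, ∃ k q, PrimeSpectrum.comap (algebraMap R (R' k)) q = p)
    (hproj : ∀ k, Module.Projective (R' k) (R' k ⊗[R] M)) : Module.Projective R M := by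
  classical
  have : Fintype κ := Fintype.ofFinite κ
  let A := ∀ k, R' k
  have : Module.Flat R A := Module.Flat.of_linearEquiv (DirectSum.linearEquivFunOnFintype R κ R').symm
  have : Module.FaithfullyFlat R A := Module.FaithfullyFlat.of_comap_surjective fun p => by
    obtain ⟨k, q, hq⟩ := hsurj p
    refine ⟨PrimeSpectrum.comap (Pi.evalRingHom R' k) q, ?_⟩
    rw [← hq]
    rfl
  let e₀ : A ⊗[R] M ≃ₗ[R] ∀ k, R' k ⊗[R] M := TensorProduct.piLeft R _ _
  have he : ∀ (a : A) t, e₀ (a • t) = fun k => a k • e₀ t k := fun a t => by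
    induction t with
    | zero => funext k; simp
    | add x y hx hy => simp [hx, hy, smul_add]; rfl
    | tmul b m =>
      funext k
      rw [TensorProduct.smul_tmul', smul_eq_mul]
      simp [e₀, TensorProduct.smul_tmul', A, Pi.mul_apply]
  let e : A ⊗[R] M ≃ₗ[A] ∀ k, R' k ⊗[R] M :=
    { e₀ with map_smul' := fun a t => (he a t).trans rfl }
  have hP : Module.Projective A (∀ k, R' k ⊗[R] M) := projective_pi_family R' _
  have : Module.Projective A (A ⊗[R] M) := Module.Projective.of_equiv e.symm
  exact Groth.Agent.H1CAlg.projective_of_baseChange R A M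

/-- Projectivity transports along a semilinear equivalence over an equivalence of rings. -/
theorem projective_iff_semilinear {R R' M M' : Type*} [Ring R] [Ring R'] [AddCommGroup M] [Module R M]
    [AddCommGroup M'] [Module R' M'] (σ : R ≃+* R') (e : M ≃+ M') (he : ∀ r x, e (r • x) = σ r • e x) :
    Module.Projective R M ↔ Module.Projective R' M' := by
  let _ : RingHomInvPair (σ : R →+* R') (σ.symm : R' →+* R) := RingHomInvPair.of_ringEquiv σ
  let _ : RingHomInvPair (σ.symm : R' →+* R) (σ : R →+* R') := RingHomInvPair.of_ringEquiv σ.symm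
  let l : M ≃ₛₗ[(σ : R →+* R')] M' := { e with map_smul' := he }
  exact ⟨fun _ => Module.Projective.of_equiv l, fun _ => Module.Projective.of_equiv l.symm⟩

variable {S : Scheme.{u}} {X : Sp S}

/-- The sections of a module over an object form a projective module. -/
def SecProj (F : ModEt X) (E : EtOver X) : Prop :=
  Module.Projective ((OEt X).obj.obj (op E)) ((toPM (Rsh := OEt X) F).obj (op E))

/-- Projectivity of sections passes along maps of affine objects. -/
theorem secProj_tensor {F : ModEt X} (hF : IsBCEt F) {Z E' : EtOver X} (q : Z ⟶ E')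
    (hZ : IsAffine Z.obj.left.left) (hE' : IsAffine E'.obj.left.left) (h : SecProj F E') : SecProj F Z := by
  have hq := hF q hZ hE'
  let R₀ := (OEt X).obj.obj (op E')
  let M₀ := (toPM (Rsh := OEt X) F).obj (op E')
  have : Module.Projective R₀ M₀ := h
  have h1 : Module.Projective (RingOf (OEt X).obj q) (RingOf (OEt X).obj q ⊗[R₀] M₀) := inferInstance
  exact (Module.Projective.of_equiv (bcEquiv (toPM (Rsh := OEt X) F) hq) :)

/-- Projectivity of sections over an affine object is detected on a covering family. -/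
theorem secProj_of_cover {F : ModEt X} (hF : IsBCEt F) {E : EtOver X} (hE : IsAffine E.obj.left.left)
    {κ : Type} [Finite κ] (Z : κ → EtOver X) (z : ∀ i, Z i ⟶ E) (hZ : ∀ i, IsAffine (Z i).obj.left.left)
    (hcov : ∀ p : PrimeSpectrum ((OEt X).obj.obj (op E)), ∃ (i : κ) (q : PrimeSpectrum ((OEt X).obj.obj (op (Z i)))),
      PrimeSpectrum.comap ((OEt X).obj.map (z i).op).hom q = p)
    (h : ∀ i, SecProj F (Z i)) : SecProj F E := by
  let R₀ := (OEt X).obj.obj (op E)
  let M₀ := (toPM (Rsh := OEt X) F).obj (op E)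
  have : ∀ i, Module.Flat R₀ (RingOf (OEt X).obj (z i)) := fun i => (etAff X).flat (z i) hE (hZ i)
  refine projective_of_family (R := R₀) M₀ (fun i => RingOf (OEt X).obj (z i)) hcov fun i => ?_
  have : Module.Projective (RingOf (OEt X).obj (z i)) (Sec (toPM (Rsh := OEt X) F) (z i)) := h i
  exact Module.Projective.of_equiv (bcEquiv (toPM (Rsh := OEt X) F) (hF (z i) (hZ i) hE)).symm

/-- A companion computes the sections of an isomorphic module over the opens. -/
theorem projective_companion_iff {T : Scheme.{u}} {G : T.Modules} {M M₁ : ModEtSch T} (α : M ≅ M₁)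
    (c : ZarCompanion T G M) (W : T.Opens) :
    Module.Projective ((OEtSchRing T).obj.obj (op (etaleOfOpen T W))) (M₁.val.obj (op (etaleOfOpen T W))) ↔
      Module.Projective (T.ringCatSheaf.obj.obj (Opposite.op W)) (G.val.obj (Opposite.op W)) := by
  let o : (T.Etale)ᵒᵖ := op (etaleOfOpen T W)
  let f : M.val.obj o ⟶ M₁.val.obj o := α.hom.val.app o
  let g : M₁.val.obj o ⟶ M.val.obj o := α.inv.val.app o
  have hfg : ∀ x, g.hom (f.hom x) = x := fun x =>
    congrArg (fun m : M ⟶ M => (m.val.app o).hom x) α.hom_inv_id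
  have hgf : ∀ x, f.hom (g.hom x) = x := fun x =>
    congrArg (fun m : M₁ ⟶ M₁ => (m.val.app o).hom x) α.inv_hom_id
  let e₁ : M₁.val.obj o ≃+ M.val.obj o :=
    { toFun := fun x => g.hom x, invFun := fun x => f.hom x, left_inv := hgf, right_inv := hfg
      map_add' := fun x y => map_add g.hom x y }
  let e₀ : M₁.val.obj o ≃+ G.val.obj (op W) := e₁.trans ((c.iso W).trans AddEquiv.ulift)
  let σ : Γ(T, W) ≃+* (OEtSchRing T).obj.obj o :=
    W.topIso.symm.commRingCatIsoToRingEquiv.trans ULift.ringEquiv.symm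
  refine (projective_iff_semilinear σ (M := G.val.obj (op W)) (M' := M₁.val.obj o) e₀.symm fun r x => ?_).symm
  obtain ⟨y, rfl⟩ := e₀.surjective x
  apply e₀.injective
  rw [AddEquiv.apply_symm_apply, AddEquiv.symm_apply_apply]
  symm
  change ((c.iso W) (g.hom ((ULift.up (W.topIso.inv r) : (OEtSchRing T).obj.obj o) • y))).down = _
  rw [map_smul g.hom, c.map_smul]
  rfl

section Chart

variable {U : Over S} (X : Space S) (p : (yon S).obj U ⟶ X.obj) (hp : IsEtaleMor p)

/-- An open of a chart as an object of the small etale site. -/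
noncomputable abbrev chartOpen (W : U.left.Opens) : EtOver X.obj :=
  (EtOver.postcomp p hp).obj ((EtOver.ofScheme U).obj (etaleOfOpen U.left W))

/-- A companion on the Zariski site of a chart computes the sections of the module. -/
theorem secProj_chartOpen_iff (hr : Representable p)
    [(SheafOfModules.pushforward.{u + 1} (bcRingHom hr)).IsRightAdjoint]
    (F : ModEt X.obj) (G : U.left.Modules)
    (c : ZarCompanion U.left G ((resSchModEt U).obj ((pullModEt hr).obj F))) (W : U.left.Opens) :
    SecProj F (chartOpen X p hp W) ↔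
      Module.Projective (U.left.ringCatSheaf.obj.obj (Opposite.op W)) (G.val.obj (Opposite.op W)) := by
  let φ : ((yon S).obj U) ⟶ X.obj := p
  let pS : (⟨(yon S).obj U, IsAlgSpace.yon_obj U⟩ : Space S) ⟶ X := ObjectProperty.homMk φ
  have := (S10234.result pS hp).1
  let α := (resSchModEt U).mapIso ((EtRes.pullIso pS hp hr).app F)
  exact projective_companion_iff α c W

/-- Projectivity on the affine opens of a surjective chart gives it over all affine objects. -/
theorem secProj_of_chart (hr : Representable p) (hs : RepWith @Surjective p) {F : ModEt X.obj} (hF : IsBCEt F)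
    (h : ∀ W : U.left.Opens, IsAffineOpen W → SecProj F (chartOpen X p hp W))
    (E : EtOver X.obj) (hE : IsAffine E.obj.left.left) : SecProj F E := by
  let R : Sieve E :=
    { arrows := fun Y _ => ∃ W : U.left.Opens, IsAffineOpen W ∧ Nonempty (Y ⟶ chartOpen X p hp W)
      downward_closed := fun {Y Y' f} ⟨W, hW, ⟨q⟩⟩ g => ⟨W, hW, ⟨g ≫ q⟩⟩ }
  have hR : R ∈ etTop X.obj E := by
    have hpt : ∀ x : E.obj.left.left, ∃ (Y : EtOver X.obj) (f : Y ⟶ E), R f ∧
        x ∈ Set.range f.hom.left.left := by
      intro x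
      obtain ⟨P, s, t', sq⟩ := hr E.obj.hom
      obtain ⟨t, rfl⟩ := (yon S).map_surjective t'
      have hse : Etale s.left := (repWith_yon_map_iff _ _).1
        (repWith_of_isPullback sq (Category.id_comp p ▸ hp (𝟙 _) (repWith_of_isIso _)))
      obtain ⟨u, hu⟩ := surjective_ofPt_of_repWith le_rfl hs (Points.ofPt E.obj.hom x)
      obtain ⟨z, hz₁, hz₂⟩ := exists_point_of_isPullback sq (Points.ofScheme U u) (Points.ofScheme E.obj.left x)
        ((Points.ofPt_eq_map_ofScheme p u).symm.trans (hu.trans (Points.ofPt_eq_map_ofScheme _ _)))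
      obtain ⟨z₀, rfl⟩ := (Points.schemeEquiv P).surjective z
      have hmap : ∀ {T : Over S} (a : P ⟶ T), Points.map ((yon S).map a) (Points.ofScheme P z₀) =
          Points.ofScheme T (a.left z₀) := fun {T} a => by
        have h := ofPt_map a (𝟙 ((yon S).obj T)) z₀
        rwa [Category.comp_id, Points.ofPt_eq_map_ofScheme, Points.ofPt_eq_map_ofScheme, Points.map_id] at h
      have ht : t.left z₀ = u := (Points.schemeEquiv U).injective ((hmap t).symm.trans hz₁)
      have hsx : s.left z₀ = x := (Points.schemeEquiv E.obj.left).injective ((hmap s).symm.trans hz₂)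
      obtain ⟨_, ⟨W, hW, rfl⟩, huW, -⟩ :=
        U.left.isBasis_affineOpens.exists_subset_of_mem_open (Set.mem_univ u) isOpen_univ
      let Y₀ : EtOver X.obj := EtOver.mk ((yon S).map s ≫ E.obj.hom)
        ((repWith_isMultiplicative (S := S) @Etale).comp_mem _ _ ((repWith_yon_map_iff _ _).2 hse) E.property)
      let Y := etOpen Y₀ (t.left ⁻¹ᵁ W)
      let f₀ : Y₀ ⟶ E := EtOver.homMk s rfl
      let w : (etOpen Y₀ (t.left ⁻¹ᵁ W)).obj.left ⟶ (chartOpen X p hp W).obj.left :=
        Over.homMk (t.left.resLE W (t.left ⁻¹ᵁ W) le_rfl) (by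
          change t.left.resLE W (t.left ⁻¹ᵁ W) le_rfl ≫ Scheme.Opens.ι W ≫ U.hom = (t.left ⁻¹ᵁ W).ι ≫ P.hom
          rw [Scheme.Hom.resLE_comp_ι_assoc, Over.w t])
      refine ⟨Y, etOpenι Y₀ _ ≫ f₀, ⟨W, hW, ⟨EtOver.homMk w ?_⟩⟩, ⟨⟨z₀, ?_⟩, ?_⟩⟩
      · change (yon S).map w ≫ ((yon S).map _ ≫ 𝟙 _) ≫ p = (yon S).map _ ≫ (yon S).map s ≫ E.obj.hom
        rw [Category.comp_id, ← sq.w, ← Functor.map_comp_assoc, ← Functor.map_comp_assoc]
        congr 2
        exact Over.OverMorphism.ext (Scheme.Hom.resLE_comp_ι _ _)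
      · show t.left z₀ ∈ W
        rw [ht]; exact huW
      · exact hsx
    choose Y f hf hx using hpt
    refine (etTop X.obj).superset_covering ?_ (ofArrows_mem_etTop Y f fun x => ⟨x, hx x⟩)
    rintro V v ⟨_, a, _, ⟨i⟩, rfl⟩
    exact R.downward_closed (hf i) a
  obtain ⟨κ, _, Z, z, hZ, hz, -, hcov⟩ := (etAff X.obj).exists_refine R hE hR
  refine secProj_of_cover hF hE Z z hZ hcov fun i => ?_
  obtain ⟨W, hW, ⟨q⟩⟩ := hz i
  exact secProj_tensor hF q (hZ i) (hW : IsAffine _) (h W hW)

end Chart

end Groth.Agent.H12AlgSp.BCMod
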