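import Groth.Agent.H12AlgSp.BCMod.Over

/-!
Quasi-coherent modules on a site with affine objects are those commuting with base change between affine objects.
-/

set_option backward.isDefEq.respectTransparency false

universe w v₁ u₁

open CategoryTheory CategoryTheory.Limits Opposite

namespace Groth.Agent.H12AlgSp.BCMod

variable {C : Type u₁} [Category.{v₁} C] {J : GrothendieckTopology C}
  {Rsh : Sheaf J CommRingCat.{w}} [J.HasSheafCompose (forget₂ CommRingCat.{w} RingCat.{w})]
  {A : AffSite J Rsh.obj} [HasSheafify J AddCommGrpCat.{w}] [J.WEqualsLocallyBijective AddCommGrpCat.{w}]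

/-- A module with a global presentation commutes with base change. -/
theorem IsBCMod.of_presentation {M : SheafOfModules.{w} (ringS Rsh)} (P : M.Presentation) : IsBCMod A M := by
  exact IsBCMod.of_iso (IsColimit.coconePointUniqueUpToIso (colimit.isColimit _) P.isColimit)
    (IsBCMod.cokernel _ (IsBCMod.free _) (IsBCMod.free _))

section Terminal

variable {T : C} (hT : IsTerminal T) (hA : A.aff T) {M : SheafOfModules.{w} (ringS Rsh)}

/-- The section given by an element over a terminal object. -/
noncomputable def secT (x : M.val.obj (op T)) : M.sections :=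
  PresheafOfModules.sectionsMk (fun Y => (M.val.map (hT.from Y.unop).op).hom x) fun Y Y' f => by
    have e : (hT.from Y'.unop).op = (hT.from Y.unop).op ≫ f :=
      Quiver.Hom.unop_inj (hT.hom_ext _ _)
    rw [e, M.val.map_comp]
    rfl

include hA in
theorem epi_secT (hM : IsBCMod A M) :
    Epi ((M.freeHomEquiv (I := M.val.obj (op T))).symm (secT hT)) := by
  refine ⟨fun {N} a b e => ?_⟩
  have hs : ∀ x, SheafOfModules.sectionsMap a (secT hT x) = SheafOfModules.sectionsMap b (secT hT x) := fun x => by
    have h := congr_fun (congrArg (N.freeHomEquiv (I := M.val.obj (op T))) e) x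
    rw [SheafOfModules.freeHomEquiv_comp_apply, SheafOfModules.freeHomEquiv_comp_apply, Equiv.apply_symm_apply] at h
    exact h
  have haff : ∀ Y : C, A.aff Y → ∀ z : M.val.obj (op Y), (a.val.app (op Y)).hom z = (b.val.app (op Y)).hom z := by
    intro Y hY z
    obtain ⟨t, ht⟩ := (hM (hT.from Y) hY hA).2 (toSec (toPM M) (hT.from Y) z)
    change (a.val.app (op Y)).hom (ofSec (toPM M) (toSec (toPM M) (hT.from Y) z)) =
      (b.val.app (op Y)).hom (ofSec (toPM M) (toSec (toPM M) (hT.from Y) z))
    rw [← ht]
    clear ht
    induction t with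
    | zero => rw [map_zero]; exact (map_zero _).trans (map_zero _).symm
    | add p q hp hq =>
      rw [map_add]
      exact ((map_add _ _ _).trans (congrArg₂ (· + ·) hp hq)).trans (map_add _ _ _).symm
    | tmul r x =>
      rw [ext_tmul]
      refine ((a.val.app (op Y)).hom.map_smul _ _).trans (Eq.trans ?_ ((b.val.app (op Y)).hom.map_smul _ _).symm)
      exact congrArg (r • toSec (toPM N) (hT.from Y) ·)
        (congrArg (fun s : N.sections => s.1 (op Y)) (hs (ofSec (toPM M) x)))
  apply SheafOfModules.hom_ext
  refine PresheafOfModules.hom_ext fun Y => ModuleCat.hom_ext (LinearMap.ext fun z => ?_)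
  obtain ⟨R, hR, hfac⟩ := A.exists_affine_cover Y.unop
  refine sheaf_ext (P := toPM N) N.isSheaf hR _ _ fun V f hf => ?_
  obtain ⟨B, p, q, hB, rfl⟩ := hfac f hf
  refine ((PresheafOfModules.naturality_apply a.val (p ≫ q).op z).symm.trans ?_).trans
    (PresheafOfModules.naturality_apply b.val (p ≫ q).op z)
  rw [op_comp, M.val.map_comp]
  refine ((PresheafOfModules.naturality_apply a.val p.op ((M.val.map q.op).hom z)).trans ?_).trans
    (PresheafOfModules.naturality_apply b.val p.op ((M.val.map q.op).hom z)).symm
  exact congrArg _ (haff B hB _)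

/-- Generators given by all sections over an affine terminal object. -/
noncomputable def genT (hM : IsBCMod A M) : M.GeneratingSections :=
  ⟨M.val.obj (op T), secT hT, epi_secT hT hA hM⟩

/-- A module commuting with base change has a presentation if the site has an affine terminal object. -/
noncomputable def presentationT (hM : IsBCMod A M) : M.Presentation :=
  ⟨genT hT hA hM, genT hT hA (IsBCMod.kernel _ (IsBCMod.free _) hM)⟩

end Terminal

variable [∀ X, HasSheafify (J.over X) AddCommGrpCat.{w}]
  [∀ X, (J.over X).WEqualsLocallyBijective AddCommGrpCat.{w}]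
  [∀ X, (J.over X).HasSheafCompose (forget₂ CommRingCat.{w} RingCat.{w})]
  {M : SheafOfModules.{w} (ringS Rsh)}

omit [HasSheafify J AddCommGrpCat.{w}] [J.WEqualsLocallyBijective AddCommGrpCat.{w}] in
/-- Quasi-coherent modules commute with base change. -/
theorem IsBCMod.of_isQuasicoherent (hM : M.IsQuasicoherent) : IsBCMod A M := by
  obtain ⟨q⟩ := hM.nonempty_quasicoherentData
  intro Z E g hZ hE
  obtain ⟨U, hU⟩ := exists_affCov (A := A) hE (q.coversTop E)
  refine isBC_of_cover M.isSheaf g hZ U fun i W' W r hW' hW a => ?_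
  obtain ⟨j, ⟨b⟩⟩ := hU i
  let P := q.presentation j
  have h : AllBC (A.over (q.X j)) ((M.over (q.X j)).val : PM (Rsh.over (q.X j)).obj) :=
    IsBCMod.of_presentation (Rsh := Rsh.over (q.X j)) (A := A.over (q.X j)) P
  exact h (Over.homMk r : Over.mk (r ≫ a ≫ b) ⟶ Over.mk (a ≫ b)) hW' hW

omit [HasSheafify J AddCommGrpCat.{w}] [J.WEqualsLocallyBijective AddCommGrpCat.{w}] in
/-- Modules commuting with base change are quasi-coherent. -/
theorem IsBCMod.isQuasicoherent (hM : IsBCMod A M) : M.IsQuasicoherent :=
  SheafOfModules.QuasicoherentData.isQuasicoherent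
    { I := { X : C // A.aff X }
      X := fun i => i.1
      coversTop := fun X => by
        obtain ⟨R, hR, h⟩ := A.exists_affine_cover X
        refine J.superset_covering (fun Y f hf => ?_) hR
        obtain ⟨B, a, b, hB, -⟩ := h f hf
        exact ⟨⟨B, hB⟩, ⟨a⟩⟩
      presentation := fun i => presentationT (Rsh := Rsh.over i.1) (A := A.over i.1) Over.mkIdTerminal i.2
        (fun Z E g hZ hE => hM g.left hZ hE) }

omit [HasSheafify J AddCommGrpCat.{w}] [J.WEqualsLocallyBijective AddCommGrpCat.{w}] in
theorem isQuasicoherent_iff (A : AffSite J Rsh.obj) : M.IsQuasicoherent ↔ IsBCMod A M :=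
  ⟨IsBCMod.of_isQuasicoherent, IsBCMod.isQuasicoherent⟩

end Groth.Agent.H12AlgSp.BCMod
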