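import Groth.Agent.H12AlgSp.BCMod.Descent
import Mathlib.Algebra.Category.ModuleCat.Sheaf.Abelian
import Mathlib.Algebra.Category.ModuleCat.Sheaf.Free
import Mathlib.Algebra.Category.ModuleCat.Sheaf.Limits

/-!
Sheaves of modules commuting with base change between affine objects: colimits, kernels, extensions.
-/

set_option backward.isDefEq.respectTransparency false

universe w v₁ u₁

open CategoryTheory CategoryTheory.Limits Opposite

namespace Groth.Agent.H12AlgSp.BCMod

variable {C : Type u₁} [Category.{v₁} C] {J : GrothendieckTopology C}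
  (Rsh : Sheaf J CommRingCat.{w}) [J.HasSheafCompose (forget₂ CommRingCat.{w} RingCat.{w})]
  {A : AffSite J Rsh.obj}

/-- The underlying sheaf of rings. -/
noncomputable abbrev ringS : Sheaf J RingCat.{w} := (sheafCompose J (forget₂ CommRingCat.{w} RingCat.{w})).obj Rsh

/-- The identity of the presheaf of rings. -/
noncomputable def α₀ : Rsh.obj ⋙ forget₂ CommRingCat.{w} RingCat.{w} ⟶ (ringS Rsh).obj := 𝟙 _

variable {Rsh}

instance : IsIso (α₀ Rsh) := inferInstanceAs (IsIso (𝟙 (ringS Rsh).obj))
instance : Presheaf.IsLocallyInjective J (α₀ Rsh) := inferInstance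
instance : Presheaf.IsLocallySurjective J (α₀ Rsh) := inferInstance

/-- The underlying presheaf of modules. -/
noncomputable abbrev toPM (M : SheafOfModules.{w} (ringS Rsh)) : PM Rsh.obj := M.val

/-- A sheaf of modules commutes with base change between affine objects. -/
def IsBCMod (A : AffSite J Rsh.obj) (M : SheafOfModules.{w} (ringS Rsh)) : Prop := AllBC A (toPM M)

/-- Restriction of scalars along the identity. -/
noncomputable def resId (P : PM Rsh.obj) :
    (PresheafOfModules.restrictScalars (α₀ Rsh)).obj P ≅ P :=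
  PresheafOfModules.isoMk (fun X => LinearEquiv.toModuleIso
    (X₁ := ((PresheafOfModules.restrictScalars (α₀ Rsh)).obj P).obj X)
    { toFun := fun x => x
      invFun := fun x => x
      map_add' := fun _ _ => rfl
      map_smul' := fun _ _ => rfl
      left_inv := fun _ => rfl
      right_inv := fun _ => rfl }) (fun _ _ _ => rfl)

theorem allBC_iso {P Q : PM Rsh.obj} (e : P ≅ Q) (h : AllBC A P) : AllBC A Q :=
  fun _ _ g hZ hE => isBC_of_iso g e (h g hZ hE)

theorem IsBCMod.of_iso {M N : SheafOfModules.{w} (ringS Rsh)} (e : M ≅ N) (h : IsBCMod A M) : IsBCMod A N :=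
  allBC_iso (A := A) ((SheafOfModules.forget _).mapIso e) h

theorem isBCMod_unit : IsBCMod A (SheafOfModules.unit (ringS Rsh)) := fun _ _ g _ _ => isBC_unit g

variable [HasSheafify J AddCommGrpCat.{w}] [J.WEqualsLocallyBijective AddCommGrpCat.{w}]

variable (Rsh) in
/-- The right adjoint of sheafification. -/
noncomputable abbrev fgt : SheafOfModules.{w} (ringS Rsh) ⥤ PM Rsh.obj :=
  SheafOfModules.forget _ ⋙ PresheafOfModules.restrictScalars (α₀ Rsh)

variable (Rsh) in
/-- Sheafification of presheaves of modules. -/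
noncomputable abbrev shfy : PM Rsh.obj ⥤ SheafOfModules.{w} (ringS Rsh) :=
  PresheafOfModules.sheafification (α₀ Rsh)

variable (Rsh) in
/-- The sheafification adjunction. -/
noncomputable abbrev shfyAdj : shfy Rsh ⊣ fgt Rsh := PresheafOfModules.sheafificationAdjunction (α₀ Rsh)

variable {K : Type*} [Category K] {D : K ⥤ SheafOfModules.{w} (ringS Rsh)} (c : Cocone D)
  (cp : Cocone (D ⋙ fgt Rsh)) (hcp : IsColimit cp)

/-- The comparison from the presheaf colimit. -/
noncomputable def comparison : cp.pt ⟶ (fgt Rsh).obj c.pt := hcp.desc ((fgt Rsh).mapCocone c)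

theorem comparison_locallyBijective (hc : IsColimit c) :
    Presheaf.IsLocallyInjective J ((PresheafOfModules.toPresheaf _).map (comparison c cp hcp)) ∧
      Presheaf.IsLocallySurjective J ((PresheafOfModules.toPresheaf _).map (comparison c cp hcp)) := by
  let e : (D ⋙ fgt Rsh) ⋙ shfy Rsh ≅ D :=
    Functor.associator _ _ _ ≪≫ Functor.isoWhiskerLeft D (asIso (shfyAdj Rsh).counit) ≪≫ D.rightUnitor
  let i := IsColimit.coconePointsIsoOfNatIso (isColimitOfPreserves (shfy Rsh) hcp) hc e
  have hcomp : comparison c cp hcp = (shfyAdj Rsh).unit.app cp.pt ≫ (fgt Rsh).map i.hom := by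
    refine hcp.hom_ext fun j => ?_
    rw [comparison, IsColimit.fac, ← Category.assoc]
    have h1 : cp.ι.app j ≫ (shfyAdj Rsh).unit.app cp.pt =
        (shfyAdj Rsh).unit.app ((fgt Rsh).obj (D.obj j)) ≫ (fgt Rsh).map ((shfy Rsh).map (cp.ι.app j)) :=
      (shfyAdj Rsh).unit.naturality (cp.ι.app j)
    rw [h1, Category.assoc, ← Functor.map_comp,
      show (shfy Rsh).map (cp.ι.app j) ≫ i.hom = e.hom.app j ≫ c.ι.app j from
        IsColimit.comp_coconePointsIsoOfNatIso_hom (isColimitOfPreserves (shfy Rsh) hcp) hc e j,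
      Functor.map_comp, show e.hom.app j = (shfyAdj Rsh).counit.app (D.obj j) by simp [e],
      Adjunction.right_triangle_components_assoc]
    rfl
  rw [hcomp, Functor.map_comp]
  have : IsIso ((PresheafOfModules.toPresheaf _).map ((fgt Rsh).map i.hom)) := inferInstance
  rw [PresheafOfModules.toPresheaf_map_sheafificationAdjunction_unit_app]
  have h1 : Presheaf.IsLocallyInjective J (CategoryTheory.toSheafify J cp.pt.presheaf) := inferInstance
  have h2 : Presheaf.IsLocallySurjective J (CategoryTheory.toSheafify J cp.pt.presheaf) := inferInstance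
  refine ⟨?_, ?_⟩
  · apply +allowSynthFailures Presheaf.isLocallyInjective_comp
  · apply +allowSynthFailures Presheaf.isLocallySurjective_comp

theorem comparison_app_bijective (hc : IsColimit c) (hP : AllBC A cp.pt) {E : C} (hE : A.aff E) :
    Function.Bijective ((comparison c cp hcp).app (op E)).hom :=
  have := (comparison_locallyBijective c cp hcp hc).1
  have := (comparison_locallyBijective c cp hcp hc).2
  app_bijective _ hP c.pt.isSheaf hE

omit hcp in
/-- Colimits of sheaves commuting with base change commute with base change. -/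
theorem IsBCMod.colimit {K : Type*} [Category K] {D : K ⥤ SheafOfModules.{w} (ringS Rsh)} (c : Cocone D)
    (hc : IsColimit c) [HasColimit (D ⋙ fgt Rsh)]
    [∀ {Z E : C} (g : Z ⟶ E), PreservesColimit (D ⋙ fgt Rsh) (Φ Rsh.obj g)]
    [∀ {Z E : C} (g : Z ⟶ E), PreservesColimit (D ⋙ fgt Rsh) (Ψ Rsh.obj g)]
    (h : ∀ j, IsBCMod A (D.obj j)) : IsBCMod A c.pt := by
  have hj : ∀ j, AllBC A ((D ⋙ fgt Rsh).obj j) := fun j => allBC_iso (resId _).symm (h j)
  have hP : AllBC A (colimit.cocone (D ⋙ fgt Rsh)).pt := fun Z E g hZ hE =>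
    isBC_of_isColimit g _ (colimit.isColimit _) fun j => hj j g hZ hE
  exact allBC_iso (resId _) (allBC_of_bijective hP
    fun X hX => comparison_app_bijective c _ (colimit.isColimit _) hc hP hX)

theorem IsBCMod.free (I : Type w) : IsBCMod A (SheafOfModules.free (R := ringS Rsh) I) :=
  IsBCMod.colimit (SheafOfModules.freeCofan I) (SheafOfModules.isColimitFreeCofan I) fun _ => isBCMod_unit

theorem IsBCMod.cokernel {M N : SheafOfModules.{w} (ringS Rsh)} (f : M ⟶ N) (hM : IsBCMod A M) (hN : IsBCMod A N) :
    IsBCMod A (Limits.cokernel f) := by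
  have h : ∀ j, IsBCMod A ((parallelPair f 0).obj j) := fun j => match j with
    | WalkingParallelPair.zero => hM
    | WalkingParallelPair.one => hN
  exact IsBCMod.colimit (D := parallelPair f 0) (colimit.cocone (parallelPair f 0)) (colimit.isColimit _) h

theorem IsBCMod.finLimit {K : Type} [SmallCategory K] [FinCategory K] {D : K ⥤ SheafOfModules.{w} (ringS Rsh)}
    (c : Cone D) (hc : IsLimit c) (h : ∀ j, IsBCMod A (D.obj j)) : IsBCMod A c.pt := by
  intro Z E g hZ hE
  have h1 : PreservesFiniteLimits (Φ Rsh.obj g) := preservesFiniteLimits_Φ g (A.flat g hE hZ)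
  let hc' : IsLimit ((SheafOfModules.forget (ringS Rsh)).mapCone c) := isLimitOfPreserves _ hc
  have h2 : ∀ j, IsBC (Rc := Rsh.obj) ((D ⋙ SheafOfModules.forget (ringS Rsh)).obj j) g := fun j => h j g hZ hE
  exact isBC_of_isLimit (Rc := Rsh.obj) g ((SheafOfModules.forget (ringS Rsh)).mapCone c) hc' h2

theorem IsBCMod.kernel {M N : SheafOfModules.{w} (ringS Rsh)} (f : M ⟶ N) (hM : IsBCMod A M) (hN : IsBCMod A N) :
    IsBCMod A (Limits.kernel f) := by
  have h : ∀ j, IsBCMod A ((parallelPair f 0).obj j) := fun j => match j with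
    | WalkingParallelPair.zero => hM
    | WalkingParallelPair.one => hN
  exact IsBCMod.finLimit (limit.cone (parallelPair f 0)) (limit.isLimit _) h

theorem mono_app_injective {M N : SheafOfModules.{w} (ringS Rsh)} (f : M ⟶ N) [Mono f] (X : Cᵒᵖ) :
    Function.Injective (f.val.app X).hom := by
  have : Mono (f.val.app X) :=
    inferInstanceAs (Mono ((SheafOfModules.forget _ ⋙ PresheafOfModules.evaluation _ X).map f))
  exact (ModuleCat.mono_iff_injective _).1 this

section ShortExact

variable {S : ShortComplex (SheafOfModules.{w} (ringS Rsh))} (hS : S.ShortExact)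

include hS in
theorem exact_app (X : Cᵒᵖ) : Function.Exact (S.f.val.app X).hom (S.g.val.app X).hom := by
  have := hS.mono_f
  let G := SheafOfModules.forget (ringS Rsh) ⋙ PresheafOfModules.evaluation _ X
  exact (ShortComplex.ShortExact.moduleCat_exact_iff_function_exact _).1
    (ShortComplex.exact_of_f_is_kernel (S.map G)
      ((KernelFork.isLimitMapConeEquiv _ G) (isLimitOfPreserves G hS.fIsKernel)))

include hS in
theorem locallySurjective_g :
    Presheaf.IsLocallySurjective J ((PresheafOfModules.toPresheaf _).map ((fgt Rsh).map S.g)) := by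
  have := hS.mono_f
  have := hS.epi_g
  let D := parallelPair S.f 0
  let c : Cocone D := CokernelCofork.ofπ S.g S.zero
  have hc : IsColimit c := hS.gIsCokernel
  let cp := colimit.cocone (D ⋙ fgt Rsh)
  have := (comparison_locallyBijective c cp (colimit.isColimit _) hc).2
  have hfac : (colimit.ι (D ⋙ fgt Rsh) WalkingParallelPair.one) ≫ comparison c cp (colimit.isColimit _) =
      (fgt Rsh).map S.g := colimit.ι_desc _ _
  rw [← hfac, Functor.map_comp]
  have : Epi (colimit.ι (D ⋙ fgt Rsh) WalkingParallelPair.one) := by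
    refine ⟨fun a b e => colimit.hom_ext fun j => ?_⟩
    cases j with
    | zero => rw [← colimit.w (D ⋙ fgt Rsh) WalkingParallelPairHom.left, Category.assoc, Category.assoc, e]
    | one => exact e
  have h2 : Presheaf.IsLocallySurjective J
      ((PresheafOfModules.toPresheaf _).map (colimit.ι (D ⋙ fgt Rsh) WalkingParallelPair.one)) := by
    refine Presheaf.isLocallySurjective_of_surjective _ _ fun X => ?_
    have : Epi ((PresheafOfModules.evaluation _ X).map (colimit.ι (D ⋙ fgt Rsh) WalkingParallelPair.one)) :=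
      inferInstance
    exact (ModuleCat.epi_iff_surjective _).1 this
  exact inferInstance

include hS in
theorem IsBCMod.extension (h₁ : IsBCMod A S.X₁) (h₃ : IsBCMod A S.X₃) : IsBCMod A S.X₂ := by
  have := hS.mono_f
  have : Presheaf.IsLocallySurjective J
      ((PresheafOfModules.toPresheaf _).map (show toPM S.X₂ ⟶ toPM S.X₃ from S.g.val)) := locallySurjective_g hS
  exact allBC_of_exact (show toPM S.X₁ ⟶ toPM S.X₂ from S.f.val) (show toPM S.X₂ ⟶ toPM S.X₃ from S.g.val)
    (fun X => mono_app_injective S.f (op X)) (fun X => exact_app hS (op X)) h₁ S.X₂.isSheaf S.X₃.isSheaf h₃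

end ShortExact

end Groth.Agent.H12AlgSp.BCMod
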