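import Groth.Agent.H12AlgSp.BCMod.Closure
import Mathlib.CategoryTheory.Sites.CoversTop.Basic
import Mathlib.RingTheory.Flat.FaithfullyFlat.Basic

/-!
Sites with a class of affine objects, and exactness of the Cech complex of a finite affine cover.
-/

set_option backward.isDefEq.respectTransparency false

universe w v₁ u₁

open CategoryTheory CategoryTheory.Limits Opposite
open scoped TensorProduct

namespace Groth.Agent.H12AlgSp.BCMod

variable {C : Type u₁} [Category.{v₁} C]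

/-- A site with a class of affine objects on which a presheaf of commutative rings behaves as on affine schemes. -/
structure AffSite (J : GrothendieckTopology C) (Rc : Cᵒᵖ ⥤ CommRingCat.{w}) where
  aff : C → Prop
  exists_pullback : ∀ {E Z₁ Z₂ : C} (g₁ : Z₁ ⟶ E) (g₂ : Z₂ ⟶ E), aff E → aff Z₁ → aff Z₂ →
    ∃ (W : C) (p₁ : W ⟶ Z₁) (p₂ : W ⟶ Z₂), aff W ∧ IsPullback p₁ p₂ g₁ g₂ ∧
      IsPushout (Rc.map g₁.op) (Rc.map g₂.op) (Rc.map p₁.op) (Rc.map p₂.op)
  flat : ∀ {E Z : C} (g : Z ⟶ E), aff E → aff Z → (Rc.map g.op).hom.Flat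
  exists_refine : ∀ {E : C} (R : Sieve E), aff E → R ∈ J E →
    ∃ (κ : Type) (_ : Finite κ) (Z : κ → C) (z : ∀ i, Z i ⟶ E), (∀ i, aff (Z i)) ∧ (∀ i, R.arrows (z i)) ∧
      Sieve.ofArrows Z z ∈ J E ∧
      ∀ p : PrimeSpectrum (Rc.obj (op E)), ∃ (i : κ) (q : PrimeSpectrum (Rc.obj (op (Z i)))),
        PrimeSpectrum.comap (Rc.map (z i).op).hom q = p
  exists_affine_cover : ∀ X : C, ∃ R ∈ J X, ∀ ⦃Y : C⦄ (f : Y ⟶ X), R.arrows f →
    ∃ (A : C) (a : Y ⟶ A) (b : A ⟶ X), aff A ∧ a ≫ b = f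

variable {J : GrothendieckTopology C} {Rc : Cᵒᵖ ⥤ CommRingCat.{w}} {A : AffSite J Rc} (P : PM Rc)

/-- `P` commutes with base change between affine objects. -/
def AllBC (A : AffSite J Rc) (P : PM Rc) : Prop :=
  ∀ ⦃Z E : C⦄ (g : Z ⟶ E), A.aff Z → A.aff E → IsBC P g

theorem subsingleton_of_forall_tensor {R : Type w} [CommRing R] {Q : Type w} [AddCommGroup Q] [Module R Q]
    {κ : Type*} (B : κ → Type w) [∀ i, CommRing (B i)] [∀ i, Algebra R (B i)] [∀ i, Module.Flat R (B i)]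
    (hsur : ∀ p : PrimeSpectrum R, ∃ i, ∃ q : PrimeSpectrum (B i), PrimeSpectrum.comap (algebraMap R (B i)) q = p)
    (h : ∀ i (x : B i ⊗[R] Q), x = 0) (q : Q) : q = 0 := by
  have hI : LinearMap.ker (LinearMap.toSpanSingleton R Q q) = ⊤ := by
    by_contra hne
    obtain ⟨m, hm, hle⟩ := Ideal.exists_le_maximal _ hne
    obtain ⟨i, p, hp⟩ := hsur ⟨m, hm.isPrime⟩
    let f := (LinearMap.ker (LinearMap.toSpanSingleton R Q q)).liftQ (LinearMap.toSpanSingleton R Q q) le_rfl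
    have hinj : Function.Injective f := LinearMap.ker_eq_bot.1 (Submodule.ker_liftQ_eq_bot _ _ _ le_rfl)
    have h1 : ((1 : B i) ⊗ₜ[R] (Submodule.Quotient.mk 1 : R ⧸ LinearMap.ker (LinearMap.toSpanSingleton R Q q))) = 0 :=
      Module.Flat.lTensor_preserves_injective_linearMap (M := B i) f hinj ((h i _).trans (map_zero _).symm)
    let I : Ideal R := LinearMap.ker (LinearMap.toSpanSingleton R Q q)
    let mB := (Ideal.Quotient.mkₐ R (I.map (algebraMap R (B i))))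
    let j : R ⧸ I →ₗ[R] B i ⧸ I.map (algebraMap R (B i)) :=
      Submodule.liftQ I (mB.toLinearMap.comp (Algebra.linearMap R (B i))) fun r hr =>
        Ideal.Quotient.eq_zero_iff_mem.2 (Ideal.mem_map_of_mem _ hr)
    have h2 := congrArg (TensorProduct.lift ((LinearMap.mul R _).compl₁₂ mB.toLinearMap j)) h1
    rw [map_zero, TensorProduct.lift.tmul] at h2
    change mB 1 * mB (algebraMap R (B i) 1) = 0 at h2
    simp only [map_one, mul_one] at h2
    rw [← map_one mB] at h2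
    refine p.2.ne_top ((Ideal.eq_top_iff_one _).2 ?_)
    have h3 : (1 : B i) ∈ I.map (algebraMap R (B i)) := Ideal.Quotient.eq_zero_iff_mem.1 (show Ideal.Quotient.mk _ (1 : B i) = 0 from h2)
    have h4 : I.map (algebraMap R (B i)) ≤ p.asIdeal := by
      rw [Ideal.map_le_iff_le_comap]
      refine le_trans hle ?_
      exact (congrArg PrimeSpectrum.asIdeal hp).ge
    exact h4 h3
  have : (1 : R) ∈ LinearMap.ker (LinearMap.toSpanSingleton R Q q) := by rw [hI]; trivial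
  simpa using this

/-- Exactness can be tested after faithfully flat families. -/
theorem exact_of_tensor {R : Type w} [CommRing R] {L M N : Type w} [AddCommGroup L] [Module R L] [AddCommGroup M]
    [Module R M] [AddCommGroup N] [Module R N] (f : L →ₗ[R] M) (g : M →ₗ[R] N) (hfg : g.comp f = 0)
    {κ : Type*} (B : κ → Type w) [∀ i, CommRing (B i)] [∀ i, Algebra R (B i)] [∀ i, Module.Flat R (B i)]
    (hsur : ∀ p : PrimeSpectrum R, ∃ i, ∃ q : PrimeSpectrum (B i), PrimeSpectrum.comap (algebraMap R (B i)) q = p)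
    (h : ∀ i, Function.Exact (f.lTensor (B i)) (g.lTensor (B i))) : Function.Exact f g := by
  intro x
  refine ⟨fun hx => ?_, fun ⟨y, hy⟩ => by rw [← hy]; exact LinearMap.congr_fun hfg y⟩
  let K := LinearMap.ker g
  let f' : L →ₗ[R] K := f.codRestrict K fun y => LinearMap.congr_fun hfg y
  suffices Submodule.Quotient.mk (p := LinearMap.range f') (⟨x, hx⟩ : K) = 0 by
    obtain ⟨y, hy⟩ := (Submodule.Quotient.mk_eq_zero _).1 this
    exact ⟨y, congrArg Subtype.val hy⟩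
  refine subsingleton_of_forall_tensor B hsur (fun i z => ?_) _
  obtain ⟨z, rfl⟩ := LinearMap.lTensor_surjective (B i) (Submodule.mkQ_surjective _) z
  obtain ⟨y, hy⟩ := (h i (K.subtype.lTensor (B i) z)).1 (by
    rw [← LinearMap.lTensor_comp_apply, show g.comp K.subtype = 0 from LinearMap.ext fun k => k.2,
      LinearMap.lTensor_zero, LinearMap.zero_apply])
  have hy' : f'.lTensor (B i) y = z :=
    Module.Flat.lTensor_preserves_injective_linearMap (M := B i) K.subtype K.injective_subtype (by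
      rw [← LinearMap.lTensor_comp_apply]; exact hy)
  rw [← hy', ← LinearMap.lTensor_comp_apply, LinearMap.range_mkQ_comp, LinearMap.lTensor_zero,
    LinearMap.zero_apply]

variable {P}

theorem map_res_mu {E K Z₁ Z₂ F₁ F₂ : C} {k : K ⟶ E} {g₁ : Z₁ ⟶ E} {g₂ : Z₂ ⟶ E} {f₁ : F₁ ⟶ E} {f₂ : F₂ ⟶ E}
    (h : Z₂ ⟶ Z₁) (hh : h ≫ g₁ = g₂) (q₁ : F₁ ⟶ K) (p₁ : F₁ ⟶ Z₁) (hq₁ : q₁ ≫ k = f₁) (hp₁ : p₁ ≫ g₁ = f₁)
    (q₂ : F₂ ⟶ K) (p₂ : F₂ ⟶ Z₂) (hq₂ : q₂ ≫ k = f₂) (hp₂ : p₂ ≫ g₂ = f₂)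
    (φ : F₂ ⟶ F₁) (hφ : φ ≫ f₁ = f₂) (eq : φ ≫ q₁ = q₂) (ep : φ ≫ p₁ = p₂ ≫ h)
    (t : RingOf Rc k ⊗[Rc.obj (op E)] Sec P g₁) :
    res P φ hφ (mu P q₁ p₁ hq₁ hp₁ t) = mu P q₂ p₂ hq₂ hp₂ ((res P h hh).lTensor _ t) := by
  induction t with
  | zero => simp
  | add a b ha hb => simp [ha, hb]
  | tmul b x =>
    rw [mu_tmul, res_smul, LinearMap.lTensor_tmul, mu_tmul]
    congr 1
    · change (Rc.map φ.op).hom ((Rc.map q₁.op).hom b) = (Rc.map q₂.op).hom b
      rw [← map_comp_ring, eq]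
    · rw [res_res, res_res, res_congr P ep]

end Groth.Agent.H12AlgSp.BCMod
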