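import Groth.Agent.H12AlgSp.BCMod.Annihilated
import Groth.Agent.H12AlgSp.QC
import Groth.Agent.H12AlgSp.EtSupport
import Groth.Agent.H12AlgSp.Points

/-!
The submodule of sections supported on the complement of a quasi-compact open subspace.
-/

set_option backward.isDefEq.respectTransparency false

universe u

open CategoryTheory CategoryTheory.Limits AlgebraicGeometry Opposite
open AlgSp Groth.Agent.H12AlgSp

namespace Groth.Agent.H12AlgSp.BCMod

/-- Ideals with the same or smaller zero locus on an affine scheme. -/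
theorem le_radical_of_zeroLocus_subset {W : Scheme.{u}} [IsAffine W] {I J : Ideal Γ(W, ⊤)}
    (h : W.zeroLocus (U := ⊤) (J : Set Γ(W, ⊤)) ⊆ W.zeroLocus (U := ⊤) (I : Set Γ(W, ⊤))) : I ≤ J.radical := by
  intro a ha
  rw [Ideal.radical_eq_sInf, Submodule.mem_sInf]
  rintro p ⟨hJp, hp⟩
  obtain ⟨w, hw⟩ := W.toSpecΓ.surjective (⟨p, hp⟩ : PrimeSpectrum Γ(W, ⊤))
  have h1 : w ∈ W.zeroLocus (U := ⊤) (J : Set Γ(W, ⊤)) := by
    rw [← W.toSpecΓ_preimage_zeroLocus]
    change W.toSpecΓ w ∈ PrimeSpectrum.zeroLocus _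
    rw [hw]
    exact hJp
  have h2 := h h1
  rw [← W.toSpecΓ_preimage_zeroLocus] at h2
  have h3 : W.toSpecΓ w ∈ PrimeSpectrum.zeroLocus (I : Set Γ(W, ⊤)) := h2
  rw [hw] at h3
  exact h3 ha

/-- The complement of a quasi-compact open of an affine scheme is the zero locus of a finitely generated ideal. -/
theorem exists_fg_zeroLocus {W : Scheme.{u}} [IsAffine W] (V : W.Opens) (hV : IsCompact (V : Set W)) :
    ∃ I : Ideal Γ(W, ⊤), I.FG ∧ W.zeroLocus (U := ⊤) (I : Set Γ(W, ⊤)) = (V : Set W)ᶜ := by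
  classical
  obtain ⟨s, hs, he⟩ := (isCompact_and_isOpen_iff_finite_and_eq_biUnion_basicOpen (U := (V : Set W))).1 ⟨hV, V.isOpen⟩
  refine ⟨Ideal.span s, Submodule.fg_span hs, ?_⟩
  rw [Scheme.zeroLocus_span, he]
  ext w
  simp [Scheme.mem_zeroLocus_iff]

variable {S : Scheme.{u}} {X : Sp S} {U : Sp S}

theorem exists_fg_ideal_complement (hX : IsAlgSpace X) (hU : IsAlgSpace U) (j : U ⟶ X)
    (hj : RepWith @IsOpenImmersion j) (hjqc : IsQuasiCompactMor j) (W : EtOver X)
    (hW : IsAffine W.obj.left.left) :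
    ∃ I : Ideal Γ(W.obj.left.left, ⊤), I.FG ∧
      W.obj.left.left.zeroLocus (U := ⊤) (I : Set Γ(W.obj.left.left, ⊤)) =
        {w | Points.ofPt W.obj.hom w ∈ (Set.range (Points.map j))ᶜ} := by
  obtain ⟨V, snd, fst, sq⟩ := hj.1 W.obj.hom
  have : IsOpenImmersion snd.left := hj.2 W.obj.hom fst snd sq
  have : QuasiCompact snd.left := (repWith_quasiCompact_of_mor hj.1 hjqc).2 W.obj.hom fst snd sq
  have : CompactSpace V.left := QuasiCompact.compactSpace_of_compactSpace snd.left
  obtain ⟨I, hI, hz⟩ := exists_fg_zeroLocus snd.left.opensRange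
    (isCompact_range snd.left.continuous)
  refine ⟨I, hI, hz.trans ?_⟩
  ext w
  have hp := congrArg (w ∈ ·) (preimage_ofPt_range sq)
  exact (not_congr (Iff.of_eq hp)).symm

variable (T : Set (Points X))

/-- The points of a chart over a set of points. -/
abbrev chartSet (W : EtOver X) : Set W.obj.left.left := {w | Points.ofPt W.obj.hom w ∈ T}

/-- A finitely generated ideal with the given zero locus. -/
def IsDef (W : EtOver X) (I : Ideal Γ(W.obj.left.left, ⊤)) : Prop :=
  I.FG ∧ W.obj.left.left.zeroLocus (U := ⊤) (I : Set Γ(W.obj.left.left, ⊤)) = chartSet T W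

theorem isDef_map {Z W : EtOver X} (g : Z ⟶ W) {I : Ideal Γ(W.obj.left.left, ⊤)} (h : IsDef T W I) :
    IsDef T Z (I.map g.hom.left.left.appTop.hom) := by
  refine ⟨h.1.map _, ?_⟩
  rw [Ideal.map, Scheme.zeroLocus_span]
  have h2 := Scheme.preimage_zeroLocus g.hom.left.left (U := (⊤ : W.obj.left.left.Opens))
    (I : Set Γ(W.obj.left.left, ⊤))
  refine h2.symm.trans ?_
  rw [h.2]
  ext z
  change Points.ofPt W.obj.hom (g.hom.left.left z) ∈ T ↔ _
  rw [ofPt_map_etOver]
  rfl

variable (M : ModEt X)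

/-- Sections killed by a power of an ideal. -/
noncomputable def powKilled (W : EtOver X) (I : Ideal Γ(W.obj.left.left, ⊤)) :
    Submodule ((OEt X).obj.obj (op W)) ((pm M).obj (op W)) where
  carrier := {x | ∃ n : ℕ, x ∈ killed M W ((I ^ n : Ideal Γ(W.obj.left.left, ⊤)) : Set _)}
  add_mem' {x y} hx hy := by
    obtain ⟨n, hn⟩ := hx
    obtain ⟨m, hm⟩ := hy
    refine ⟨n + m, Submodule.add_mem _ (fun a ha => hn a ?_) fun a ha => hm a ?_⟩
    · exact Ideal.pow_le_pow_right (Nat.le_add_right n m) ha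
    · exact Ideal.pow_le_pow_right (Nat.le_add_left m n) ha
  zero_mem' := ⟨0, Submodule.zero_mem _⟩
  smul_mem' r x hx := by
    obtain ⟨n, hn⟩ := hx
    exact ⟨n, Submodule.smul_mem _ r hn⟩

variable {M T}

theorem powKilled_eq_ann {W : EtOver X} (hW : IsAffine W.obj.left.left) {I : Ideal Γ(W.obj.left.left, ⊤)}
    (hI : IsDef T W I) (x : (pm M).obj (op W)) :
    x ∈ powKilled M W I ↔ W.obj.left.left.zeroLocus (U := ⊤)
      ((annSect (M := M) x : Ideal Γ(W.obj.left.left, ⊤)) : Set Γ(W.obj.left.left, ⊤)) ⊆ chartSet T W := by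
  rw [← hI.2]
  constructor
  · rintro ⟨n, hn⟩
    have hle : I ^ n ≤ annSect (M := M) x := fun a ha => hn a ha
    have : I ≤ (annSect (M := M) x).radical := fun a ha => ⟨n, hle (Ideal.pow_mem_pow ha n)⟩
    exact (Scheme.zeroLocus_radical _ _).ge.trans (W.obj.left.left.zeroLocus_mono this)
  · intro h
    obtain ⟨n, hn⟩ := Ideal.exists_pow_le_of_le_radical_of_fg (le_radical_of_zeroLocus_subset h) hI.1
    exact ⟨n, fun a ha => hn ha⟩

theorem powKilled_congr {W : EtOver X} (hW : IsAffine W.obj.left.left) {I J : Ideal Γ(W.obj.left.left, ⊤)}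
    (hI : IsDef T W I) (hJ : IsDef T W J) : powKilled M W I = powKilled M W J :=
  Submodule.ext fun x => (powKilled_eq_ann hW hI x).trans (powKilled_eq_ann hW hJ x).symm

theorem exists_supported (hM : IsBCEt M) (hex : ∀ W : EtOver X, IsAffine W.obj.left.left → ∃ I, IsDef T W I) :
    ∃ (F' : ModEt X) (ι : F' ⟶ M), Mono ι ∧ F'.IsQuasicoherent ∧
      (∀ (W : EtOver X), IsAffine W.obj.left.left →
        Set.range (ι.val.app (op W)).hom =
          {x : sectModEt M W | W.obj.left.left.zeroLocus (U := ⊤)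
              ((annSect x : Ideal Γ(W.obj.left.left, ⊤)) : Set Γ(W.obj.left.left, ⊤)) ⊆
            {w | Points.ofPt W.obj.hom w ∈ T}}) ∧
      ∀ (W : EtOver X), IsAffine W.obj.left.left →
        ∀ I : Ideal Γ(W.obj.left.left, ⊤), I.FG →
          W.obj.left.left.zeroLocus (U := ⊤) (I : Set Γ(W.obj.left.left, ⊤)) =
            {w | Points.ofPt W.obj.hom w ∈ T} →
          Set.range (ι.val.app (op W)).hom =
            {x : sectModEt M W | ∃ n : ℕ, ∀ a ∈ I ^ n, (upΓ W a) • x = 0} := by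
  choose J hJ using hex
  let N : AffSub M :=
    { obj := fun W hW => powKilled M W (J W hW)
      res_mem := fun {Z W} g hZ hW x hx => by
        rw [powKilled_congr hZ (hJ Z hZ) (isDef_map T g (hJ W hW))]
        obtain ⟨n, hn⟩ := hx
        refine ⟨n, ?_⟩
        rw [← Ideal.map_pow]
        exact map_mem_killed g _ x hn
      gen := fun {Z W} g hZ hW x hx => by
        rw [powKilled_congr hZ (hJ Z hZ) (isDef_map T g (hJ W hW))] at hx
        obtain ⟨n, hn⟩ := hx
        rw [← Ideal.map_pow] at hn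
        refine Submodule.span_mono (Set.image_mono fun s hs => ?_)
          (mem_span_killed_of_fg hM g hZ hW ((hJ W hW).1.pow) x hn)
        exact ⟨n, hs⟩ }
  refine ⟨N.toMod hM, N.incl hM, N.mono_incl hM, N.isQuasicoherent hM, fun W hW => ?_, fun W hW I hI hz => ?_⟩
  · rw [N.range_incl hM hW]
    ext x
    exact powKilled_eq_ann hW (hJ W hW) x
  · rw [N.range_incl hM hW]
    ext x
    exact (iff_of_eq (congrArg (x ∈ ·) (powKilled_congr (M := M) hW (hJ W hW) ⟨hI, hz⟩))).trans Iff.rfl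

end Groth.Agent.H12AlgSp.BCMod
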